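import Cfsg.Agent.Chev.InvElim.Core
import Cfsg.Agent.Known.ChevAut.Base

/-! From the certified elimination to a list of representatives of the classes of involutions. -/

set_option autoImplicit false
set_option linter.unusedSectionVars false

open Cfsg.Lie

namespace Cfsg.Lib.Chev.InvElim

/-- Collection of a word of root elements with unit parameters. -/
def colU (D : ChevalleyDatum) (T : Tab) : ℕ → List ℕ → List ℕ → List ℕ
  | 0, pre, suf => pre.reverse ++ suf
  | _ + 1, pre, [] => pre.reverse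
  | n + 1, [], b :: rest => colU D T n [b] rest
  | n + 1, a :: pre, b :: rest =>
    if a == b then colU D T n pre rest
    else if b < a then
      colU D T n pre (b :: a :: ((((ent D T b).filter fun x => x.1 == a).map fun x => x.2.1) ++ rest))
    else colU D T n (b :: a :: pre) rest

/-- The normal form of a word with unit parameters. -/
def nfU (D : ChevalleyDatum) (T : Tab) (w : List ℕ) : List ℕ := colU D T 5000 [] w

/-- The roots form a set of pairwise commuting positive roots. -/
def okSet (D : ChevalleyDatum) (T : Tab) (S : List ℕ) : Bool :=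
  decide S.Nodup && S.all fun a => decide (hlf D ≤ a ∧ a < D.nroots) && (ent D T a).all fun x => !S.contains x.1

/-- The fundamental reflections of a code. -/
def digs (b : ℕ) : ℕ → ℕ → List ℕ
  | 0, _ => []
  | n + 1, w => if w == 0 then [] else (w % b - 1) :: digs b n (w / b)

/-- The word of a code. -/
def wordOf (D : ChevalleyDatum) (code : ℕ) : List ℕ := digs (D.rank + 1) 80 (code / 16)

/-- The code carries the set onto a canonical set. -/
noncomputable def fin (D : ChevalleyDatum) (C : Cert) (canon : List (List ℕ)) (S : List ℕ) (code : ℕ) : Bool :=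
  let img := S.map fun s => C.wL (wordOf D code) s
  let c := canon.getD (code % 16) []
  decide (code % 16 < canon.length) && (wordOf D code).all (fun i => decide (i < D.rank)) &&
    decide (c.Nodup) && decide (S.length = c.length) && img.all (fun r => c.contains r) &&
    c.all fun r => img.contains r

/-- Cocharacters dual to the roots up to powers of two. -/
def okY (D : ChevalleyDatum) (S : List ℕ) (Y : List (List ℤ)) : Bool :=
  decide (S.Nodup) && (List.range S.length).all fun j => (List.range S.length).all fun k =>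
    let v := ((List.range D.rank).map fun i => (Y.getD j []).getD i 0 * D.cartan i (S.getD k 0)).sum
    if j == k then decide (v = 1 ∨ v = 2) else decide (v = 0)

/-- An edge: a conjugation carrying a canonical set onto another set. -/
def okEdge (D : ChevalleyDatum) (T : Tab) (Sk : List ℕ) (E S' : List ℕ) : Bool :=
  okSet D T S' && (E ++ Sk ++ S').all (fun a => decide (hlf D ≤ a ∧ a < D.nroots)) &&
    decide (nfU D T (E.reverse ++ Sk ++ E) = nfU D T S')

variable {D : ChevalleyDatum} {T : Tab} {C : Cert} {K : Type*} [Field K] [Fintype K] [CharP K 2] (S₀ : Struct D C)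
include S₀

omit S₀ in
theorem sum_fin_range {M : Type*} [AddCommMonoid M] (n : ℕ) (f : ℕ → M) :
    ∑ i : Fin n, f i.val = ((List.range n).map f).sum := by
  rw [Fin.sum_univ_def, ← List.map_coe_finRange_eq_range, List.map_map]
  rfl

/-- The product of the root elements with unit parameters. -/
noncomputable def wK (S : List ℕ) : GL D.Idx K := Pv S₀ S fun _ => 1

theorem wK_append (v w : List ℕ) : wK (K := K) S₀ (v ++ w) = wK S₀ v * wK S₀ w := by simp [wK, Pv]

theorem wK_cons (a : ℕ) (w : List ℕ) : wK (K := K) S₀ (a :: w) = S₀.ok.xG a 1 * wK S₀ w := by simp [wK, Pv]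

theorem wK_nil : wK (K := K) S₀ [] = 1 := by simp [wK, Pv]

theorem wK_reverse : ∀ w : List ℕ, wK (K := K) S₀ w.reverse * wK S₀ w = 1
  | [] => by simp [wK_nil]
  | a :: w => by
    rw [List.reverse_cons, wK_append, wK_cons, wK_nil, mul_one, wK_cons, mul_assoc, ← mul_assoc (S₀.ok.xG a 1),
      xG_self S₀, one_mul, wK_reverse w]

theorem wK_colU (hT : okTab D T = true) : ∀ (n : ℕ) (pre suf : List ℕ),
    (∀ a ∈ pre ++ suf, hlf D ≤ a ∧ a < D.nroots) →
      wK (K := K) S₀ (colU D T n pre suf) = wK S₀ (pre.reverse ++ suf)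
  | 0, pre, suf, _ => by simp [colU]
  | n + 1, pre, [], _ => by simp [colU]
  | n + 1, [], b :: rest, h => by rw [colU, wK_colU hT n [b] rest h]; simp
  | n + 1, a :: pre, b :: rest, h => by
    have ha := h a (by simp)
    have hb := h b (by simp)
    rw [colU]
    split_ifs with h1 h2
    · simp only [beq_iff_eq] at h1
      rw [wK_colU hT n pre rest (fun l hl => h l (by simp at hl ⊢; tauto))]
      subst h1
      simp only [List.reverse_cons, List.append_assoc, List.cons_append, List.nil_append, wK_append, wK_cons,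
        ← mul_assoc (S₀.ok.xG a _), xG_self S₀, one_mul]
    · rw [wK_colU hT n pre _ (fun l hl => by
        simp only [List.mem_append, List.mem_cons, List.mem_map, List.mem_filter] at hl
        rcases hl with h' | rfl | rfl | ⟨x, ⟨hx, -⟩, rfl⟩ | h'
        exacts [h l (by simp [h']), hb, ha, (ent_spec hT hb hx).2.1, h l (by simp [h'])])]
      simp only [List.reverse_cons, List.append_assoc, List.cons_append, List.nil_append, wK_append, wK_cons]
      congr 1
      rw [← mul_assoc, ← mul_assoc, ← mul_assoc]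
      congr 1
      have e := cn (K := K) S₀ hT hb ha 1 1
      simp only [one_pow, mul_one] at e
      have e' : wK (K := K) S₀ (((ent D T b).filter fun x => x.1 == a).map fun x => x.2.1) =
          (((ent D T b).filter fun x => x.1 == a).map fun x => S₀.ok.xG x.2.1 (1 : K)).prod := by
        simp [wK, Pv, List.map_map, Function.comp_def]
      rw [e', mul_assoc (S₀.ok.xG b 1), ← e]
      group
    · rw [wK_colU hT n (b :: a :: pre) rest (fun l hl => h l (by simp at hl ⊢; tauto))]
      simp only [List.reverse_cons, List.append_assoc, List.cons_append, List.nil_append]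

theorem wK_nfU (hT : okTab D T = true) {v w : List ℕ} (hv : ∀ a ∈ v, hlf D ≤ a ∧ a < D.nroots)
    (hw : ∀ a ∈ w, hlf D ≤ a ∧ a < D.nroots) (h : nfU D T v = nfU D T w) : wK (K := K) S₀ v = wK S₀ w := by
  rw [← List.nil_append v, ← List.nil_append w, ← List.reverse_nil, ← wK_colU S₀ hT 5000 [] v (by simpa using hv),
    ← wK_colU S₀ hT 5000 [] w (by simpa using hw)]
  exact congrArg (wK (K := K) S₀) h

theorem okSet_spec {S : List ℕ} (h : okSet D T S = true) :
    S.Nodup ∧ (∀ a ∈ S, hlf D ≤ a ∧ a < D.nroots) ∧ ∀ a ∈ S, ∀ x ∈ ent D T a, x.1 ∉ S := by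
  simp only [okSet, Bool.and_eq_true, decide_eq_true_eq, List.all_eq_true, Bool.not_eq_true', List.contains_eq_mem,
    decide_eq_false_iff_not] at h
  exact ⟨h.1, fun a ha => (h.2 a ha).1, fun a ha => (h.2 a ha).2⟩

theorem set_commute (hT : okTab D T = true) {S : List ℕ} (hpos : ∀ a ∈ S, hlf D ≤ a ∧ a < D.nroots)
    (hcomm : ∀ a ∈ S, ∀ x ∈ ent D T a, x.1 ∉ S) {a b : ℕ} (ha : a ∈ S) (hb : b ∈ S) (s u : K) :
    Commute (S₀.ok.xG a s) (S₀.ok.xG b u) := by
  have e := cn S₀ hT (hpos a ha) (hpos b hb) s u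
  rw [List.filter_eq_nil_iff.2 (fun x hx => by
      simpa using fun h : x.1 = b => hcomm a ha x hx (h ▸ hb)), List.map_nil, List.prod_nil, mul_one,
    mul_assoc, inv_mul_eq_iff_eq_mul] at e
  exact e.symm

theorem to_canon (hT : okTab D T = true) {canon : List (List ℕ)} {S : List ℕ} {code : ℕ}
    (hnd : S.Nodup) (hpos : ∀ a ∈ S, hlf D ≤ a ∧ a < D.nroots) (hcomm : ∀ a ∈ S, ∀ x ∈ ent D T a, x.1 ∉ S)
    (h : fin D C canon S code = true) {t : ℕ → K} (ht : ∀ a ∈ S, t a ≠ 0) :
    code % 16 < canon.length ∧ ∃ t' : ℕ → K, (∀ a ∈ canon.getD (code % 16) [], t' a ≠ 0) ∧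
      Cj S₀ (Pv S₀ S t) (Pv S₀ (canon.getD (code % 16) []) t') := by
  classical
  simp only [fin, Bool.and_eq_true, decide_eq_true_eq, List.all_eq_true, List.contains_eq_mem] at h
  obtain ⟨⟨⟨⟨⟨hlen, hw⟩, hcn⟩, hl⟩, h1⟩, h2⟩ := h
  set c := canon.getD (code % 16) []
  refine ⟨hlen, ?_⟩
  let L : List (Fin D.rank) := (wordOf D code).pmap (fun i hi => ⟨i, hi⟩) hw
  have hL : L.map Fin.val = wordOf D code := by simp [L, List.map_pmap]
  have hAct := S₀.act_nL (F := K) L
  have hnd' : (S.map fun s => C.wL (wordOf D code) s).Nodup := by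
    refine List.Nodup.map_on (fun a ha b hb e => ?_) hnd
    rw [← hL, ← S₀.wpL_val L ⟨a, (hpos a ha).2⟩, ← S₀.wpL_val L ⟨b, (hpos b hb).2⟩] at e
    exact congrArg Fin.val ((S₀.wpL L).injective (Fin.ext e))
  have hperm : (S.map fun s => C.wL (wordOf D code) s).Perm c :=
    (List.perm_ext_iff_of_nodup hnd' hcn).2 fun a => ⟨fun ha => h1 a ha, fun ha => h2 a ha⟩
  choose z cc hcc e using hAct
  let t' : ℕ → K := fun x => if hx : x < D.nroots then
    cc ((S₀.wpL L).symm ⟨x, hx⟩) * t ((S₀.wpL L).symm ⟨x, hx⟩).val else 1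
  have hg : S₀.nL K L ∈ D.group K := by
    refine list_prod_mem fun g hg => ?_
    obtain ⟨i, -, rfl⟩ := List.mem_map.1 hg
    exact S₀.ok.nG_mem_group _ _
  have one : ∀ s ∈ S, S₀.nL K L * S₀.ok.xG s (t s) * (S₀.nL K L)⁻¹ =
      S₀.ok.xG (C.wL (wordOf D code) s) (t' (C.wL (wordOf D code) s)) ∧ t' (C.wL (wordOf D code) s) ≠ 0 := by
    intro s hs
    have hs' := (hpos s hs).2
    have e1 := (e ⟨s, hs'⟩ (t s)).1
    have e2 : (S₀.wpL L ⟨s, hs'⟩).val = C.wL (wordOf D code) s := by rw [S₀.wpL_val, hL]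
    have e3 : t' (C.wL (wordOf D code) s) = cc ⟨s, hs'⟩ * t s := by
      simp only [t', ← e2, Fin.eta]
      rw [dif_pos (S₀.wpL L ⟨s, hs'⟩).isLt, Equiv.symm_apply_apply]
    refine ⟨?_, by rw [e3]; exact mul_ne_zero (hcc _) (ht s hs)⟩
    rw [e3, ← e2]
    exact e1
  have himg : ∀ P : List ℕ, (∀ s ∈ P, s ∈ S) → S₀.nL K L * Pv S₀ P t * (S₀.nL K L)⁻¹ =
      Pv S₀ (P.map fun s => C.wL (wordOf D code) s) t' := by
    intro P
    induction P with
    | nil => intro _; simp [Pv]
    | cons a P ih =>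
      intro hP
      simp only [Pv, List.map_cons, List.prod_cons] at ih ⊢
      rw [← ih fun s hs => hP s (List.mem_cons_of_mem _ hs), ← (one a (hP a List.mem_cons_self)).1]
      group
  refine ⟨t', fun a ha => ?_, S₀.nL K L, hg, ?_⟩
  · obtain ⟨s, hs, rfl⟩ := List.mem_map.1 (hperm.symm.subset ha)
    exact (one s hs).2
  rw [himg S fun _ h => h]
  refine (hperm.map fun r => S₀.ok.xG r (t' r)).prod_eq' ?_
  rw [List.map_map]
  refine List.pairwise_of_forall_mem_list fun x hx y hy => ?_
  obtain ⟨a, ha, rfl⟩ := List.mem_map.1 hx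
  obtain ⟨b, hb, rfl⟩ := List.mem_map.1 hy
  simp only [Function.comp_apply]
  rw [← (one a ha).1, ← (one b hb).1]
  exact (set_commute S₀ hT hpos hcomm ha hb (t a) (t b)).map (MulAut.conj (S₀.nL K L)).toMonoidHom

theorem scale {S : List ℕ} {Y : List (List ℤ)} (h : okY D S Y = true) (hpos : ∀ a ∈ S, a < D.nroots) {t : ℕ → K}
    (ht : ∀ a ∈ S, t a ≠ 0) : Cj S₀ (Pv S₀ S t) (wK S₀ S) := by
  classical
  simp only [okY, Bool.and_eq_true, decide_eq_true_eq, List.all_eq_true, List.mem_range] at h
  obtain ⟨hnd, hY⟩ := h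
  set k := S.length
  let ev : Fin k → ℤ := fun j => ∑ i : Fin D.rank, (Y.getD j.val []).getD i.val 0 * D.cartan i.val (S.getD j.val 0)
  have hv : ∀ j l : Fin k, (∑ i : Fin D.rank, (Y.getD j.val []).getD i.val 0 * D.cartan i.val (S.getD l.val 0)) =
      if j = l then ev j else 0 := by
    intro j l
    by_cases hjl : j = l
    · subst hjl; simp [ev]
    · have := hY j.val j.isLt l.val l.isLt
      rw [if_neg (by simpa [Fin.ext_iff] using hjl), decide_eq_true_eq] at this
      rw [if_neg hjl]
      refine Eq.trans ?_ this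
      exact sum_fin_range D.rank fun i => (Y.getD j.val []).getD i 0 * D.cartan i (S.getD l.val 0)
  have hev : ∀ j, ev j = 1 ∨ ev j = 2 := by
    intro j
    have := hY j.val j.isLt j.val j.isLt
    simp only [beq_self_eq_true, if_true, decide_eq_true_eq] at this
    have e : ev j = ((List.range D.rank).map fun i => (Y.getD j.val []).getD i 0 * D.cartan i (S.getD j.val 0)).sum :=
      sum_fin_range D.rank fun i => (Y.getD j.val []).getD i 0 * D.cartan i (S.getD j.val 0)
    rwa [← e] at this
  have hroot : ∀ j : Fin k, ∃ lam : Kˣ, ((lam ^ ev j : Kˣ) : K) * t (S.getD j.val 0) = 1 := by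
    intro j
    have hm : S.getD j.val 0 ∈ S := by
      rw [List.getD_eq_getElem _ _ j.isLt]; exact List.getElem_mem j.isLt
    have h0 := ht _ hm
    rcases hev j with e | e
    · exact ⟨(Units.mk0 _ h0)⁻¹, by
        rw [e, zpow_one, Units.val_inv_eq_inv_val, Units.val_mk0, inv_mul_cancel₀ h0]⟩
    · obtain ⟨y, hy⟩ := FiniteField.isSquare_of_char_two (ringChar.eq K 2) (t (S.getD j.val 0))⁻¹
      have hy0 : y ≠ 0 := fun h => by rw [h, mul_zero] at hy; exact inv_ne_zero h0 hy
      refine ⟨Units.mk0 y hy0, ?_⟩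
      rw [e, show (2 : ℤ) = ((2 : ℕ) : ℤ) from rfl, zpow_natCast, Units.val_pow_eq_pow_val, Units.val_mk0, sq, ← hy,
        inv_mul_cancel₀ h0]
  choose lam hlam using hroot
  let c : Fin D.rank → Kˣ := fun i => ∏ j : Fin k, lam j ^ (Y.getD j.val []).getD i.val 0
  have hchr : ∀ l : Fin k, (∏ i, c i ^ D.cartan i.val (S.getD l.val 0)) = lam l ^ ev l := by
    intro l
    have hsum : ∀ (x : Kˣ) (f : Fin D.rank → ℤ), ∏ i, x ^ f i = x ^ ∑ i, f i := fun x f => by
      have := map_prod (zpowersHom Kˣ x) (fun i => Multiplicative.ofAdd (f i)) Finset.univ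
      simp only [← ofAdd_sum, zpowersHom_apply, toAdd_ofAdd] at this
      exact this.symm
    simp only [c, ← Finset.prod_zpow, ← zpow_mul]
    rw [Finset.prod_comm]
    simp only [hsum]
    rw [Finset.prod_eq_single_of_mem l (Finset.mem_univ l) (fun j _ hj => by rw [hv j l, if_neg hj, zpow_zero]),
      hv l l, if_pos rfl]
  have hg : Ok.tG D K c ∈ D.group K := by
    show c ∈ (D.group K).comap (Ok.tG D K)
    rw [← Finset.univ_prod_mulSingle c]
    refine Subgroup.prod_mem _ fun i _ => ?_
    rw [Subgroup.mem_comap, ← S₀.ok.hG_simple_eq_tG]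
    exact S₀.ok.hG_mem_group _ _
  refine ⟨Ok.tG D K c, hg, ?_⟩
  have one : ∀ s ∈ S, Ok.tG D K c * S₀.ok.xG s (t s) * (Ok.tG D K c)⁻¹ = S₀.ok.xG s 1 := by
    intro s hs
    obtain ⟨l, hl, rfl⟩ := List.getElem_of_mem hs
    rw [S₀.tG_conj_xG (hpos _ (List.getElem_mem hl))]
    have e1 := hchr ⟨l, hl⟩
    have e2 := hlam ⟨l, hl⟩
    rw [List.getD_eq_getElem _ _ hl] at e1 e2
    rw [e1, e2]
  have : ∀ P : List ℕ, (∀ s ∈ P, s ∈ S) → Ok.tG D K c * Pv S₀ P t * (Ok.tG D K c)⁻¹ = wK S₀ P := by
    intro P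
    induction P with
    | nil => intro _; simp [Pv, wK]
    | cons a P ih =>
      intro hP
      rw [wK_cons, ← one a (hP a List.mem_cons_self), ← ih fun s hs => hP s (List.mem_cons_of_mem _ hs)]
      simp only [Pv, List.map_cons, List.prod_cons]
      group
  exact this S fun _ h => h

theorem edge (hT : okTab D T = true) {Sk E S' : List ℕ} (h : okEdge D T Sk E S' = true) :
    Cj (K := K) S₀ (wK S₀ Sk) (wK S₀ S') := by
  simp only [okEdge, Bool.and_eq_true, List.all_eq_true, decide_eq_true_eq] at h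
  obtain ⟨⟨-, hpos⟩, hnf⟩ := h
  have e := wK_nfU (K := K) S₀ hT (v := E.reverse ++ Sk ++ E) (w := S')
    (fun a ha => hpos a (by simp only [List.mem_append, List.mem_reverse] at ha ⊢; tauto))
    (fun a ha => hpos a (by simp [ha])) hnf
  rw [wK_append, wK_append] at e
  refine ⟨wK S₀ E.reverse, ?_, ?_⟩
  · refine list_prod_mem fun g hg => ?_
    obtain ⟨a, -, rfl⟩ := List.mem_map.1 hg
    exact S₀.ok.xG_mem_group a 1
  · rw [inv_eq_of_mul_eq_one_right (wK_reverse S₀ E), e]

/-- The data of a classification. -/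
structure Cl (D : ChevalleyDatum) where
  /-- canonical sets -/
  canon : List (List ℕ)
  /-- their cocharacters -/
  ys : List (List (List ℤ))
  /-- for each canonical set a conjugation onto a set of another index, or nothing for a representative -/
  red : List (Option (List ℕ × List ℕ × ℕ))

/-- The data are valid: the index of each edge points to a smaller rank in the given order. -/
noncomputable def okCl (D : ChevalleyDatum) (T : Tab) (C : Cert) (X : Cl D) : Bool :=
  decide (0 < X.canon.length ∧ X.canon.getD 0 [] = []) &&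
  (List.range X.canon.length).all fun k =>
    okY D (X.canon.getD k []) (X.ys.getD k []) && (X.canon.getD k []).all (fun a => decide (a < D.nroots)) &&
    match X.red.getD k none with
    | none => true
    | some (E, S', code) => okEdge D T (X.canon.getD k []) E S' && fin D C X.canon S' code && decide (code % 16 < k)

theorem resolve (hT : okTab D T = true) {X : Cl D} (hX : okCl D T C X = true) : ∀ k < X.canon.length,
    ∀ t : ℕ → K, (∀ a ∈ X.canon.getD k [], t a ≠ 0) → ∃ j < X.canon.length, X.red.getD j none = none ∧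
      Cj S₀ (Pv S₀ (X.canon.getD k []) t) (wK S₀ (X.canon.getD j [])) := by
  simp only [okCl, Bool.and_eq_true, List.all_eq_true, List.mem_range, decide_eq_true_eq] at hX
  intro k
  induction k using Nat.strong_induction_on with
  | _ k ih =>
    intro hk t ht
    obtain ⟨⟨hy, hlt⟩, hred⟩ := hX.2 k hk
    have h1 := scale S₀ hy hlt ht
    rcases hr : X.red.getD k none with - | ⟨E, S', code⟩
    · exact ⟨k, hk, hr, h1⟩
    rw [hr] at hred
    simp only [Bool.and_eq_true, decide_eq_true_eq] at hred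
    obtain ⟨⟨he, hf⟩, hlt'⟩ := hred
    have h2 := h1.trans S₀ (edge S₀ hT he)
    obtain ⟨hs1, hs2, hs3⟩ := okSet_spec S₀ (by simp only [okEdge, Bool.and_eq_true] at he; exact he.1.1)
    obtain ⟨hl, t', ht', h3⟩ := to_canon (K := K) S₀ hT hs1 hs2 hs3 hf (t := fun _ => 1) (fun _ _ => one_ne_zero)
    obtain ⟨j, hj, hjn, h4⟩ := ih _ hlt' hl t' ht'
    exact ⟨j, hj, hjn, (h2.trans S₀ h3).trans S₀ h4⟩

/-- Every involution of the group is conjugate to one of the representatives. -/
theorem classify (hT : okTab D T = true) (hN : okNeg D = true) {X : Cl D} (hX : okCl D T C X = true)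
    {L : List ℕ} (hL : okTree D T (fin D C X.canon) L = true) {g : GL D.Idx K} (hg : g ∈ D.group K)
    (h2 : orderOf g = 2) : ∃ j < X.canon.length, j ≠ 0 ∧ X.red.getD j none = none ∧
      Cj S₀ g (wK S₀ (X.canon.getD j [])) := by
  classical
  haveI : Fact (Nat.Prime 2) := ⟨Nat.prime_two⟩
  obtain ⟨P, hP⟩ := Cfsg.Lib.Known.ChevAut.exists_sylow_U (F := K) 2 S₀ hN
  set g' : ↥(D.group K) := ⟨g, hg⟩
  have hg' : orderOf g' = 2 := (Subgroup.orderOf_coe g').symm.trans h2
  obtain ⟨Q, hQ⟩ := (show IsPGroup 2 (Subgroup.zpowers g') from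
    IsPGroup.of_card (n := 1) (by rw [Nat.card_zpowers, hg', pow_one])).exists_le_sylow
  obtain ⟨c, rfl⟩ := MulAction.exists_smul_eq ↥(D.group K) P Q
  obtain ⟨u, huP, hue⟩ := hQ (Subgroup.mem_zpowers g')
  have huU : (u : GL D.Idx K) ∈ D.posUnipotent K := by
    have : u ∈ (P : Subgroup ↥(D.group K)) := huP
    rw [hP] at this
    exact Subgroup.mem_subgroupOf.1 this
  have e : (c : GL D.Idx K) * u * (c : GL D.Idx K)⁻¹ = g := congrArg Subtype.val hue
  have hc : Cj S₀ g u := Cj.symm S₀ ⟨c, c.2, e⟩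
  have hg2 : g * g = 1 := by
    have := pow_orderOf_eq_one g
    rwa [h2, sq] at this
  obtain ⟨S, code, hf, hnd, hpos, hcomm, t, ht, h3⟩ := reduce S₀ hT hL huU (hc.sq S₀ hg2)
  obtain ⟨hl, t', ht', h4⟩ := to_canon S₀ hT hnd hpos hcomm hf ht
  obtain ⟨j, hj, hjn, h5⟩ := resolve S₀ hT hX _ hl t' ht'
  have h6 := hc.trans S₀ (h3.trans S₀ (h4.trans S₀ h5))
  refine ⟨j, hj, fun h0 => ?_, hjn, h6⟩
  simp only [okCl, Bool.and_eq_true, decide_eq_true_eq] at hX
  rw [h0, hX.1.2, wK_nil] at h6
  obtain ⟨a, -, ha⟩ := h6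
  have : g = 1 := by
    calc g = a⁻¹ * (a * g * a⁻¹) * a := by group
      _ = 1 := by rw [ha]; group
  rw [this, orderOf_one] at h2
  omega

end Cfsg.Lib.Chev.InvElim
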