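import Cfsg.Agent.Chev.Tw.Setup

/-! Certified elimination of the coefficients of involutions in the positive unipotent subgroup in characteristic
two: an involution is carried to a product of pairwise commuting root elements at a certified set of roots. -/

set_option autoImplicit false
set_option linter.unusedSectionVars false

open Cfsg.Lie

namespace Cfsg.Lib.Chev.InvElim

/-- Tables of the odd terms of the commutators of positive root elements. -/
structure Tab where
  /-- for each positive root `a`, the quadruples `(b, k, i, j)` -/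
  nb : List (List (ℕ × ℕ × ℕ × ℕ))
  /-- for each positive root `k`, the pairs `(a, b)` with a term at `k` -/
  pr : List (List (ℕ × ℕ))

variable (D : ChevalleyDatum) (T : Tab)

/-- The number of negative roots. -/
def hlf : ℕ := D.nroots / 2

/-- The entries of a root. -/
def ent (a : ℕ) : List (ℕ × ℕ × ℕ × ℕ) := T.nb.getD (a - hlf D) []

/-- The pairs producing a root. -/
def prs (k : ℕ) : List (ℕ × ℕ) := T.pr.getD (k - hlf D) []

/-- The positive roots. -/
def posL : List ℕ := List.range' (hlf D) (D.nroots - hlf D)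

/-- The table is the table of the datum. -/
def okTab : Bool :=
  (posL D).all fun a =>
    ((ent D T a).all fun x => decide (hlf D ≤ x.1 ∧ x.1 < D.nroots ∧ x.1 ≠ a ∧ a < x.2.1 ∧ x.1 < x.2.1 ∧
      x.2.1 < D.nroots) && (prs D T x.2.1).contains (a, x.1)) &&
    (posL D).all fun b => (a == b) || decide (((D.commTerms a b).filter fun q => q.2.1.natAbs % 2 == 1).map
      (fun q => (q.1, q.2.2)) = ((ent D T a).filter fun x => x.1 == b).map fun x => x.2)

/-- The initial set of roots. -/
def R0 : ℕ := (2 ^ (D.nroots - hlf D) - 1) * 2 ^ hlf D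

/-- The set can lose the root. -/
def okRem (S : List ℕ) (R R' d : ℕ) : Bool :=
  R.testBit d && decide (R' = R ^^^ 2 ^ d) &&
    (prs D T d).all fun p => !(R'.testBit p.2 && (S.contains p.1 || R'.testBit p.1))

/-- The root can be killed by conjugation. -/
def okKill (S : List ℕ) (R R' d e : ℕ) : Bool :=
  decide (hlf D ≤ e ∧ e < D.nroots) &&
    ((ent D T e).all fun x =>
      (!R.testBit x.1 || R'.testBit x.2.1) &&
        (!S.contains x.1 || (x.2.1 == d) || R'.testBit x.2.1)) &&
    (match (ent D T e).filter (fun x => S.contains x.1 && (x.2.1 == d)) with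
      | [x] => (x.2.2.1 == 1) || (x.2.2.1 == 2)
      | _ => false)

/-- The coefficient at the root vanishes. -/
def okForce (S : List ℕ) (R R' d m : ℕ) : Bool :=
  decide (hlf D ≤ m ∧ m < D.nroots) &&
    ((S.flatMap fun a => ((ent D T a).filter fun x => (x.1 == d) && decide (x.2.1 ≤ m)).map fun x =>
        ((x.2.1 == m) : Bool)) == [true]) &&
    (S.all fun a => (ent D T a).all fun x =>
      !(R'.testBit x.1 && decide (x.1 ≤ m)) || decide (m < x.2.1)) &&
    (((posL D).filter fun a => R.testBit a && decide (a ≤ m)).all fun a => (ent D T a).all fun x =>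
      !(R'.testBit x.1 && decide (x.1 ≤ m)) || decide (m < x.2.1))

/-- The root can join the set. -/
def okBranch (S : List ℕ) (d : ℕ) : Bool :=
  !S.contains d && ((ent D T d).all fun x => !S.contains x.1) && S.all fun a => (ent D T a).all fun x => x.1 != d

/-- The checker of a case tree. -/
def chk (fin : List ℕ → ℕ → Bool) : ℕ → List ℕ → ℕ → List ℕ → Option (List ℕ)
  | 0, _, _, _ => none
  | _ + 1, _, _, [] => none
  | fu + 1, S, R, c :: rest =>
    if R == 0 then (if fin S c then some rest else none)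
    else
      let d := c / 4 % 256
      let x := c / 1024
      let R' := R ^^^ 2 ^ d
      if okRem D T S R R' d then
        if c % 4 == 0 then (if okKill D T S R R' d x then chk fin fu S R' rest else none)
        else if c % 4 == 1 then (if okForce D T S R R' d x then chk fin fu S R' rest else none)
        else if okBranch D T S d then (chk fin fu (d :: S) R' rest).bind (chk fin fu S R') else none
      else none

/-- The whole tree is valid. -/
def okTree (fin : List ℕ → ℕ → Bool) (L : List ℕ) : Bool := (chk D T fin (L.length + 1) [] (R0 D) L).isSome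

section Sound

variable {D T} {C : Cert} {K : Type*} [Field K] [CharP K 2] (S₀ : Struct D C)

/-- A positive root. -/
abbrev Pos (r : ℕ) : Prop := hlf D ≤ r ∧ r < D.nroots

theorem R0_testBit (r : ℕ) : (R0 D).testBit r = true → Pos (D := D) r := by
  intro h
  rw [R0, Nat.testBit_mul_two_pow, Bool.and_eq_true, decide_eq_true_eq, Nat.testBit_two_pow_sub_one,
    decide_eq_true_eq] at h
  exact ⟨h.1, by omega⟩

theorem R0_pos {r : ℕ} (hr : Pos (D := D) r) : (R0 D).testBit r = true := by
  obtain ⟨a, b⟩ := hr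
  rw [R0, Nat.testBit_mul_two_pow, Bool.and_eq_true, decide_eq_true_eq, Nat.testBit_two_pow_sub_one,
    decide_eq_true_eq]
  exact ⟨a, by omega⟩

theorem mem_posL {a : ℕ} (ha : Pos (D := D) a) : a ∈ posL D := by
  obtain ⟨h1, h2⟩ := ha
  simp only [posL, List.mem_range'_1]
  omega

theorem ent_spec (hT : okTab D T = true) {a : ℕ} (ha : Pos (D := D) a) {x : ℕ × ℕ × ℕ × ℕ} (hx : x ∈ ent D T a) :
    Pos (D := D) x.1 ∧ Pos (D := D) x.2.1 ∧ x.1 ≠ a ∧ a < x.2.1 ∧ x.1 < x.2.1 ∧ (a, x.1) ∈ prs D T x.2.1 := by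
  simp only [okTab, List.all_eq_true, Bool.and_eq_true, decide_eq_true_eq, List.contains_eq_mem] at hT
  obtain ⟨⟨h1, h2, h3, h4, h5, h6⟩, h7⟩ := (hT a (mem_posL ha)).1 x hx
  exact ⟨⟨h1, h2⟩, ⟨by omega, h6⟩, h3, h4, h5, h7⟩

include S₀

theorem xG_self (r : ℕ) (t : K) : S₀.ok.xG r t * S₀.ok.xG r t = 1 := by
  rw [S₀.ok.xG_mul, CharTwo.add_self_eq_zero, S₀.xG_zero]

theorem intCast_odd (z : ℤ) : (z : K) = if z.natAbs % 2 = 1 then 1 else 0 := by
  split_ifs with h
  · obtain ⟨w, rfl⟩ : ∃ w, z = 2 * w + 1 := ⟨z / 2, by omega⟩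
    rw [Int.cast_add, Int.cast_mul, Int.cast_ofNat, CharTwo.two_eq_zero, zero_mul, zero_add, Int.cast_one]
  · exact (CharP.intCast_eq_zero_iff K 2 z).2 (by omega)

/-- Conjugation of a root element by another. -/
theorem cn (hT : okTab D T = true) {a b : ℕ} (ha : Pos (D := D) a) (hb : Pos (D := D) b) (t u : K) :
    (S₀.ok.xG a t)⁻¹ * S₀.ok.xG b u * S₀.ok.xG a t = S₀.ok.xG b u *
      (((ent D T a).filter fun x => x.1 == b).map fun x =>
        S₀.ok.xG x.2.1 (t ^ x.2.2.1 * u ^ x.2.2.2)).prod := by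
  rcases eq_or_ne a b with rfl | hne
  · rw [List.filter_eq_nil_iff.2 (fun x hx => by simpa using (ent_spec hT ha hx).2.2.1), List.map_nil,
      List.prod_nil, mul_one, mul_assoc, S₀.ok.xG_mul, S₀.ok.xG_inv, S₀.ok.xG_mul]
    congr 1
    ring
  · have hh : ((D.commTerms a b).filter fun q => q.2.1.natAbs % 2 == 1).map (fun q => (q.1, q.2.2)) =
        ((ent D T a).filter fun x => x.1 == b).map fun x => x.2 := by
      simp only [okTab, List.all_eq_true, Bool.and_eq_true, Bool.or_eq_true, beq_iff_eq, decide_eq_true_eq] at hT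
      exact ((hT a (mem_posL ha)).2 b (mem_posL hb)).resolve_left hne
    have hn : b ≠ D.neg a := by
      have h1 := S₀.neg_lt_half ha.2 ha.1
      have h2 : D.nroots / 2 ≤ b := hb.1
      omega
    rw [mul_assoc, S₀.ok.commRel S₀.chain S₀.base ha.2 hb.2 hne.symm hn t u, ← mul_assoc, ← mul_assoc,
      inv_mul_cancel, one_mul]
    congr 1
    rw [show (((ent D T a).filter fun x => x.1 == b).map fun x =>
          S₀.ok.xG x.2.1 (t ^ x.2.2.1 * u ^ x.2.2.2)) =
        (((ent D T a).filter fun x => x.1 == b).map fun x => x.2).map fun y =>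
          S₀.ok.xG y.1 (t ^ y.2.1 * u ^ y.2.2) by rw [List.map_map]; rfl, ← hh, List.map_map,
      ChevalleyDatum.commWord, Ok.wG, List.map_map]
    induction D.commTerms a b with
    | nil => rfl
    | cons q L ih =>
      rw [List.map_cons, List.prod_cons, ih, List.filter_cons]
      by_cases hq : q.2.1.natAbs % 2 = 1
      · simp [hq, intCast_odd (S₀ := S₀), CharTwo.neg_eq]
      · simp [hq, intCast_odd (S₀ := S₀), S₀.xG_zero]

/-- The group generated by the root elements in a set of positive roots. -/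
noncomputable def HR (R : ℕ) : Subgroup (GL D.Idx K) :=
  Subgroup.closure {g | ∃ r, R.testBit r = true ∧ ∃ t : K, g = S₀.ok.xG r t}

theorem xG_mem_HR {R r : ℕ} (h : R.testBit r = true) (t : K) : S₀.ok.xG r t ∈ HR S₀ R :=
  Subgroup.subset_closure ⟨r, h, t, rfl⟩

theorem conj_HR (hT : okTab D T = true) {R a : ℕ} (ha : Pos (D := D) a)
    (hR : ∀ r, R.testBit r = true → Pos (D := D) r)
    (hc : ∀ x ∈ ent D T a, R.testBit x.1 = true → R.testBit x.2.1 = true) (t : K) {g : GL D.Idx K}
    (hg : g ∈ HR S₀ R) : (S₀.ok.xG a t)⁻¹ * g * S₀.ok.xG a t ∈ HR S₀ R := by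
  have hle : HR S₀ R ≤ (HR S₀ R).comap (MulAut.conj (S₀.ok.xG a t)⁻¹).toMonoidHom := by
    refine (Subgroup.closure_le _).2 ?_
    rintro y ⟨r, hr, u, rfl⟩
    show (S₀.ok.xG a t)⁻¹ * S₀.ok.xG r u * ((S₀.ok.xG a t)⁻¹)⁻¹ ∈ HR S₀ R
    rw [inv_inv, cn S₀ hT ha (hR r hr)]
    refine mul_mem (xG_mem_HR S₀ hr u) (list_prod_mem fun y hy => ?_)
    simp only [List.mem_map, List.mem_filter, beq_iff_eq] at hy
    obtain ⟨x, ⟨hx, rfl⟩, rfl⟩ := hy
    exact xG_mem_HR S₀ (hc x hx hr) _
  simpa using hle hg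

/-- The product of root elements at a list of roots. -/
noncomputable def Pv (S : List ℕ) (t : ℕ → K) : GL D.Idx K := (S.map fun r => S₀.ok.xG r (t r)).prod

omit S₀ in
/-- The invariant of a state. -/
structure Inv (T : Tab) (S : List ℕ) (R : ℕ) : Prop where
  posS : ∀ a ∈ S, hlf D ≤ a ∧ a < D.nroots
  posR : ∀ r, R.testBit r = true → hlf D ≤ r ∧ r < D.nroots
  nodup : S.Nodup
  comm : ∀ a ∈ S, ∀ x ∈ ent D T a, x.1 ∉ S
  closed : ∀ a, (a ∈ S ∨ R.testBit a = true) → ∀ x ∈ ent D T a, R.testBit x.1 = true → R.testBit x.2.1 = true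

omit S₀ in
theorem testBit_erase {R d r : ℕ} (hd : R.testBit d = true) :
    (R ^^^ 2 ^ d).testBit r = true ↔ R.testBit r = true ∧ r ≠ d := by
  rw [Nat.testBit_xor, Nat.testBit_two_pow]
  by_cases h : d = r
  · subst h; simp [hd]
  · simp [h, Ne.symm h]

omit S₀ in
theorem rem_spec (hT : okTab D T = true) {S : List ℕ} {R R' d : ℕ} (hI : Inv (D := D) T S R)
    (h : okRem D T S R R' d = true) :
    R.testBit d = true ∧ (∀ r, R'.testBit r = true ↔ R.testBit r = true ∧ r ≠ d) ∧ Inv (D := D) T S R' ∧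
      (∀ x ∈ ent D T d, R'.testBit x.1 = true → R'.testBit x.2.1 = true) := by
  simp only [okRem, Bool.and_eq_true, decide_eq_true_eq, List.all_eq_true, Bool.not_eq_true', Bool.and_eq_false_iff,
    Bool.or_eq_false_iff, List.contains_eq_mem] at h
  obtain ⟨⟨hd, rfl⟩, hp⟩ := h
  have hb : ∀ r, (R ^^^ 2 ^ d).testBit r = true ↔ R.testBit r = true ∧ r ≠ d := fun r => testBit_erase hd
  refine ⟨hd, hb, ⟨hI.posS, fun r hr => hI.posR r ((hb r).1 hr).1, hI.nodup, hI.comm, fun a ha x hx hx1 => ?_⟩,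
    fun x hx hx1 => ?_⟩
  · have ha' : a ∈ S ∨ R.testBit a = true := ha.imp_right fun h => ((hb a).1 h).1
    refine (hb _).2 ⟨hI.closed a ha' x hx ((hb _).1 hx1).1, fun e => ?_⟩
    have hpa : Pos (D := D) a := ha'.elim (hI.posS a) (hI.posR a)
    have hmem := (ent_spec hT hpa hx).2.2.2.2.2
    rw [e] at hmem
    rcases hp _ hmem with h | ⟨h1, h2⟩
    · simp [hx1] at h
    · rcases ha with ha | ha
      · simp [ha] at h1
      · simp [ha] at h2
  · refine (hb _).2 ⟨hI.closed d (Or.inr hd) x hx ((hb _).1 hx1).1, ?_⟩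
    have := (ent_spec hT (hI.posR d hd) hx).2.2.2.1
    omega

theorem Pv_mem_norm (hT : okTab D T = true) {S : List ℕ} {R : ℕ} (hI : Inv (D := D) T S R) (t : ℕ → K)
    {g : GL D.Idx K} (hg : g ∈ HR S₀ R) :
    ∀ P : List ℕ, (∀ a ∈ P, a ∈ S) → (Pv S₀ P t)⁻¹ * g * Pv S₀ P t ∈ HR S₀ R := by
  intro P
  induction P generalizing g with
  | nil => intro _; simpa [Pv] using hg
  | cons a P ih =>
    intro hP
    have h1 := conj_HR S₀ hT (hI.posS a (hP a (by simp))) hI.posR (hI.closed a (Or.inl (hP a (by simp)))) (t a) hg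
    have h2 := ih h1 (fun b hb => hP b (List.mem_cons_of_mem _ hb))
    simpa [Pv, mul_assoc] using h2

theorem split (hT : okTab D T = true) {R R' d : ℕ} (hd : R.testBit d = true) (hpd : Pos (D := D) d)
    (hb : ∀ r, R'.testBit r = true ↔ R.testBit r = true ∧ r ≠ d)
    (hR : ∀ r, R'.testBit r = true → Pos (D := D) r)
    (hc : ∀ x ∈ ent D T d, R'.testBit x.1 = true → R'.testBit x.2.1 = true) {g : GL D.Idx K}
    (hg : g ∈ HR S₀ R) : ∃ c, ∃ v ∈ HR S₀ R', g = S₀.ok.xG d c * v := by
  induction hg using Subgroup.closure_induction with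
  | mem y hy =>
    obtain ⟨r, hr, t, rfl⟩ := hy
    rcases eq_or_ne r d with rfl | hne
    · exact ⟨t, 1, one_mem _, by rw [mul_one]⟩
    · exact ⟨0, _, xG_mem_HR S₀ ((hb r).2 ⟨hr, hne⟩) t, by rw [S₀.xG_zero, one_mul]⟩
  | one => exact ⟨0, 1, one_mem _, by rw [S₀.xG_zero, one_mul]⟩
  | mul a b _ _ iha ihb =>
    obtain ⟨c, v, hv, rfl⟩ := iha
    obtain ⟨c', v', hv', rfl⟩ := ihb
    refine ⟨c + c', _, mul_mem (conj_HR S₀ hT hpd hR hc c' hv) hv', ?_⟩
    rw [← S₀.ok.xG_mul]
    group
  | inv a _ iha =>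
    obtain ⟨c, v, hv, rfl⟩ := iha
    refine ⟨-c, _, conj_HR S₀ hT hpd hR hc (-c) (inv_mem hv), ?_⟩
    rw [mul_inv_rev, ← S₀.ok.xG_inv]
    group

/-- Conjugacy in the group. -/
def Cj (_S : Struct D C) (u w : GL D.Idx K) : Prop := ∃ h ∈ D.group K, h * u * h⁻¹ = w

omit [CharP K 2] in
theorem Cj.trans {u v w : GL D.Idx K} (h : Cj S₀ u v) (h' : Cj S₀ v w) : Cj S₀ u w := by
  obtain ⟨a, ha, rfl⟩ := h
  obtain ⟨b, hb, rfl⟩ := h'
  exact ⟨b * a, mul_mem hb ha, by group⟩

omit [CharP K 2] in
theorem Cj.symm {u w : GL D.Idx K} (h : Cj S₀ u w) : Cj S₀ w u := by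
  obtain ⟨a, ha, rfl⟩ := h
  exact ⟨a⁻¹, inv_mem ha, by group⟩

omit [CharP K 2] in
theorem Cj.refl (u : GL D.Idx K) : Cj S₀ u u := ⟨1, one_mem _, by simp⟩

omit [CharP K 2] in
theorem Cj.sq {u w : GL D.Idx K} (h : Cj S₀ u w) (hu : u * u = 1) : w * w = 1 := by
  obtain ⟨a, -, rfl⟩ := h
  rw [show a * u * a⁻¹ * (a * u * a⁻¹) = a * (u * u) * a⁻¹ by group, hu]
  group

/-- The element splits into a leading root element and a product in the rest. -/
theorem terms_prod (hT : okTab D T = true) {R' d : ℕ} (hpd : Pos (D := D) d)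
    (hR : ∀ r, R'.testBit r = true → Pos (D := D) r)
    (hc : ∀ x ∈ ent D T d, R'.testBit x.1 = true → R'.testBit x.2.1 = true) :
    ∀ L : List (ℕ × K), (∀ p ∈ L, p.1 = d ∨ R'.testBit p.1 = true) →
      ∃ w ∈ HR S₀ R', (L.map fun p => S₀.ok.xG p.1 p.2).prod =
        S₀.ok.xG d (L.map fun p => if p.1 = d then p.2 else 0).sum * w := by
  intro L
  induction L with
  | nil => exact fun _ => ⟨1, one_mem _, by simp [S₀.xG_zero]⟩
  | cons p L ih =>
    intro hL
    obtain ⟨w, hw, e⟩ := ih fun q hq => hL q (List.mem_cons_of_mem _ hq)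
    set A := (L.map fun p => if p.1 = d then p.2 else 0).sum
    rw [List.map_cons, List.prod_cons, e, List.map_cons, List.sum_cons]
    by_cases hp : p.1 = d
    · exact ⟨w, hw, by rw [if_pos hp, hp, ← mul_assoc, S₀.ok.xG_mul]⟩
    · have hp' := (hL p List.mem_cons_self).resolve_left hp
      refine ⟨_, mul_mem (conj_HR S₀ hT hpd hR hc A (xG_mem_HR S₀ hp' p.2)) hw, ?_⟩
      rw [if_neg hp, zero_add]
      simp only [A]
      group

theorem kill_step [Fintype K] (hT : okTab D T = true) {S : List ℕ} {R R' d e : ℕ} (hI : Inv (D := D) T S R)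
    (hrem : okRem D T S R R' d = true) (h : okKill D T S R R' d e = true) {t : ℕ → K}
    (ht : ∀ a ∈ S, t a ≠ 0) {v : GL D.Idx K} (hv : v ∈ HR S₀ R) :
    ∃ v' ∈ HR S₀ R', Cj S₀ (Pv S₀ S t * v) (Pv S₀ S t * v') := by
  obtain ⟨hd, hb, hI', hdc⟩ := rem_spec hT hI hrem
  simp only [okKill, Bool.and_eq_true, decide_eq_true_eq, List.all_eq_true, Bool.or_eq_true, Bool.not_eq_true',
    beq_iff_eq, List.contains_eq_mem] at h
  obtain ⟨⟨he, hall⟩, hsing⟩ := h
  have hd' : Pos (D := D) d := hI.posR d hd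
  obtain ⟨c, v₀, hv₀, rfl⟩ := split S₀ hT hd hd' hb hI'.posR hdc hv
  split at hsing
  case h_2 => simp at hsing
  rename_i x hx
  simp only [Bool.or_eq_true, beq_iff_eq] at hsing
  obtain ⟨hxe, hxS, hxd⟩ : x ∈ ent D T e ∧ x.1 ∈ S ∧ x.2.1 = d := by
    have : x ∈ (ent D T e).filter (fun x => decide (x.1 ∈ S) && (x.2.1 == d)) := by rw [hx]; simp
    simpa [List.mem_filter] using this
  have hpos : 0 < x.2.2.1 := by omega
  obtain ⟨s, hs⟩ : ∃ s : K, s ^ x.2.2.1 * t x.1 ^ x.2.2.2 = c := by
    have htx := pow_ne_zero x.2.2.2 (ht _ hxS)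
    rcases hsing with h1 | h1
    · exact ⟨c / t x.1 ^ x.2.2.2, by rw [h1, pow_one, div_mul_cancel₀ _ htx]⟩
    · obtain ⟨y, hy⟩ := FiniteField.isSquare_of_char_two (ringChar.eq K 2) (c / t x.1 ^ x.2.2.2)
      exact ⟨y, by rw [h1, sq, ← hy, div_mul_cancel₀ _ htx]⟩
  set E := S₀.ok.xG e s with hE
  have key : ∀ P : List ℕ, (∀ a ∈ P, a ∈ S) → P.Nodup → ∃ w ∈ HR S₀ R',
      E⁻¹ * Pv S₀ P t * E = Pv S₀ P t * (S₀.ok.xG d (if x.1 ∈ P then c else 0) * w) := by
    intro P
    induction P with
    | nil => exact fun _ _ => ⟨1, one_mem _, by simp [Pv, S₀.xG_zero]⟩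
    | cons a P ih =>
      intro hP hnd
      obtain ⟨hna, hnd'⟩ := List.nodup_cons.1 hnd
      obtain ⟨w, hw, ew⟩ := ih (fun b hb' => hP b (List.mem_cons_of_mem _ hb')) hnd'
      have haS := hP a List.mem_cons_self
      obtain ⟨w1, hw1, e1⟩ := terms_prod S₀ hT hd' hI'.posR hdc
        (((ent D T e).filter fun y => y.1 == a).map fun y => (y.2.1, s ^ y.2.2.1 * t a ^ y.2.2.2))
        (fun p hp => by
          simp only [List.mem_map, List.mem_filter, beq_iff_eq] at hp
          obtain ⟨y, ⟨hy, hya⟩, rfl⟩ := hp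
          rcases (hall y hy).2 with (h' | h') | h'
          · exact absurd (hya ▸ haS) (by simpa using h')
          · exact Or.inl h'
          · exact Or.inr h')
      have hsum : ((((ent D T e).filter fun y => y.1 == a).map fun y => (y.2.1, s ^ y.2.2.1 * t a ^ y.2.2.2)).map
          fun p => if p.1 = d then p.2 else 0).sum = if a = x.1 then c else 0 := by
        have hg : ((((ent D T e).filter fun y => y.1 == a).map fun y => (y.2.1, s ^ y.2.2.1 * t a ^ y.2.2.2)).map
            fun p => if p.1 = d then p.2 else 0).sum =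
            (((ent D T e).filter fun y => decide (y.1 ∈ S) && (y.2.1 == d)).map fun y =>
              if y.1 = a then s ^ y.2.2.1 * t a ^ y.2.2.2 else 0).sum := by
          induction ent D T e with
          | nil => simp
          | cons y L ihL =>
            by_cases h1 : y.1 = a <;> by_cases h2 : y.2.1 = d <;> by_cases h3 : y.1 ∈ S <;>
              simp [List.filter_cons, h1, h2, h3, haS] at ihL ⊢ <;> first | exact ihL | simp [h1] at h3; simp [haS] at h3
        rw [hg, hx]
        by_cases h1 : x.1 = a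
        · subst h1; simp [hs]
        · simp [h1, Ne.symm h1]
      rw [hsum, List.map_map] at e1
      set A := if a = x.1 then c else 0
      set B := if x.1 ∈ P then c else (0 : K) with hB
      have hAB : A + B = if x.1 ∈ a :: P then c else 0 := by
        by_cases h1 : a = x.1
        · subst h1; simp [A, B, hna]
        · simp [A, B, h1, Ne.symm h1]
      have hw1' := Pv_mem_norm S₀ hT hI' t hw1 P (fun b hb' => hP b (List.mem_cons_of_mem _ hb'))
      -- the root element at `d` passes the rest of the product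
      have hcomm : ∀ Q : List ℕ, (∀ b ∈ Q, b ∈ S) → ∃ z ∈ HR S₀ R',
          (Pv S₀ Q t)⁻¹ * S₀.ok.xG d A * Pv S₀ Q t = S₀.ok.xG d A * z := by
        intro Q
        induction Q with
        | nil => exact fun _ => ⟨1, one_mem _, by simp [Pv]⟩
        | cons b Q ihQ =>
          intro hQ
          obtain ⟨z, hz, ez⟩ := ihQ fun q hq => hQ q (List.mem_cons_of_mem _ hq)
          have hbS := hQ b List.mem_cons_self
          have hterm : (((ent D T b).filter fun y => y.1 == d).map fun y =>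
              S₀.ok.xG y.2.1 (t b ^ y.2.2.1 * A ^ y.2.2.2)).prod ∈ HR S₀ R' :=
            list_prod_mem fun y hy => by
              simp only [List.mem_map, List.mem_filter, beq_iff_eq] at hy
              obtain ⟨y, ⟨hy, hyd⟩, rfl⟩ := hy
              refine xG_mem_HR S₀ ((hb _).2 ⟨hI.closed b (Or.inl hbS) y hy (hyd ▸ hd), ?_⟩) _
              have := (ent_spec hT (hI.posS b hbS) hy).2.2.2.2.1
              omega
          refine ⟨z * ((Pv S₀ Q t)⁻¹ * _ * Pv S₀ Q t),
            mul_mem hz (Pv_mem_norm S₀ hT hI' t hterm Q fun q hq => hQ q (List.mem_cons_of_mem _ hq)), ?_⟩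
          rw [← mul_assoc (S₀.ok.xG d A), ← ez]
          have e3 := cn S₀ hT (hI.posS b hbS) hd' (t b) A
          simp only [Pv, List.map_cons, List.prod_cons, mul_inv_rev] at *
          rw [show (List.map (fun r => S₀.ok.xG r (t r)) Q).prod⁻¹ * (S₀.ok.xG b (t b))⁻¹ * S₀.ok.xG d A *
              (S₀.ok.xG b (t b) * (List.map (fun r => S₀.ok.xG r (t r)) Q).prod) =
            (List.map (fun r => S₀.ok.xG r (t r)) Q).prod⁻¹ *
              ((S₀.ok.xG b (t b))⁻¹ * S₀.ok.xG d A * S₀.ok.xG b (t b)) *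
              (List.map (fun r => S₀.ok.xG r (t r)) Q).prod by group, e3]
          group
      obtain ⟨z, hz, ez⟩ := hcomm P fun b hb' => hP b (List.mem_cons_of_mem _ hb')
      have hw2 := conj_HR S₀ hT hd' hI'.posR hdc B (mul_mem hz hw1')
      refine ⟨_, mul_mem hw2 hw, ?_⟩
      have e4 : E⁻¹ * S₀.ok.xG a (t a) * E = S₀.ok.xG a (t a) * (S₀.ok.xG d A * w1) := by
        rw [hE, cn S₀ hT he (hI.posS a haS) s (t a)]
        exact congrArg (S₀.ok.xG a (t a) * ·) e1
      rw [← hAB, ← S₀.ok.xG_mul]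
      calc E⁻¹ * Pv S₀ (a :: P) t * E = (E⁻¹ * S₀.ok.xG a (t a) * E) * (E⁻¹ * Pv S₀ P t * E) := by
            simp only [Pv, List.map_cons, List.prod_cons]; group
        _ = S₀.ok.xG a (t a) * (S₀.ok.xG d A * w1) * (Pv S₀ P t * (S₀.ok.xG d B * w)) := by rw [e4, ew]
        _ = S₀.ok.xG a (t a) * Pv S₀ P t * (((Pv S₀ P t)⁻¹ * S₀.ok.xG d A * Pv S₀ P t) *
              ((Pv S₀ P t)⁻¹ * w1 * Pv S₀ P t)) * (S₀.ok.xG d B * w) := by group
        _ = _ := by rw [ez]; simp only [Pv, List.map_cons, List.prod_cons]; group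
  obtain ⟨w, hw, ew⟩ := key S (fun _ h => h) hI.nodup
  rw [if_pos hxS] at ew
  have hec : ∀ y ∈ ent D T e, R.testBit y.1 = true → R'.testBit y.2.1 = true := fun y hy h1 => by
    rcases (hall y hy).1 with h' | h'
    · rw [h1] at h'; simp at h'
    · exact h'
  have hv1 := conj_HR S₀ hT he hI'.posR (fun y hy h1 => hec y hy ((hb _).1 h1).1) s hv₀
  have hterm : (((ent D T e).filter fun y => y.1 == d).map fun y =>
      S₀.ok.xG y.2.1 (s ^ y.2.2.1 * c ^ y.2.2.2)).prod ∈ HR S₀ R' :=
    list_prod_mem fun y hy => by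
      simp only [List.mem_map, List.mem_filter, beq_iff_eq] at hy
      obtain ⟨y, ⟨hy, hyd⟩, rfl⟩ := hy
      exact xG_mem_HR S₀ (hec y hy (hyd ▸ hd)) _
  have hw' := conj_HR S₀ hT hd' hI'.posR hdc c hw
  refine ⟨_, mul_mem hw' (mul_mem hterm hv1), E⁻¹, inv_mem (S₀.ok.xG_mem_group e s), ?_⟩
  have e5 : E⁻¹ * S₀.ok.xG d c * E = _ := cn S₀ hT he hd' s c
  rw [inv_inv]
  calc E⁻¹ * (Pv S₀ S t * (S₀.ok.xG d c * v₀)) * E
      = E⁻¹ * Pv S₀ S t * E * (E⁻¹ * S₀.ok.xG d c * E) * (E⁻¹ * v₀ * E) := by group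
    _ = Pv S₀ S t * (S₀.ok.xG d c * w) * (S₀.ok.xG d c * _) * (E⁻¹ * v₀ * E) := by rw [ew, e5]
    _ = _ := by
      have hi : (S₀.ok.xG d c)⁻¹ = S₀.ok.xG d c := inv_eq_of_mul_eq_one_right (xG_self S₀ d c)
      rw [hi, hE]
      group

theorem force_step (hT : okTab D T = true) {S : List ℕ} {R R' d m : ℕ} (hI : Inv (D := D) T S R)
    (hrem : okRem D T S R R' d = true) (h : okForce D T S R R' d m = true) {t : ℕ → K}
    (ht : ∀ a ∈ S, t a ≠ 0) {v : GL D.Idx K} (hv : v ∈ HR S₀ R)
    (h2 : Pv S₀ S t * v * (Pv S₀ S t * v) = 1) : v ∈ HR S₀ R' := by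
  obtain ⟨hd, hb, hI', hdc⟩ := rem_spec hT hI hrem
  simp only [okForce, Bool.and_eq_true, decide_eq_true_eq, List.all_eq_true, Bool.or_eq_true, Bool.not_eq_true',
    Bool.and_eq_false_iff, decide_eq_false_iff_not, List.mem_filter, beq_iff_eq] at h
  obtain ⟨⟨⟨hm, hone⟩, hSlow⟩, hlow⟩ := h
  have hd' : Pos (D := D) d := hI.posR d hd
  obtain ⟨c, v₀, hv₀, rfl⟩ := split S₀ hT hd hd' hb hI'.posR hdc hv
  suffices hc : c = 0 by rwa [hc, S₀.xG_zero, one_mul]
  set U := S₀.Ugen K (hlf D) with hU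
  let N : Subgroup ↥U := (S₀.Ugen K (m + 1)).subgroupOf U
  have hnorm : U ≤ Subgroup.normalizer (S₀.Ugen K (m + 1) : Set (GL D.Idx K)) :=
    S₀.le_normalizer_Ugen le_rfl (by have := hm.1; change D.nroots / 2 ≤ m at this; omega)
  haveI : N.Normal := Subgroup.normal_subgroupOf_of_le_normalizer hnorm
  let π := QuotientGroup.mk' N
  have hzero : ∀ g : ↥U, π g = 1 ↔ g.1 ∈ S₀.Ugen K (m + 1) := fun g => by
    rw [QuotientGroup.mk'_apply, QuotientGroup.eq_one_iff, Subgroup.mem_subgroupOf]
  let xu : ℕ → K → ↥U := fun r s => if hr : Pos (D := D) r then ⟨S₀.ok.xG r s, S₀.xG_mem_Ugen hr.1 hr.2 s⟩ else 1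
  have xu_val : ∀ {r}, Pos (D := D) r → ∀ s, (xu r s : GL D.Idx K) = S₀.ok.xG r s := fun hr s => by
    simp only [xu]
    rw [dif_pos hr]
  let p : ℕ → K → ↥U ⧸ N := fun r s => π (xu r s)
  have p_high : ∀ {r}, Pos (D := D) r → m < r → ∀ s, p r s = 1 := fun hr hlt s => by
    rw [hzero, xu_val hr]; exact S₀.xG_mem_Ugen hlt hr.2 s
  have p_mul : ∀ {r}, Pos (D := D) r → ∀ s s', p r s * p r s' = p r (s + s') := fun hr s s' => by
    simp only [p, ← map_mul]
    congr 1
    exact Subtype.ext (by rw [Subgroup.coe_mul, xu_val hr, xu_val hr, xu_val hr, S₀.ok.xG_mul])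
  have p_zero : ∀ r, p r 0 = 1 := fun r => by
    by_cases hr : Pos (D := D) r
    · rw [hzero, xu_val hr, S₀.xG_zero]; exact one_mem _
    · simp [p, xu, hr]
  have p_sq : ∀ r s, p r s * p r s = 1 := fun r s => by
    by_cases hr : Pos (D := D) r
    · rw [p_mul hr, CharTwo.add_self_eq_zero, p_zero]
    · simp [p, xu, hr]
  have p_cn : ∀ {a b}, Pos (D := D) a → Pos (D := D) b → ∀ s u, p b u * p a s = p a s * p b u *
      (((ent D T a).filter fun x => x.1 == b).map fun x => p x.2.1 (s ^ x.2.2.1 * u ^ x.2.2.2)).prod := by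
    intro a b ha hb' s u
    have e : xu b u * xu a s = xu a s * xu b u *
        (((ent D T a).filter fun x => x.1 == b).map fun x => xu x.2.1 (s ^ x.2.2.1 * u ^ x.2.2.2)).prod := by
      refine Subtype.ext ?_
      rw [Subgroup.coe_mul, Subgroup.coe_mul, Subgroup.coe_mul, xu_val ha, xu_val hb', SubmonoidClass.coe_list_prod,
        List.map_map, List.map_congr_left (g := fun x => S₀.ok.xG x.2.1 (s ^ x.2.2.1 * u ^ x.2.2.2)) (fun x hx => by
          simp only [List.mem_filter] at hx
          exact xu_val (ent_spec hT ha hx.1).2.1 _), mul_assoc (S₀.ok.xG a s), ← cn S₀ hT ha hb' s u]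
      group
    simp only [p, ← map_mul]
    rw [e, map_mul, map_list_prod, List.map_map]
    rfl
  have p_comm : ∀ {a b}, Pos (D := D) a → Pos (D := D) b → (∀ x ∈ ent D T a, x.1 = b → m < x.2.1) →
      ∀ s u, Commute (p b u) (p a s) := by
    intro a b ha hb' h s u
    show _ = _
    rw [p_cn ha hb', List.prod_eq_one, mul_one]
    intro y hy
    simp only [List.mem_map, List.mem_filter, beq_iff_eq] at hy
    obtain ⟨x, ⟨hx, hxb⟩, rfl⟩ := hy
    exact p_high (ent_spec hT ha hx).2.1 (h x hx hxb) _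
  -- the elements of the smaller group
  have hHU : HR S₀ R' ≤ U := (Subgroup.closure_le _).2 fun g ⟨r, hr, s, e⟩ =>
    e ▸ S₀.xG_mem_Ugen (hI'.posR r hr).1 (hI'.posR r hr).2 s
  have gen_comm : ∀ a, (a ∈ S ∨ R.testBit a = true) → ∀ b, R'.testBit b = true → ∀ s u,
      Commute (p b u) (p a s) := by
    intro a ha b hb' s u
    have hpa : Pos (D := D) a := ha.elim (hI.posS a) (hI.posR a)
    have hpb : Pos (D := D) b := hI'.posR b hb'
    by_cases hbm : m < b
    · rw [p_high hpb hbm]; exact Commute.one_left _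
    by_cases ham : m < a
    · rw [p_high hpa ham]; exact Commute.one_right _
    refine p_comm hpa hpb (fun x hx hxb => ?_) s u
    rcases ha with ha | ha
    · rcases hSlow a ha x hx with (h' | h') | h'
      · rw [hxb, hb'] at h'; simp at h'
      · omega
      · exact h'
    · rcases hlow a ⟨mem_posL hpa, ha, by omega⟩ x hx with (h' | h') | h'
      · rw [hxb, hb'] at h'; simp at h'
      · omega
      · exact h'
  have v_comm : ∀ a, (a ∈ S ∨ R.testBit a = true) → ∀ s, ∀ y : ↥U, y.1 ∈ HR S₀ R' → Commute (π y) (p a s) := by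
    intro a ha s
    have hle : HR S₀ R' ≤ ((Subgroup.centralizer {p a s}).comap π).map U.subtype := by
      refine (Subgroup.closure_le _).2 ?_
      rintro g ⟨b, hb', u, rfl⟩
      exact ⟨xu b u, Subgroup.mem_centralizer_singleton_iff.2 (gen_comm a ha b hb' s u).eq, xu_val (hI'.posR b hb') u⟩
    intro y hy
    obtain ⟨y', hy', e⟩ := hle hy
    obtain rfl : y' = y := Subtype.ext e
    exact Subgroup.mem_centralizer_singleton_iff.1 hy'
  have v_sq : ∀ g ∈ HR S₀ R', ∀ hg : g ∈ U, π ⟨g, hg⟩ * π ⟨g, hg⟩ = 1 := by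
    intro g hg
    induction hg using Subgroup.closure_induction with
    | mem y hy =>
      obtain ⟨b, hb', u, rfl⟩ := hy
      intro hgU
      have : (⟨S₀.ok.xG b u, hgU⟩ : ↥U) = xu b u := Subtype.ext (xu_val (hI'.posR b hb') u).symm
      rw [this]; exact p_sq b u
    | one => intro _; exact (map_one π ▸ one_mul _ : π 1 * π 1 = 1)
    | mul a b ha hb' iha ihb =>
      intro hgU
      have haU := hHU ha
      have hbU := hHU hb'
      have hab : Commute (π ⟨a, haU⟩) (π ⟨b, hbU⟩) := by
        have hle : HR S₀ R' ≤ ((Subgroup.centralizer {π ⟨a, haU⟩}).comap π).map U.subtype := by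
          refine (Subgroup.closure_le _).2 ?_
          rintro g ⟨r, hr, u, rfl⟩
          exact ⟨xu r u, Subgroup.mem_centralizer_singleton_iff.2
            ((v_comm r (Or.inr ((hb r).1 hr).1) u ⟨a, haU⟩ ha).eq.symm), xu_val (hI'.posR r hr) u⟩
        obtain ⟨y, hy, e⟩ := hle hb'
        obtain rfl : y = ⟨b, hbU⟩ := Subtype.ext e
        exact (Subgroup.mem_centralizer_singleton_iff.1 hy).symm
      rw [show (⟨a * b, hgU⟩ : ↥U) = ⟨a, haU⟩ * ⟨b, hbU⟩ from rfl, map_mul, hab.symm.mul_mul_mul_comm, iha haU, ihb hbU,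
        one_mul]
    | inv a ha iha =>
      intro hgU
      rw [show (⟨a⁻¹, hgU⟩ : ↥U) = (⟨a, hHU ha⟩ : ↥U)⁻¹ from rfl, map_inv, ← mul_inv_rev, iha (hHU ha), inv_one]
  -- the product and its commutation with the root element at `d`
  let PU : List ℕ → ↥U ⧸ N := fun Q => (Q.map fun r => p r (t r)).prod
  have S_comm : ∀ a ∈ S, ∀ b ∈ S, ∀ s u, Commute (p b u) (p a s) := fun a ha b hb' s u =>
    p_comm (hI.posS a ha) (hI.posS b hb') (fun x hx hxb => absurd (hxb ▸ hb') (hI.comm a ha x hx)) s u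
  have P_sq : ∀ Q : List ℕ, (∀ a ∈ Q, a ∈ S) → PU Q * PU Q = 1 := by
    intro Q
    induction Q with
    | nil => simp [PU]
    | cons a Q ih =>
      intro hQ
      have hc' : Commute (p a (t a)) (PU Q) := Commute.list_prod_right _ _ fun y hy => by
        obtain ⟨b, hb', rfl⟩ := List.mem_map.1 hy
        exact (S_comm a (hQ a List.mem_cons_self) b (hQ b (List.mem_cons_of_mem _ hb')) _ _).symm
      show p a (t a) * PU Q * (p a (t a) * PU Q) = 1
      rw [hc'.symm.mul_mul_mul_comm, p_sq, one_mul, ih fun b hb' => hQ b (List.mem_cons_of_mem _ hb')]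
  have m_central : ∀ {a}, Pos (D := D) a → ∀ s u, Commute (p m u) (p a s) := fun {a} ha s u =>
    p_comm ha ⟨hm.1, hm.2⟩ (fun x hx hxb => by have := (ent_spec hT ha hx).2.2.2.2.1; omega) s u
  let val : ℕ → K := fun a => (((ent D T a).filter fun x => x.1 == d).map fun x =>
    if x.2.1 = m then t a ^ x.2.2.1 * c ^ x.2.2.2 else 0).sum
  have one_pass : ∀ a ∈ S, p d c * p a (t a) = p a (t a) * p d c * p m (val a) := by
    intro a ha
    rw [p_cn (hI.posS a ha) hd']
    congr 1
    have hmem : ∀ x ∈ (ent D T a).filter (fun x => x.1 == d), x.2.1 = m ∨ m < x.2.1 := by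
      intro x hx
      by_cases hle : m < x.2.1
      · exact Or.inr hle
      · left
        simp only [List.mem_filter, beq_iff_eq] at hx
        have : (x.2.1 == m) ∈ [true] := hone ▸ List.mem_flatMap.2 ⟨a, ha, List.mem_map.2 ⟨x,
          List.mem_filter.2 ⟨hx.1, by simp [hx.2]; omega⟩, rfl⟩⟩
        simpa using this
    have hpos : ∀ x ∈ (ent D T a).filter (fun x => x.1 == d), Pos (D := D) x.2.1 := fun x hx =>
      (ent_spec hT (hI.posS a ha) (List.mem_filter.1 hx).1).2.1
    simp only [val]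
    revert hmem hpos
    induction (ent D T a).filter (fun x => x.1 == d) with
    | nil => simp [p_zero]
    | cons x L ihL =>
      intro hmem hpos
      rw [List.map_cons, List.prod_cons, List.map_cons, List.sum_cons,
        ihL (fun y hy => hmem y (List.mem_cons_of_mem _ hy)) (fun y hy => hpos y (List.mem_cons_of_mem _ hy)),
        ← p_mul ⟨hm.1, hm.2⟩]
      congr 1
      rcases hmem x List.mem_cons_self with e | hlt
      · rw [if_pos e, e]
      · rw [if_neg (by omega), p_zero, p_high (hpos x List.mem_cons_self) hlt]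
  have pass : ∀ Q : List ℕ, (∀ a ∈ Q, a ∈ S) → p d c * PU Q = PU Q * p d c * p m (Q.map val).sum := by
    intro Q
    induction Q with
    | nil => simp [PU, p_zero]
    | cons a Q ih =>
      intro hQ
      have hc' : Commute (p m (val a)) (PU Q) := Commute.list_prod_right _ _ fun y hy => by
        obtain ⟨b, hb', rfl⟩ := List.mem_map.1 hy
        exact m_central (hI.posS b (hQ b (List.mem_cons_of_mem _ hb'))) _ _
      show p d c * (p a (t a) * PU Q) = p a (t a) * PU Q * p d c * p m ((a :: Q).map val).sum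
      rw [← mul_assoc, one_pass a (hQ a List.mem_cons_self), mul_assoc _ (p m (val a)), hc'.eq, ← mul_assoc,
        mul_assoc (p a (t a)), ih (fun b hb' => hQ b (List.mem_cons_of_mem _ hb')), List.map_cons, List.sum_cons,
        add_comm, ← p_mul ⟨hm.1, hm.2⟩]
      simp only [mul_assoc]
  have hvU : v₀ ∈ U := hHU hv₀
  have hPU : ∀ Q : List ℕ, (∀ a ∈ Q, a ∈ S) → ((Q.map fun r => xu r (t r)).prod : GL D.Idx K) = Pv S₀ Q t := by
    intro Q hQ
    rw [SubmonoidClass.coe_list_prod, List.map_map, Pv, Function.comp_def,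
      List.map_congr_left (g := fun r => S₀.ok.xG r (t r)) fun r hr => xu_val (hI.posS r (hQ r hr)) _]
  set V := π ⟨v₀, hvU⟩
  have hP : π ((S.map fun r => xu r (t r)).prod) = PU S := by rw [map_list_prod, List.map_map]; rfl
  have h3 : (PU S * p d c * V) * (PU S * p d c * V) = 1 := by
    rw [← hP]
    simp only [p, V, ← map_mul]
    have : (List.map (fun r => xu r (t r)) S).prod * xu d c * (⟨v₀, hvU⟩ : ↥U) *
        ((List.map (fun r => xu r (t r)) S).prod * xu d c * ⟨v₀, hvU⟩) = 1 := by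
      refine Subtype.ext ?_
      simp only [Subgroup.coe_mul, hPU S (fun _ h => h), xu_val hd', Subgroup.coe_one]
      simpa [mul_assoc] using h2
    rw [this, map_one]
  have hV : Commute V (PU S * p d c) := by
    refine Commute.mul_right (Commute.list_prod_right _ _ fun y hy => ?_) (v_comm d (Or.inr hd) c _ hv₀)
    obtain ⟨b, hb', rfl⟩ := List.mem_map.1 hy
    exact v_comm b (Or.inl hb') _ _ hv₀
  rw [hV.mul_mul_mul_comm, v_sq v₀ hv₀ hvU, mul_one, mul_assoc (PU S), ← mul_assoc (p d c),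
    pass S (fun _ h => h), mul_assoc (PU S * p d c) _ (p d c), (m_central hd' c _).eq,
    ← mul_assoc (PU S * p d c), mul_assoc (PU S) (p d c) (p d c), p_sq, mul_one, ← mul_assoc, P_sq S (fun _ h => h),
    one_mul, hzero, xu_val ⟨hm.1, hm.2⟩] at h3
  have hA := S₀.xG_inf_Ugen hm.2 hm.1 h3
  -- exactly one term
  have hcount : ∀ Q : List ℕ, ∀ L : List Bool,
      (Q.flatMap fun a => ((ent D T a).filter fun x => (x.1 == d) && decide (x.2.1 ≤ m)).map fun x =>
        ((x.2.1 == m) : Bool)) = L → L.all (fun b => !b) = true → (Q.map val).sum = 0 := by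
    intro Q L hL hf
    subst hL
    refine List.sum_eq_zero fun z hz => ?_
    obtain ⟨a, ha, rfl⟩ := List.mem_map.1 hz
    refine List.sum_eq_zero fun z hz => ?_
    obtain ⟨x, hx, rfl⟩ := List.mem_map.1 hz
    simp only [List.mem_filter, beq_iff_eq] at hx
    rw [if_neg]
    intro e
    simp only [List.all_eq_true, List.mem_flatMap, List.mem_map, List.mem_filter, Bool.not_eq_true',
      forall_exists_index, and_imp] at hf
    have := hf _ a ha x hx.1 (by simp [hx.2, e]) rfl
    simp [e] at this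
  have key : ∀ Q : List ℕ, (∀ a ∈ Q, a ∈ S) →
      (Q.flatMap fun a => ((ent D T a).filter fun x => (x.1 == d) && decide (x.2.1 ≤ m)).map fun x =>
        ((x.2.1 == m) : Bool)) = [true] → (Q.map val).sum = 0 → c = 0 := by
    intro Q
    induction Q with
    | nil => intro _ h; simp at h
    | cons a Q ih =>
      intro hQ hh hz
      rw [List.flatMap_cons] at hh
      rcases hl : (((ent D T a).filter fun x => (x.1 == d) && decide (x.2.1 ≤ m)).map fun x =>
          ((x.2.1 == m) : Bool)) with - | ⟨b, rest⟩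
      · rw [hl, List.nil_append] at hh
        have hva : val a = 0 := by
          refine List.sum_eq_zero fun z hz' => ?_
          obtain ⟨x, hx, rfl⟩ := List.mem_map.1 hz'
          simp only [List.mem_filter, beq_iff_eq] at hx
          rw [if_neg]
          intro e
          have := List.map_eq_nil_iff.1 hl
          rw [List.filter_eq_nil_iff] at this
          simpa [hx.2, e] using this x hx.1
        rw [List.map_cons, List.sum_cons, hva, zero_add] at hz
        exact ih (fun b hb' => hQ b (List.mem_cons_of_mem _ hb')) hh hz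
      · rw [hl, List.cons_append, List.cons.injEq, List.append_eq_nil_iff] at hh
        obtain ⟨rfl, rfl, hQ'⟩ := hh
        rw [List.map_cons, List.sum_cons, hcount Q [] hQ' rfl, add_zero] at hz
        obtain ⟨x, hx, hxm⟩ : ∃ x, ((ent D T a).filter fun x => (x.1 == d) && decide (x.2.1 ≤ m)) = [x] ∧
            x.2.1 = m := by
          obtain ⟨x, hx, hm'⟩ := List.map_eq_singleton_iff.1 hl
          exact ⟨x, hx, by simpa using hm'⟩
        have hval : val a = t a ^ x.2.2.1 * c ^ x.2.2.2 := by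
          have hg : val a = (((ent D T a).filter fun x => (x.1 == d) && decide (x.2.1 ≤ m)).map fun x =>
              if x.2.1 = m then t a ^ x.2.2.1 * c ^ x.2.2.2 else 0).sum := by
            simp only [val]
            induction ent D T a with
            | nil => rfl
            | cons y L ihL =>
              by_cases h1 : y.1 = d <;> by_cases h2 : y.2.1 ≤ m <;>
                simp [List.filter_cons, h1, h2] at ihL ⊢ <;>
                first | exact ihL | (rw [if_neg (by omega), zero_add]; exact ihL)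
          rw [hg, hx]; simp [hxm]
        rw [hval, mul_eq_zero] at hz
        exact eq_zero_of_pow_eq_zero (hz.resolve_left (pow_ne_zero _ (ht a (hQ a List.mem_cons_self))))
  exact key S (fun _ h => h) hone hA

theorem sound [Fintype K] (hT : okTab D T = true) (fin : List ℕ → ℕ → Bool) :
    ∀ (fu : ℕ) (S : List ℕ) (R : ℕ) (L rest : List ℕ), chk D T fin fu S R L = some rest → Inv (D := D) T S R →
      ∀ t : ℕ → K, (∀ a ∈ S, t a ≠ 0) → ∀ v ∈ HR S₀ R, Pv S₀ S t * v * (Pv S₀ S t * v) = 1 →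
        ∃ S' code, fin S' code = true ∧ S'.Nodup ∧ (∀ a ∈ S', hlf D ≤ a ∧ a < D.nroots) ∧
          (∀ a ∈ S', ∀ x ∈ ent D T a, x.1 ∉ S') ∧
          ∃ t' : ℕ → K, (∀ a ∈ S', t' a ≠ 0) ∧ Cj S₀ (Pv S₀ S t * v) (Pv S₀ S' t') := by
  intro fu
  induction fu with
  | zero => intro S R L rest h; simp [chk] at h
  | succ fu ih =>
    intro S R L rest h hI t ht v hv h2
    rcases L with - | ⟨c, L⟩
    · simp [chk] at h
    simp only [chk] at h
    by_cases hR : R = 0
    · subst hR
      simp only [beq_self_eq_true, if_true] at h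
      split_ifs at h with hf
      refine ⟨S, c, hf, hI.nodup, hI.posS, hI.comm, t, ht, ?_⟩
      have hv1 : v = 1 := by
        have : HR (K := K) S₀ 0 ≤ ⊥ := (Subgroup.closure_le _).2 fun g ⟨r, hr, _⟩ => by simp at hr
        exact Subgroup.mem_bot.1 (this hv)
      rw [hv1, mul_one]
      exact Cj.refl S₀ _
    rw [if_neg (by simpa using hR)] at h
    by_cases hrem : okRem D T S R (R ^^^ 2 ^ (c / 4 % 256)) (c / 4 % 256) = true
    swap
    · rw [if_neg hrem] at h; simp at h
    rw [if_pos hrem] at h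
    obtain ⟨hd, hb, hI', hdc⟩ := rem_spec hT hI hrem
    split_ifs at h with k1 k2 k3 k4 k5
    · obtain ⟨v', hv', hc'⟩ := kill_step S₀ hT hI hrem k2 ht hv
      obtain ⟨S', code, f1, f2, f3, f4, t', f5, f6⟩ := ih S _ L rest h hI' t ht v' hv' (hc'.sq S₀ h2)
      exact ⟨S', code, f1, f2, f3, f4, t', f5, hc'.trans S₀ f6⟩
    · exact ih S _ L rest h hI' t ht v (force_step S₀ hT hI hrem k4 ht hv h2) h2
    · set d := c / 4 % 256
      obtain ⟨r1, h1, h1'⟩ := Option.bind_eq_some_iff.1 h
      obtain ⟨a, v₀, hv₀, rfl⟩ := split S₀ hT hd (hI.posR d hd) hb hI'.posR hdc hv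
      rcases eq_or_ne a 0 with rfl | ha
      · rw [S₀.xG_zero, one_mul] at h2 ⊢
        exact ih S _ r1 rest h1' hI' t ht v₀ hv₀ h2
      simp only [okBranch, Bool.and_eq_true, Bool.not_eq_true', List.all_eq_true, List.contains_eq_mem,
        decide_eq_false_iff_not, bne_iff_ne] at k5
      obtain ⟨⟨hdS, hdc'⟩, hSd⟩ := k5
      have hI'' : Inv (D := D) T (d :: S) (R ^^^ 2 ^ d) := by
        refine ⟨?_, hI'.posR, List.nodup_cons.2 ⟨hdS, hI.nodup⟩, ?_, ?_⟩
        · intro b hb'
          rcases List.mem_cons.1 hb' with rfl | hb'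
          exacts [hI.posR _ hd, hI.posS b hb']
        · intro b hb' x hx hx'
          rcases List.mem_cons.1 hb' with rfl | hb' <;> rcases List.mem_cons.1 hx' with hxd | hxS
          · exact (ent_spec hT (hI.posR _ hd) hx).2.2.1 hxd
          · exact hdc' x hx hxS
          · exact hSd b hb' x hx hxd
          · exact hI.comm b hb' x hx hxS
        · intro b hb' x hx hx'
          rcases hb' with hb' | hb'
          · rcases List.mem_cons.1 hb' with rfl | hb'
            exacts [hdc x hx hx', hI'.closed b (Or.inl hb') x hx hx']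
          · exact hI'.closed b (Or.inr hb') x hx hx'
      set t' := Function.update t d a
      have hS' : Pv S₀ S t' = Pv S₀ S t := by
        simp only [Pv]
        refine congrArg List.prod (List.map_congr_left fun r hr => ?_)
        simp only [t']
        rw [Function.update_of_ne (fun e : r = d => hdS (e ▸ hr))]
      have hcomm : Commute (S₀.ok.xG d a) (Pv S₀ S t) := Commute.list_prod_right _ _ fun y hy => by
        obtain ⟨b, hb', rfl⟩ := List.mem_map.1 hy
        have e := cn S₀ hT (hI.posS b hb') (hI.posR _ hd) (t b) a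
        rw [List.filter_eq_nil_iff.2 (fun x hx => by simpa using hSd b hb' x hx), List.map_nil, List.prod_nil,
          mul_one, mul_assoc, inv_mul_eq_iff_eq_mul] at e
        exact e
      have hPv : Pv S₀ (d :: S) t' * v₀ = Pv S₀ S t * (S₀.ok.xG d a * v₀) := by
        simp only [Pv, List.map_cons, List.prod_cons, t', Function.update_self] at hS' hcomm ⊢
        rw [hS', ← mul_assoc, hcomm.eq]
      rw [← hPv] at h2 ⊢
      exact ih (d :: S) _ L r1 h1 hI'' t' (fun b hb' => by
        rcases List.mem_cons.1 hb' with rfl | hb'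
        · simpa [t'] using ha
        · simp only [t']; rw [Function.update_of_ne (fun e : b = d => hdS (e ▸ hb'))]; exact ht b hb') v₀ hv₀ h2

/-- An involution of the positive unipotent group reduces to a certified product of commuting root elements. -/
theorem reduce [Fintype K] (hT : okTab D T = true) {fin : List ℕ → ℕ → Bool} {L : List ℕ}
    (hL : okTree D T fin L = true) {u : GL D.Idx K} (hu : u ∈ D.posUnipotent K) (h2 : u * u = 1) :
    ∃ S code, fin S code = true ∧ S.Nodup ∧ (∀ a ∈ S, hlf D ≤ a ∧ a < D.nroots) ∧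
      (∀ a ∈ S, ∀ x ∈ ent D T a, x.1 ∉ S) ∧
      ∃ t : ℕ → K, (∀ a ∈ S, t a ≠ 0) ∧ Cj S₀ u (Pv S₀ S t) := by
  obtain ⟨rest, hrest⟩ := Option.isSome_iff_exists.1 hL
  have hI : Inv (D := D) T [] (R0 D) := ⟨by simp, R0_testBit, List.nodup_nil, by simp, fun a ha x hx _ => by
    exact R0_pos (ent_spec hT (ha.elim (by simp) (R0_testBit a)) hx).2.1⟩
  have huR : u ∈ HR S₀ (R0 D) := by
    rw [S₀.posUnipotent_eq] at hu
    have hle : S₀.Ugen K (D.nroots / 2) ≤ HR S₀ (R0 D) := (Subgroup.closure_le _).2 fun g ⟨r, s, a, b, e⟩ =>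
      e ▸ xG_mem_HR S₀ (R0_pos ⟨a, b⟩) s
    exact hle hu
  obtain ⟨S, code, f1, f2, f3, f4, t, f5, f6⟩ := sound S₀ hT fin _ [] _ L rest hrest hI (fun _ => 1) (by simp) u huR
    (by simpa [Pv] using h2)
  exact ⟨S, code, f1, f2, f3, f4, t, f5, by simpa [Pv] using f6⟩

end Sound

end Cfsg.Lib.Chev.InvElim
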