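import Cfsg.Agent.Chev.InvElim.Core

/-! Commutator tables for E6 in characteristic two. -/

set_option autoImplicit false
set_option maxRecDepth 100000

open Cfsg.Lie

namespace Cfsg.Lib.Chev.InvElim.DE6

/-- The table. -/
def tab : Tab where
  nb := [
  [(37, 38, 1, 1), (40, 41, 1, 1), (44, 45, 1, 1), (48, 49, 1, 1), (51, 52, 1, 1), (53, 54, 1, 1), (59, 60, 1, 1), (62, 63, 1, 1), (64, 65, 1, 1), (67, 68, 1, 1)],
  [(36, 38, 1, 1), (39, 40, 1, 1), (43, 44, 1, 1), (47, 48, 1, 1), (50, 51, 1, 1), (54, 55, 1, 1), (58, 59, 1, 1), (61, 62, 1, 1), (65, 66, 1, 1), (68, 69, 1, 1)],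
  [(39, 41, 1, 1), (43, 45, 1, 1), (47, 49, 1, 1), (50, 52, 1, 1), (53, 55, 1, 1), (58, 60, 1, 1), (61, 63, 1, 1), (64, 66, 1, 1), (67, 69, 1, 1)],
  [(37, 40, 1, 1), (38, 41, 1, 1), (42, 43, 1, 1), (46, 47, 1, 1), (51, 53, 1, 1), (52, 54, 1, 1), (57, 58, 1, 1), (62, 64, 1, 1), (63, 65, 1, 1), (69, 70, 1, 1)],
  [(36, 41, 1, 1), (42, 44, 1, 1), (46, 48, 1, 1), (50, 53, 1, 1), (52, 55, 1, 1), (57, 59, 1, 1), (61, 64, 1, 1), (63, 66, 1, 1), (68, 70, 1, 1)],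
  [(42, 45, 1, 1), (46, 49, 1, 1), (50, 54, 1, 1), (51, 55, 1, 1), (57, 60, 1, 1), (61, 65, 1, 1), (62, 66, 1, 1), (67, 70, 1, 1)],
  [(39, 43, 1, 1), (40, 44, 1, 1), (41, 45, 1, 1), (47, 50, 1, 1), (48, 51, 1, 1), (49, 52, 1, 1), (56, 57, 1, 1), (64, 67, 1, 1), (65, 68, 1, 1), (66, 69, 1, 1)],
  [(37, 44, 1, 1), (38, 45, 1, 1), (46, 50, 1, 1), (48, 53, 1, 1), (49, 54, 1, 1), (56, 58, 1, 1), (62, 67, 1, 1), (63, 68, 1, 1), (66, 70, 1, 1)],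
  [(36, 45, 1, 1), (46, 51, 1, 1), (47, 53, 1, 1), (49, 55, 1, 1), (56, 59, 1, 1), (61, 67, 1, 1), (63, 69, 1, 1), (65, 70, 1, 1)],
  [(46, 52, 1, 1), (47, 54, 1, 1), (48, 55, 1, 1), (56, 60, 1, 1), (61, 68, 1, 1), (62, 69, 1, 1), (64, 70, 1, 1)],
  [(39, 47, 1, 1), (40, 48, 1, 1), (41, 49, 1, 1), (43, 50, 1, 1), (44, 51, 1, 1), (45, 52, 1, 1), (58, 61, 1, 1), (59, 62, 1, 1), (60, 63, 1, 1), (70, 71, 1, 1)],
  [(37, 48, 1, 1), (38, 49, 1, 1), (42, 50, 1, 1), (44, 53, 1, 1), (45, 54, 1, 1), (57, 61, 1, 1), (59, 64, 1, 1), (60, 65, 1, 1), (69, 71, 1, 1)],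
  [(36, 49, 1, 1), (42, 51, 1, 1), (43, 53, 1, 1), (45, 55, 1, 1), (57, 62, 1, 1), (58, 64, 1, 1), (60, 66, 1, 1), (68, 71, 1, 1)],
  [(42, 52, 1, 1), (43, 54, 1, 1), (44, 55, 1, 1), (57, 63, 1, 1), (58, 65, 1, 1), (59, 66, 1, 1), (67, 71, 1, 1)],
  [(37, 51, 1, 1), (38, 52, 1, 1), (40, 53, 1, 1), (41, 54, 1, 1), (56, 61, 1, 1), (59, 67, 1, 1), (60, 68, 1, 1), (66, 71, 1, 1)],
  [(36, 52, 1, 1), (39, 53, 1, 1), (41, 55, 1, 1), (56, 62, 1, 1), (58, 67, 1, 1), (60, 69, 1, 1), (65, 71, 1, 1)],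
  [(39, 54, 1, 1), (40, 55, 1, 1), (56, 63, 1, 1), (58, 68, 1, 1), (59, 69, 1, 1), (64, 71, 1, 1)],
  [(36, 54, 1, 1), (38, 55, 1, 1), (56, 64, 1, 1), (57, 67, 1, 1), (60, 70, 1, 1), (63, 71, 1, 1)],
  [(37, 55, 1, 1), (56, 65, 1, 1), (57, 68, 1, 1), (59, 70, 1, 1), (62, 71, 1, 1)],
  [(56, 66, 1, 1), (57, 69, 1, 1), (58, 70, 1, 1), (61, 71, 1, 1)],
  [(42, 57, 1, 1), (43, 58, 1, 1), (44, 59, 1, 1), (45, 60, 1, 1), (50, 61, 1, 1), (51, 62, 1, 1), (52, 63, 1, 1), (53, 64, 1, 1), (54, 65, 1, 1), (55, 66, 1, 1)],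
  [(39, 58, 1, 1), (40, 59, 1, 1), (41, 60, 1, 1), (47, 61, 1, 1), (48, 62, 1, 1), (49, 63, 1, 1), (53, 67, 1, 1), (54, 68, 1, 1), (55, 69, 1, 1)],
  [(37, 59, 1, 1), (38, 60, 1, 1), (46, 61, 1, 1), (48, 64, 1, 1), (49, 65, 1, 1), (51, 67, 1, 1), (52, 68, 1, 1), (55, 70, 1, 1)],
  [(36, 60, 1, 1), (46, 62, 1, 1), (47, 64, 1, 1), (49, 66, 1, 1), (50, 67, 1, 1), (52, 69, 1, 1), (54, 70, 1, 1)],
  [(46, 63, 1, 1), (47, 65, 1, 1), (48, 66, 1, 1), (50, 68, 1, 1), (51, 69, 1, 1), (53, 70, 1, 1)],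
  [(37, 62, 1, 1), (38, 63, 1, 1), (40, 64, 1, 1), (41, 65, 1, 1), (44, 67, 1, 1), (45, 68, 1, 1), (55, 71, 1, 1)],
  [(36, 63, 1, 1), (39, 64, 1, 1), (41, 66, 1, 1), (43, 67, 1, 1), (45, 69, 1, 1), (54, 71, 1, 1)],
  [(39, 65, 1, 1), (40, 66, 1, 1), (43, 68, 1, 1), (44, 69, 1, 1), (53, 71, 1, 1)],
  [(36, 65, 1, 1), (38, 66, 1, 1), (42, 67, 1, 1), (45, 70, 1, 1), (52, 71, 1, 1)],
  [(37, 66, 1, 1), (42, 68, 1, 1), (44, 70, 1, 1), (51, 71, 1, 1)],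
  [(42, 69, 1, 1), (43, 70, 1, 1), (50, 71, 1, 1)],
  [(36, 68, 1, 1), (38, 69, 1, 1), (41, 70, 1, 1), (49, 71, 1, 1)],
  [(37, 69, 1, 1), (40, 70, 1, 1), (48, 71, 1, 1)],
  [(39, 70, 1, 1), (47, 71, 1, 1)],
  [(46, 71, 1, 1)],
  []]
  pr := [
  [],
  [],
  [(36, 37), (37, 36)],
  [],
  [(37, 39), (39, 37)],
  [(36, 40), (38, 39), (39, 38), (40, 36)],
  [],
  [(39, 42), (42, 39)],
  [(37, 43), (40, 42), (42, 40), (43, 37)],
  [(36, 44), (38, 43), (41, 42), (42, 41), (43, 38), (44, 36)],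
  [],
  [(39, 46), (46, 39)],
  [(37, 47), (40, 46), (46, 40), (47, 37)],
  [(36, 48), (38, 47), (41, 46), (46, 41), (47, 38), (48, 36)],
  [(42, 47), (43, 46), (46, 43), (47, 42)],
  [(37, 50), (42, 48), (44, 46), (46, 44), (48, 42), (50, 37)],
  [(36, 51), (38, 50), (42, 49), (45, 46), (46, 45), (49, 42), (50, 38), (51, 36)],
  [(39, 51), (40, 50), (43, 48), (44, 47), (47, 44), (48, 43), (50, 40), (51, 39)],
  [(36, 53), (39, 52), (41, 50), (43, 49), (45, 47), (47, 45), (49, 43), (50, 41), (52, 39), (53, 36)],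
  [(37, 54), (38, 53), (40, 52), (41, 51), (44, 49), (45, 48), (48, 45), (49, 44), (51, 41), (52, 40), (53, 38), (54, 37)],
  [],
  [(42, 56), (56, 42)],
  [(39, 57), (43, 56), (56, 43), (57, 39)],
  [(37, 58), (40, 57), (44, 56), (56, 44), (57, 40), (58, 37)],
  [(36, 59), (38, 58), (41, 57), (45, 56), (56, 45), (57, 41), (58, 38), (59, 36)],
  [(46, 58), (47, 57), (50, 56), (56, 50), (57, 47), (58, 46)],
  [(37, 61), (46, 59), (48, 57), (51, 56), (56, 51), (57, 48), (59, 46), (61, 37)],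
  [(36, 62), (38, 61), (46, 60), (49, 57), (52, 56), (56, 52), (57, 49), (60, 46), (61, 38), (62, 36)],
  [(39, 62), (40, 61), (47, 59), (48, 58), (53, 56), (56, 53), (58, 48), (59, 47), (61, 40), (62, 39)],
  [(36, 64), (39, 63), (41, 61), (47, 60), (49, 58), (54, 56), (56, 54), (58, 49), (60, 47), (61, 41), (63, 39), (64, 36)],
  [(37, 65), (38, 64), (40, 63), (41, 62), (48, 60), (49, 59), (55, 56), (56, 55), (59, 49), (60, 48), (62, 41), (63, 40), (64, 38), (65, 37)],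
  [(42, 64), (43, 62), (44, 61), (50, 59), (51, 58), (53, 57), (57, 53), (58, 51), (59, 50), (61, 44), (62, 43), (64, 42)],
  [(36, 67), (42, 65), (43, 63), (45, 61), (50, 60), (52, 58), (54, 57), (57, 54), (58, 52), (60, 50), (61, 45), (63, 43), (65, 42), (67, 36)],
  [(37, 68), (38, 67), (42, 66), (44, 63), (45, 62), (51, 60), (52, 59), (55, 57), (57, 55), (59, 52), (60, 51), (62, 45), (63, 44), (66, 42), (67, 38), (68, 37)],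
  [(39, 69), (40, 68), (41, 67), (43, 66), (44, 65), (45, 64), (53, 60), (54, 59), (55, 58), (58, 55), (59, 54), (60, 53), (64, 45), (65, 44), (66, 43), (67, 41), (68, 40), (69, 39)],
  [(46, 70), (47, 69), (48, 68), (49, 67), (50, 66), (51, 65), (52, 64), (53, 63), (54, 62), (55, 61), (61, 55), (62, 54), (63, 53), (64, 52), (65, 51), (66, 50), (67, 49), (68, 48), (69, 47), (70, 46)]]

theorem tab_ok : okTab chevE6 tab = true := by decide +kernel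

end Cfsg.Lib.Chev.InvElim.DE6
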