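import Cfsg.Agent.Chev.InvElim.Core

/-! The checker of case trees as a machine that can stop and resume, so that long trees are checked in parts. -/

set_option autoImplicit false

open Cfsg.Lie

namespace Cfsg.Lib.Chev.InvElim

variable (D : ChevalleyDatum) (T : Tab) (fin : List ℕ → ℕ → Bool)

/-- One step on the pending cases. -/
def step (S : List ℕ) (R c : ℕ) : Option (List (List ℕ × ℕ)) :=
  if R == 0 then (if fin S c then some [] else none)
  else
    let d := c / 4 % 256
    let x := c / 1024
    let R' := R ^^^ 2 ^ d
    if okRem D T S R R' d then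
      if c % 4 == 0 then (if okKill D T S R R' d x then some [(S, R')] else none)
      else if c % 4 == 1 then (if okForce D T S R R' d x then some [(S, R')] else none)
      else if okBranch D T S d then some [(d :: S, R'), (S, R')] else none
    else none

/-- Processing of a part of the code on the pending cases. -/
def run : List (List ℕ × ℕ) → List ℕ → Option (List (List ℕ × ℕ))
  | st, [] => some st
  | [], _ :: _ => none
  | (S, R) :: st, c :: L => (step D T fin S R c).bind fun p => run (p ++ st) L

/-- The checker applied to all pending cases in turn. -/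
def chkSeq (fu : ℕ) : List (List ℕ × ℕ) → List ℕ → Option (List ℕ)
  | [], L => some L
  | (S, R) :: st, L => (chk D T fin fu S R L).bind (chkSeq fu st)

theorem run_append : ∀ (a b : List ℕ) (st : List (List ℕ × ℕ)),
    run D T fin st (a ++ b) = (run D T fin st a).bind fun st' => run D T fin st' b
  | [], b, st => by simp [run]
  | c :: a, b, [] => by simp [run]
  | c :: a, b, (S, R) :: st => by
    simp only [List.cons_append, run]
    cases step D T fin S R c with
    | none => rfl
    | some p => simp [run_append a b (p ++ st)]

theorem run_chain {a b : List ℕ} {st st' : List (List ℕ × ℕ)} (h : run D T fin st a = some st')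
    (h' : run D T fin st' b = some []) : run D T fin st (a ++ b) = some [] := by
  rw [run_append, h]; exact h'

theorem chk_mono : ∀ (fu : ℕ) (S : List ℕ) (R : ℕ) (L r : List ℕ),
    chk D T fin fu S R L = some r → chk D T fin (fu + 1) S R L = some r := by
  intro fu
  induction fu with
  | zero => intro S R L r h; simp [chk] at h
  | succ fu ih =>
    intro S R L r h
    rcases L with - | ⟨c, L⟩
    · simp [chk] at h
    rw [chk] at h ⊢
    dsimp only at h ⊢
    split_ifs at h ⊢
    all_goals first
      | exact h
      | exact ih _ _ _ _ h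
      | (obtain ⟨r1, h1, h2⟩ := Option.bind_eq_some_iff.1 h
         exact Option.bind_eq_some_iff.2 ⟨r1, ih _ _ _ _ h1, ih _ _ _ _ h2⟩)

theorem chkSeq_mono (fu : ℕ) : ∀ (st : List (List ℕ × ℕ)) (L r : List ℕ),
    chkSeq D T fin fu st L = some r → chkSeq D T fin (fu + 1) st L = some r
  | [], L, r, h => h
  | (S, R) :: st, L, r, h => by
    obtain ⟨r1, h1, h2⟩ := Option.bind_eq_some_iff.1 h
    exact Option.bind_eq_some_iff.2 ⟨r1, chk_mono D T fin _ _ _ _ _ h1, chkSeq_mono fu st r1 r h2⟩

theorem chkSeq_of_run : ∀ (L : List ℕ) (fu : ℕ) (st : List (List ℕ × ℕ)), L.length < fu →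
    run D T fin st L = some [] → chkSeq D T fin fu st L = some []
  | [], fu, st, _, h => by
    obtain rfl : st = [] := by simpa [run] using h
    rfl
  | c :: L, 0, st, hl, _ => by simp at hl
  | c :: L, fu + 1, [], _, h => by simp [run] at h
  | c :: L, fu + 1, (S, R) :: st, hl, h => by
    simp only [List.length_cons, Nat.add_lt_add_iff_right] at hl
    rw [run] at h
    obtain ⟨p, hp, h'⟩ := Option.bind_eq_some_iff.1 h
    have ih := chkSeq_of_run L fu (p ++ st) hl h'
    rw [chkSeq, chk]
    rw [step] at hp
    dsimp only at hp ⊢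
    split_ifs at hp ⊢
    all_goals
      obtain rfl := Option.some.inj hp
      simp only [List.nil_append, List.cons_append, chkSeq] at ih
    · exact chkSeq_mono D T fin fu st L [] ih
    all_goals
      obtain ⟨r1, h1, h2⟩ := Option.bind_eq_some_iff.1 ih
    · exact Option.bind_eq_some_iff.2 ⟨r1, h1, chkSeq_mono D T fin fu st r1 [] h2⟩
    · exact Option.bind_eq_some_iff.2 ⟨r1, h1, chkSeq_mono D T fin fu st r1 [] h2⟩
    · obtain ⟨r2, h3, h4⟩ := Option.bind_eq_some_iff.1 h2
      exact Option.bind_eq_some_iff.2 ⟨r2, Option.bind_eq_some_iff.2 ⟨r1, h1, h3⟩, chkSeq_mono D T fin fu st r2 [] h4⟩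

/-- A tree checked in parts is valid. -/
theorem okTree_of_run {L : List ℕ} (h : run D T fin [([], R0 D)] L = some []) : okTree D T fin L = true := by
  have h' := chkSeq_of_run D T fin L (L.length + 1) _ (Nat.lt_succ_self _) h
  obtain ⟨r, h1, -⟩ := Option.bind_eq_some_iff.1 h'
  rw [okTree, h1]; rfl

end Cfsg.Lib.Chev.InvElim
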