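import Cfsg.Agent.Chev.InvElim.Classify
import Cfsg.Agent.Chev.InvElim.Run
import Cfsg.Agent.Chev.InvElim.E7Tab
import Cfsg.Agent.Chev.Types

/-! The certified case tree and representatives for E7. -/

set_option autoImplicit false
set_option maxRecDepth 100000

open Cfsg.Lie

namespace Cfsg.Lib.Chev.InvElim.DE7

/-- The canonical sets and the reductions between them. -/
def cl : Cl chevE7 where
  canon := [[], [63], [63, 66], [63, 66, 73], [63, 66, 78], [63, 66, 73, 78], [76, 84, 116, 121], [64, 69, 93, 111, 118], [68, 71, 75, 80, 89, 125], [64, 73, 89, 95, 102, 118, 119]]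
  ys := [[],
    [[0, 0, 0, 0, 0, 0, 1]],
    [[0, 0, 0, 0, 0, 0, 1], [0, 0, 0, 0, 1, 0, 0]],
    [[0, 0, 0, 0, 0, 0, 1], [0, 0, 0, 0, 1, 0, 0], [0, 0, 1, 0, 0, 0, 0]],
    [[0, 0, 0, 0, 0, 0, 1], [0, 0, 0, 0, 1, 0, 0], [0, 1, 0, 0, 0, 0, 0]],
    [[0, 0, 0, 0, 0, 0, 1], [0, 0, 0, 0, 1, 0, 0], [0, 0, 1, 0, 0, 0, 0], [0, 1, 0, 0, 0, 0, 0]],
    [[0, 0, 1, 1, 1, 1, 0], [0, 1, 1, 1, 1, 0, 0], [1, 1, 2, 3, 2, 1, 1], [1, 2, 2, 3, 2, 2, 1]],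
    [[0, 0, 0, 0, 0, 1, 0], [0, 0, 0, 1, 0, 0, 0], [1, 0, 0, 0, 0, 0, 0], [1, 1, 2, 2, 1, 1, 1], [1, 1, 2, 3, 3, 2, 1]],
    [[0, 0, 0, 0, 1, 1, 1], [0, 0, 0, 1, 1, 1, 0], [0, 0, 1, 1, 1, 0, 0], [0, 1, 0, 1, 1, 0, 0], [0, 1, 1, 2, 1, 1, 1], [2, 2, 3, 4, 3, 2, 1]],
    [[0, 0, 0, 0, 0, 1, 0], [0, 0, 1, 0, 0, 0, 0], [0, 1, 1, 2, 1, 1, 1], [1, 0, 1, 1, 0, 0, 0], [1, 1, 1, 1, 1, 1, 1], [1, 1, 2, 3, 3, 2, 1], [1, 2, 2, 3, 2, 1, 0]]]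
  red := [none,
    none,
    none,
    none,
    none,
    none,
    some ([64, 85, 78, 105], [76, 84, 116], 1023760493075),
    some ([67, 70, 113, 114], [64, 69, 93, 111], 16761180565),
    some ([104, 102, 109, 108], [68, 71, 75, 80, 89], 24892977335),
    some ([71, 75, 107, 108], [64, 73, 89, 95, 102, 119], 100884115864)]

theorem cl_ok : okCl chevE7 tab E7.cert cl = true := by decide +kernel

end Cfsg.Lib.Chev.InvElim.DE7
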