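import Cfsg.Agent.Chev.InvElim.E7P0
import Cfsg.Agent.Chev.InvElim.E7P1
import Cfsg.Agent.Chev.InvElim.E7P2
import Cfsg.Agent.Chev.InvElim.E7P3
import Cfsg.Agent.Chev.InvElim.E7P4
import Cfsg.Agent.Chev.InvElim.E7P5

/-! The certified case tree of E7. -/

set_option autoImplicit false

open Cfsg.Lie

namespace Cfsg.Lib.Chev.InvElim.DE7

/-- The tree. -/
def tree : List ℕ := t0 ++ (t1 ++ (t2 ++ (t3 ++ (t4 ++ (t5 ++ (t6 ++ (t7 ++ (t8 ++ (t9 ++ (t10 ++ (t11 ++ (t12 ++ (t13 ++ (t14 ++ (t15 ++ (t16 ++ (t17 ++ (t18 ++ (t19 ++ (t20 ++ (t21 ++ (t22 ++ (t23 ++ (t24 ++ (t25 ++ (t26 ++ (t27 ++ (t28 ++ (t29 ++ (t30 ++ (t31 ++ (t32 ++ (t33 ++ (t34))))))))))))))))))))))))))))))))))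

theorem tree_ok : okTree chevE7 tab (fin chevE7 E7.cert cl.canon) tree = true :=
  okTree_of_run chevE7 tab _ (run_chain chevE7 tab _ run0 (run_chain chevE7 tab _ run1 (run_chain chevE7 tab _ run2 (run_chain chevE7 tab _ run3 (run_chain chevE7 tab _ run4 (run_chain chevE7 tab _ run5 (run_chain chevE7 tab _ run6 (run_chain chevE7 tab _ run7 (run_chain chevE7 tab _ run8 (run_chain chevE7 tab _ run9 (run_chain chevE7 tab _ run10 (run_chain chevE7 tab _ run11 (run_chain chevE7 tab _ run12 (run_chain chevE7 tab _ run13 (run_chain chevE7 tab _ run14 (run_chain chevE7 tab _ run15 (run_chain chevE7 tab _ run16 (run_chain chevE7 tab _ run17 (run_chain chevE7 tab _ run18 (run_chain chevE7 tab _ run19 (run_chain chevE7 tab _ run20 (run_chain chevE7 tab _ run21 (run_chain chevE7 tab _ run22 (run_chain chevE7 tab _ run23 (run_chain chevE7 tab _ run24 (run_chain chevE7 tab _ run25 (run_chain chevE7 tab _ run26 (run_chain chevE7 tab _ run27 (run_chain chevE7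 tab _ run28 (run_chain chevE7 tab _ run29 (run_chain chevE7 tab _ run30 (run_chain chevE7 tab _ run31 (run_chain chevE7 tab _ run32 (run_chain chevE7 tab _ run33 (run34)))))))))))))))))))))))))))))))))))

end Cfsg.Lib.Chev.InvElim.DE7
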