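import Cfsg.Agent.Chev.InvElim.E8RkW1
import Cfsg.Agent.Chev.InvElim.E8RkW2
import Cfsg.Agent.Chev.InvElim.E8RkW3
import Cfsg.Agent.Chev.InvElim.E8RkW4

/-! Rank certificates for E8. -/
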