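import Cfsg.Agent.Chev.InvElim.E8P0
import Cfsg.Agent.Chev.InvElim.E8P1
import Cfsg.Agent.Chev.InvElim.E8P2
import Cfsg.Agent.Chev.InvElim.E8P3
import Cfsg.Agent.Chev.InvElim.E8P4
import Cfsg.Agent.Chev.InvElim.E8P5
import Cfsg.Agent.Chev.InvElim.E8P6
import Cfsg.Agent.Chev.InvElim.E8P7

/-! The certified stages of E8. -/

set_option autoImplicit false
set_option maxRecDepth 100000

open Cfsg.Lie

namespace Cfsg.Lib.Chev.InvElim.DE8

/-- Codes of a state. -/
def tr0 : List ℕ := t0_0

theorem job0 : okJob chevE8 tab E8.cert (fin chevE8 E8.cert cl.canon) jobs lv 0 tr0 = true :=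
  okJob_intro chevE8 tab E8.cert _ (by decide +kernel) (by decide +kernel) (x := ([], 883423532389192164791648750371459257913741948437809479060803100646309888)) rfl (run0_0)

/-- Codes of a state. -/
def tr1 : List ℕ := t1_0

theorem job1 : okJob chevE8 tab E8.cert (fin chevE8 E8.cert cl.canon) jobs lv 1 tr1 = true :=
  okJob_intro chevE8 tab E8.cert _ (by decide +kernel) (by decide +kernel) (x := ([120], 883423532389192164791648750371459257913741948437809479060803100646309888)) rfl (run1_0)

/-- Codes of a state. -/
def tr2 : List ℕ := t2_0

theorem job2 : okJob chevE8 tab E8.cert (fin chevE8 E8.cert cl.canon) jobs lv 2 tr2 = true :=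
  okJob_intro chevE8 tab E8.cert _ (by decide +kernel) (by decide +kernel) (x := ([161, 120], 883423532389192164791648750371459257913741948437809479060803100646309888)) rfl (run2_0)

/-- Codes of a state. -/
def tr3 : List ℕ := t3_0

theorem job3 : okJob chevE8 tab E8.cert (fin chevE8 E8.cert cl.canon) jobs lv 3 tr3 = true :=
  okJob_intro chevE8 tab E8.cert _ (by decide +kernel) (by decide +kernel) (x := ([228, 161, 120], 883423532389192164791648750371459257913741948437809479060803100646309888)) rfl (run3_0)

/-- Codes of a state. -/
def tr4 : List ℕ := t4_0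

theorem job4 : okJob chevE8 tab E8.cert (fin chevE8 E8.cert cl.canon) jobs lv 4 tr4 = true :=
  okJob_intro chevE8 tab E8.cert _ (by decide +kernel) (by decide +kernel) (x := ([237, 228, 161, 120], 883423532389192164791648750371459257913741948437809479060803100646309888)) rfl (run4_0)

/-- Codes of a state. -/
def tr5 : List ℕ := t5_0

theorem job5 : okJob chevE8 tab E8.cert (fin chevE8 E8.cert cl.canon) jobs lv 5 tr5 = true :=
  okJob_intro chevE8 tab E8.cert _ (by decide +kernel) (by decide +kernel) (x := ([162], 883423532389192164791648750371459257913741948437809479060803100646309888)) rfl (run5_0)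

/-- Codes of a state. -/
def tr6 : List ℕ := t6_0

theorem job6 : okJob chevE8 tab E8.cert (fin chevE8 E8.cert cl.canon) jobs lv 6 tr6 = true :=
  okJob_intro chevE8 tab E8.cert _ (by decide +kernel) (by decide +kernel) (x := ([120, 162], 883423532389192164791648750371459257913741948437809479060803100646309888)) rfl (run6_0)

/-- Codes of a state. -/
def tr7 : List ℕ := t7_0

theorem job7 : okJob chevE8 tab E8.cert (fin chevE8 E8.cert cl.canon) jobs lv 7 tr7 = true :=
  okJob_intro chevE8 tab E8.cert _ (by decide +kernel) (by decide +kernel) (x := ([193, 120, 162], 883423532389192164791648750371459257913741948437809479060803100646309888)) rfl (run7_0)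

/-- Codes of a state. -/
def tr8 : List ℕ := t8_0

theorem job8 : okJob chevE8 tab E8.cert (fin chevE8 E8.cert cl.canon) jobs lv 8 tr8 = true :=
  okJob_intro chevE8 tab E8.cert _ (by decide +kernel) (by decide +kernel) (x := ([216, 193, 120, 162], 883423532389192164791648750371459257913741948437809479060803100646309888)) rfl (run8_0)

/-- Codes of a state. -/
def tr9 : List ℕ := t9_0

theorem job9 : okJob chevE8 tab E8.cert (fin chevE8 E8.cert cl.canon) jobs lv 9 tr9 = true :=
  okJob_intro chevE8 tab E8.cert _ (by decide +kernel) (by decide +kernel) (x := ([237, 216, 193, 120, 162], 883423532389192164791648750371459257913741948437809479060803100646309888)) rfl (run9_0)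

/-- Codes of a state. -/
def tr10 : List ℕ := t10_0

theorem job10 : okJob chevE8 tab E8.cert (fin chevE8 E8.cert cl.canon) jobs lv 10 tr10 = true :=
  okJob_intro chevE8 tab E8.cert _ (by decide +kernel) (by decide +kernel) (x := ([141, 162], 883423532389192164791648750371459257913741948437809479060803100646309888)) rfl (run10_0)

/-- Codes of a state. -/
def tr11 : List ℕ := t11_0

theorem job11 : okJob chevE8 tab E8.cert (fin chevE8 E8.cert cl.canon) jobs lv 11 tr11 = true :=
  okJob_intro chevE8 tab E8.cert _ (by decide +kernel) (by decide +kernel) (x := ([120, 141, 162], 883423532389192164791648750371459257913741948437809479060803100646309888)) rfl (run11_0)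

/-- Codes of a state. -/
def tr12 : List ℕ := t12_0

theorem job12 : okJob chevE8 tab E8.cert (fin chevE8 E8.cert cl.canon) jobs lv 12 tr12 = true :=
  okJob_intro chevE8 tab E8.cert _ (by decide +kernel) (by decide +kernel) (x := ([216, 120, 141, 162], 883423532389192164791648750371459257913741948437809479060803100646309888)) rfl (run12_0)

/-- Codes of a state. -/
def tr13 : List ℕ := t13_0

theorem job13 : okJob chevE8 tab E8.cert (fin chevE8 E8.cert cl.canon) jobs lv 13 tr13 = true :=
  okJob_intro chevE8 tab E8.cert _ (by decide +kernel) (by decide +kernel) (x := ([193, 120, 141, 162], 883423532389192164791648750371459257913741948437809479060803100646309888)) rfl (run13_0)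

/-- Codes of a state. -/
def tr14 : List ℕ := t14_0

theorem job14 : okJob chevE8 tab E8.cert (fin chevE8 E8.cert cl.canon) jobs lv 14 tr14 = true :=
  okJob_intro chevE8 tab E8.cert _ (by decide +kernel) (by decide +kernel) (x := ([216, 193, 120, 141, 162], 883423532389192164791648750371459257913741948437809479060803100646309888)) rfl (run14_0)

/-- Codes of a state. -/
def tr15 : List ℕ := t15_0

theorem job15 : okJob chevE8 tab E8.cert (fin chevE8 E8.cert cl.canon) jobs lv 15 tr15 = true :=
  okJob_intro chevE8 tab E8.cert _ (by decide +kernel) (by decide +kernel) (x := ([237, 216, 193, 120, 141, 162], 883423532389192164791648750371459257913741948437809479060803100646309888)) rfl (run15_0)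

/-- Codes of a state. -/
def tr16 : List ℕ := t16_0

theorem job16 : okJob chevE8 tab E8.cert (fin chevE8 E8.cert cl.canon) jobs lv 16 tr16 = true :=
  okJob_intro chevE8 tab E8.cert _ (by decide +kernel) (by decide +kernel) (x := ([214, 141, 162], 883423532389192164791648750371459257913741948437809479060803100646309888)) rfl (run16_0)

/-- Codes of a state. -/
def tr17 : List ℕ := t17_0

theorem job17 : okJob chevE8 tab E8.cert (fin chevE8 E8.cert cl.canon) jobs lv 17 tr17 = true :=
  okJob_intro chevE8 tab E8.cert _ (by decide +kernel) (by decide +kernel) (x := ([126, 141, 162], 883423532389192164791648750371459257913741948437809479060803100646309888)) rfl (run17_0)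

/-- Codes of a state. -/
def tr18 : List ℕ := t18_0

theorem job18 : okJob chevE8 tab E8.cert (fin chevE8 E8.cert cl.canon) jobs lv 18 tr18 = true :=
  okJob_intro chevE8 tab E8.cert _ (by decide +kernel) (by decide +kernel) (x := ([120, 126, 141, 162], 883423532389192164791648750371459257913741948437809479060803100646309888)) rfl (run18_0)

/-- Codes of a state. -/
def tr19 : List ℕ := t19_0

theorem job19 : okJob chevE8 tab E8.cert (fin chevE8 E8.cert cl.canon) jobs lv 19 tr19 = true :=
  okJob_intro chevE8 tab E8.cert _ (by decide +kernel) (by decide +kernel) (x := ([193, 120, 126, 141, 162], 883423532389192164791648750371459257913741948437809479060803100646309888)) rfl (run19_0)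

/-- Codes of a state. -/
def tr20 : List ℕ := t20_0

theorem job20 : okJob chevE8 tab E8.cert (fin chevE8 E8.cert cl.canon) jobs lv 20 tr20 = true :=
  okJob_intro chevE8 tab E8.cert _ (by decide +kernel) (by decide +kernel) (x := ([216, 193, 120, 126, 141, 162], 883423532389192164791648750371459257913741948437809479060803100646309888)) rfl (run20_0)

/-- Codes of a state. -/
def tr21 : List ℕ := t21_0

theorem job21 : okJob chevE8 tab E8.cert (fin chevE8 E8.cert cl.canon) jobs lv 21 tr21 = true :=
  okJob_intro chevE8 tab E8.cert _ (by decide +kernel) (by decide +kernel) (x := ([237, 216, 193, 120, 126, 141, 162], 883423532389192164791648750371459257913741948437809479060803100646309888)) rfl (run21_0)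

/-- Codes of a state. -/
def tr22 : List ℕ := t22_0

theorem job22 : okJob chevE8 tab E8.cert (fin chevE8 E8.cert cl.canon) jobs lv 22 tr22 = true :=
  okJob_intro chevE8 tab E8.cert _ (by decide +kernel) (by decide +kernel) (x := ([121, 126, 141, 162], 883423532389192164791648750371459257913741948437809479060803100646309888)) rfl (run22_0)

/-- Codes of a state. -/
def tr23 : List ℕ := t23_0

theorem job23 : okJob chevE8 tab E8.cert (fin chevE8 E8.cert cl.canon) jobs lv 23 tr23 = true :=
  okJob_intro chevE8 tab E8.cert _ (by decide +kernel) (by decide +kernel) (x := ([184, 126, 141, 162], 883423532389192164791648750371459257913741948437809479060803100646309888)) rfl (run23_0)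

/-- Codes of a state. -/
def tr24 : List ℕ := t24_0

theorem job24 : okJob chevE8 tab E8.cert (fin chevE8 E8.cert cl.canon) jobs lv 24 tr24 = true :=
  okJob_intro chevE8 tab E8.cert _ (by decide +kernel) (by decide +kernel) (x := ([120, 184, 126, 141, 162], 883423532389192164791648750371459257913741948437809479060803100646309888)) rfl (run24_0)

/-- Codes of a state. -/
def tr25 : List ℕ := t25_0

theorem job25 : okJob chevE8 tab E8.cert (fin chevE8 E8.cert cl.canon) jobs lv 25 tr25 = true :=
  okJob_intro chevE8 tab E8.cert _ (by decide +kernel) (by decide +kernel) (x := ([193, 120, 184, 126, 141, 162], 883423532389192164791648750371459257913741948437809479060803100646309888)) rfl (run25_0)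

/-- Codes of a state. -/
def tr26 : List ℕ := t26_0

theorem job26 : okJob chevE8 tab E8.cert (fin chevE8 E8.cert cl.canon) jobs lv 26 tr26 = true :=
  okJob_intro chevE8 tab E8.cert _ (by decide +kernel) (by decide +kernel) (x := ([216, 193, 120, 184, 126, 141, 162], 883423532389192164791648750371459257913741948437809479060803100646309888)) rfl (run26_0)

/-- Codes of a state. -/
def tr27 : List ℕ := t27_0

theorem job27 : okJob chevE8 tab E8.cert (fin chevE8 E8.cert cl.canon) jobs lv 27 tr27 = true :=
  okJob_intro chevE8 tab E8.cert _ (by decide +kernel) (by decide +kernel) (x := ([237, 216, 193, 120, 184, 126, 141, 162], 883423532389192164791648750371459257913741948437809479060803100646309888)) rfl (run27_0)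

/-- Codes of a state. -/
def tr28 : List ℕ := t28_0

theorem job28 : okJob chevE8 tab E8.cert (fin chevE8 E8.cert cl.canon) jobs lv 28 tr28 = true :=
  okJob_intro chevE8 tab E8.cert _ (by decide +kernel) (by decide +kernel) (x := ([121, 184, 126, 141, 162], 883423532389192164791648750371459257913741948437809479060803100646309888)) rfl (run28_0)

/-- Codes of a state. -/
def tr29 : List ℕ := t29_0

theorem job29 : okJob chevE8 tab E8.cert (fin chevE8 E8.cert cl.canon) jobs lv 29 tr29 = true :=
  okJob_intro chevE8 tab E8.cert _ (by decide +kernel) (by decide +kernel) (x := ([191, 121, 184, 126, 141, 162], 883423532389192164791648750371459257913741948437809479060803100646309888)) rfl (run29_0)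

/-- Codes of a state. -/
def tr30 : List ℕ := t30_0

theorem job30 : okJob chevE8 tab E8.cert (fin chevE8 E8.cert cl.canon) jobs lv 30 tr30 = true :=
  okJob_intro chevE8 tab E8.cert _ (by decide +kernel) (by decide +kernel) (x := ([214, 191, 121, 184, 126, 141, 162], 883423532389192164791648750371459257913741948437809479060803100646309888)) rfl (run30_0)

/-- Codes of a state. -/
def tr31 : List ℕ := t31_0 ++ (t31_1 ++ (t31_2 ++ (t31_3 ++ (t31_4 ++ (t31_5 ++ (t31_6 ++ (t31_7 ++ (t31_8 ++ (t31_9 ++ (t31_10 ++ (t31_11 ++ (t31_12 ++ (t31_13 ++ (t31_14 ++ (t31_15 ++ (t31_16 ++ (t31_17 ++ (t31_18 ++ (t31_19 ++ (t31_20 ++ (t31_21 ++ (t31_22))))))))))))))))))))))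

theorem job31 : okJob chevE8 tab E8.cert (fin chevE8 E8.cert cl.canon) jobs lv 31 tr31 = true :=
  okJob_intro chevE8 tab E8.cert _ (by decide +kernel) (by decide +kernel) (x := ([], 1766738354235096186255407468996862688843810225216670087357086128815472640)) rfl (run2_chain chevE8 tab E8.cert (fin chevE8 E8.cert cl.canon) run31_0 (run2_chain chevE8 tab E8.cert (fin chevE8 E8.cert cl.canon) run31_1 (run2_chain chevE8 tab E8.cert (fin chevE8 E8.cert cl.canon) run31_2 (run2_chain chevE8 tab E8.cert (fin chevE8 E8.cert cl.canon) run31_3 (run2_chain chevE8 tab E8.cert (fin chevE8 E8.cert cl.canon) run31_4 (run2_chain chevE8 tab E8.cert (fin chevE8 E8.cert cl.canon) run31_5 (run2_chain chevE8 tab E8.cert (fin chevE8 E8.cert cl.canon) run31_6 (run2_chain chevE8 tab E8.cert (fin chevE8 E8.cert cl.canon) run31_7 (run2_chain chevE8 tab E8.cert (fin chevE8 E8.cert cl.canon) run31_8 (run2_chain chevE8 tab E8.cert (fin chevE8 E8.cert cl.canon) run31_9 (run2_chain chevE8 tab E8.cert (fin chevE8 E8.cert cl.canon) run31_10 (run2_chain chevE8 tab E8.cert (fin chevE8 E8.cert cl.canon) run31_11 (run2_chain chevE8 tab E8.cert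 (fin chevE8 E8.cert cl.canon) run31_12 (run2_chain chevE8 tab E8.cert (fin chevE8 E8.cert cl.canon) run31_13 (run2_chain chevE8 tab E8.cert (fin chevE8 E8.cert cl.canon) run31_14 (run2_chain chevE8 tab E8.cert (fin chevE8 E8.cert cl.canon) run31_15 (run2_chain chevE8 tab E8.cert (fin chevE8 E8.cert cl.canon) run31_16 (run2_chain chevE8 tab E8.cert (fin chevE8 E8.cert cl.canon) run31_17 (run2_chain chevE8 tab E8.cert (fin chevE8 E8.cert cl.canon) run31_18 (run2_chain chevE8 tab E8.cert (fin chevE8 E8.cert cl.canon) run31_19 (run2_chain chevE8 tab E8.cert (fin chevE8 E8.cert cl.canon) run31_20 (run2_chain chevE8 tab E8.cert (fin chevE8 E8.cert cl.canon) run31_21 (run31_22)))))))))))))))))))))))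

/-- Codes of a state. -/
def tr32 : List ℕ := t32_0 ++ (t32_1 ++ (t32_2 ++ (t32_3)))

theorem job32 : okJob chevE8 tab E8.cert (fin chevE8 E8.cert cl.canon) jobs lv 32 tr32 = true :=
  okJob_intro chevE8 tab E8.cert _ (by decide +kernel) (by decide +kernel) (x := ([162], 1766738354235096186255407468996862688843810225216670087357086128815472640)) rfl (run2_chain chevE8 tab E8.cert (fin chevE8 E8.cert cl.canon) run32_0 (run2_chain chevE8 tab E8.cert (fin chevE8 E8.cert cl.canon) run32_1 (run2_chain chevE8 tab E8.cert (fin chevE8 E8.cert cl.canon) run32_2 (run32_3))))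

/-- Codes of a state. -/
def tr33 : List ℕ := t33_0

theorem job33 : okJob chevE8 tab E8.cert (fin chevE8 E8.cert cl.canon) jobs lv 33 tr33 = true :=
  okJob_intro chevE8 tab E8.cert _ (by decide +kernel) (by decide +kernel) (x := ([141, 162], 1766738354235096186255407468996862688843810225216670087357086128815472640)) rfl (run33_0)

/-- Codes of a state. -/
def tr34 : List ℕ := t34_0

theorem job34 : okJob chevE8 tab E8.cert (fin chevE8 E8.cert cl.canon) jobs lv 34 tr34 = true :=
  okJob_intro chevE8 tab E8.cert _ (by decide +kernel) (by decide +kernel) (x := ([214, 141, 162], 1766738354235096186255407468996862688843810225216670087357086128815472640)) rfl (run34_0)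

/-- Codes of a state. -/
def tr35 : List ℕ := t35_0

theorem job35 : okJob chevE8 tab E8.cert (fin chevE8 E8.cert cl.canon) jobs lv 35 tr35 = true :=
  okJob_intro chevE8 tab E8.cert _ (by decide +kernel) (by decide +kernel) (x := ([126, 141, 162], 1766738354235096186255407468996862688843810225216670087357086128815472640)) rfl (run35_0)

/-- Codes of a state. -/
def tr36 : List ℕ := t36_0

theorem job36 : okJob chevE8 tab E8.cert (fin chevE8 E8.cert cl.canon) jobs lv 36 tr36 = true :=
  okJob_intro chevE8 tab E8.cert _ (by decide +kernel) (by decide +kernel) (x := ([121, 126, 141, 162], 1766738354235096186255407468996862688843810225216670087357086128815472640)) rfl (run36_0)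

/-- Codes of a state. -/
def tr37 : List ℕ := t37_0

theorem job37 : okJob chevE8 tab E8.cert (fin chevE8 E8.cert cl.canon) jobs lv 37 tr37 = true :=
  okJob_intro chevE8 tab E8.cert _ (by decide +kernel) (by decide +kernel) (x := ([184, 126, 141, 162], 1766738354235096186255407468996862688843810225216670087357086128815472640)) rfl (run37_0)

/-- Codes of a state. -/
def tr38 : List ℕ := t38_0

theorem job38 : okJob chevE8 tab E8.cert (fin chevE8 E8.cert cl.canon) jobs lv 38 tr38 = true :=
  okJob_intro chevE8 tab E8.cert _ (by decide +kernel) (by decide +kernel) (x := ([121, 184, 126, 141, 162], 1766738354235096186255407468996862688843810225216670087357086128815472640)) rfl (run38_0)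

/-- Codes of a state. -/
def tr39 : List ℕ := t39_0

theorem job39 : okJob chevE8 tab E8.cert (fin chevE8 E8.cert cl.canon) jobs lv 39 tr39 = true :=
  okJob_intro chevE8 tab E8.cert _ (by decide +kernel) (by decide +kernel) (x := ([191, 121, 184, 126, 141, 162], 1766738354235096186255407468996862688843810225216670087357086128815472640)) rfl (run39_0)

/-- Codes of a state. -/
def tr40 : List ℕ := t40_0

theorem job40 : okJob chevE8 tab E8.cert (fin chevE8 E8.cert cl.canon) jobs lv 40 tr40 = true :=
  okJob_intro chevE8 tab E8.cert _ (by decide +kernel) (by decide +kernel) (x := ([214, 191, 121, 184, 126, 141, 162], 1766738354235096186255407468996862688843810225216670087357086128815472640)) rfl (run40_0)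

/-- Codes of a state. -/
def tr41 : List ℕ := t41_0 ++ (t41_1)

theorem job41 : okJob chevE8 tab E8.cert (fin chevE8 E8.cert cl.canon) jobs lv 41 tr41 = true :=
  okJob_intro chevE8 tab E8.cert _ (by decide +kernel) (by decide +kernel) (x := ([], 1766847064752647746129188714853051684165502758189616983787262653134536704)) rfl (run2_chain chevE8 tab E8.cert (fin chevE8 E8.cert cl.canon) run41_0 (run41_1))

/-- Codes of a state. -/
def tr42 : List ℕ := t42_0

theorem job42 : okJob chevE8 tab E8.cert (fin chevE8 E8.cert cl.canon) jobs lv 42 tr42 = true :=
  okJob_intro chevE8 tab E8.cert _ (by decide +kernel) (by decide +kernel) (x := ([162], 1766847064752647746129188714853051684165502758189616983787262653134536704)) rfl (run42_0)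

/-- Codes of a state. -/
def tr43 : List ℕ := t43_0

theorem job43 : okJob chevE8 tab E8.cert (fin chevE8 E8.cert cl.canon) jobs lv 43 tr43 = true :=
  okJob_intro chevE8 tab E8.cert _ (by decide +kernel) (by decide +kernel) (x := ([141, 162], 1766847064752647746129188714853051684165502758189616983787262653134536704)) rfl (run43_0)

/-- Codes of a state. -/
def tr44 : List ℕ := t44_0

theorem job44 : okJob chevE8 tab E8.cert (fin chevE8 E8.cert cl.canon) jobs lv 44 tr44 = true :=
  okJob_intro chevE8 tab E8.cert _ (by decide +kernel) (by decide +kernel) (x := ([126, 141, 162], 1766847064752647746129188714853051684165502758189616983787262653134536704)) rfl (run44_0)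

/-- Codes of a state. -/
def tr45 : List ℕ := t45_0

theorem job45 : okJob chevE8 tab E8.cert (fin chevE8 E8.cert cl.canon) jobs lv 45 tr45 = true :=
  okJob_intro chevE8 tab E8.cert _ (by decide +kernel) (by decide +kernel) (x := ([184, 126, 141, 162], 1766847064752647746129188714853051684165502758189616983787262653134536704)) rfl (run45_0)

/-- Codes of a state. -/
def tr46 : List ℕ := t46_0

theorem job46 : okJob chevE8 tab E8.cert (fin chevE8 E8.cert cl.canon) jobs lv 46 tr46 = true :=
  okJob_intro chevE8 tab E8.cert _ (by decide +kernel) (by decide +kernel) (x := ([], 1766847064778384305037091041185456277198356496155231898807251077481627648)) rfl (run46_0)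

/-- Codes of a state. -/
def tr47 : List ℕ := t47_0

theorem job47 : okJob chevE8 tab E8.cert (fin chevE8 E8.cert cl.canon) jobs lv 47 tr47 = true :=
  okJob_intro chevE8 tab E8.cert _ (by decide +kernel) (by decide +kernel) (x := ([162], 1766847064778384305037091041185456277198356496155231898807251077481627648)) rfl (run47_0)

/-- Codes of a state. -/
def tr48 : List ℕ := t48_0

theorem job48 : okJob chevE8 tab E8.cert (fin chevE8 E8.cert cl.canon) jobs lv 48 tr48 = true :=
  okJob_intro chevE8 tab E8.cert _ (by decide +kernel) (by decide +kernel) (x := ([184, 162], 1766847064778384305037091041185456277198356496155231898807251077481627648)) rfl (run48_0)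

/-- Codes of a state. -/
def tr49 : List ℕ := t49_0

theorem job49 : okJob chevE8 tab E8.cert (fin chevE8 E8.cert cl.canon) jobs lv 49 tr49 = true :=
  okJob_intro chevE8 tab E8.cert _ (by decide +kernel) (by decide +kernel) (x := ([141, 162], 1766847064778384305037091041185456277198356496155231898807251077481627648)) rfl (run49_0)

/-- Codes of a state. -/
def tr50 : List ℕ := t50_0

theorem job50 : okJob chevE8 tab E8.cert (fin chevE8 E8.cert cl.canon) jobs lv 50 tr50 = true :=
  okJob_intro chevE8 tab E8.cert _ (by decide +kernel) (by decide +kernel) (x := ([126, 141, 162], 1766847064778384305037091041185456277198356496155231898807251077481627648)) rfl (run50_0)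

/-- Codes of a state. -/
def tr51 : List ℕ := t51_0

theorem job51 : okJob chevE8 tab E8.cert (fin chevE8 E8.cert cl.canon) jobs lv 51 tr51 = true :=
  okJob_intro chevE8 tab E8.cert _ (by decide +kernel) (by decide +kernel) (x := ([184, 126, 141, 162], 1766847064778384305037091041185456277198356496155231898807251077481627648)) rfl (run51_0)

/-- Codes of a state. -/
def tr52 : List ℕ := t52_0

theorem job52 : okJob chevE8 tab E8.cert (fin chevE8 E8.cert cl.canon) jobs lv 52 tr52 = true :=
  okJob_intro chevE8 tab E8.cert _ (by decide +kernel) (by decide +kernel) (x := ([], 1766847064778384329582508289671859056326366618346850862506071383760437248)) rfl (run52_0)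

/-- Codes of a state. -/
def tr53 : List ℕ := t53_0

theorem job53 : okJob chevE8 tab E8.cert (fin chevE8 E8.cert cl.canon) jobs lv 53 tr53 = true :=
  okJob_intro chevE8 tab E8.cert _ (by decide +kernel) (by decide +kernel) (x := ([162], 1766847064778384329582508289671859056326366618346850862506071383760437248)) rfl (run53_0)

/-- Codes of a state. -/
def tr54 : List ℕ := t54_0

theorem job54 : okJob chevE8 tab E8.cert (fin chevE8 E8.cert cl.canon) jobs lv 54 tr54 = true :=
  okJob_intro chevE8 tab E8.cert _ (by decide +kernel) (by decide +kernel) (x := ([141, 162], 1766847064778384329582508289671859056326366618346850862506071383760437248)) rfl (run54_0)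

/-- Codes of a state. -/
def tr55 : List ℕ := t55_0

theorem job55 : okJob chevE8 tab E8.cert (fin chevE8 E8.cert cl.canon) jobs lv 55 tr55 = true :=
  okJob_intro chevE8 tab E8.cert _ (by decide +kernel) (by decide +kernel) (x := ([], 1766847064778384329583279962720439394370455248856695213087730958302445568)) rfl (run55_0)

/-- Codes of a state. -/
def tr56 : List ℕ := t56_0

theorem job56 : okJob chevE8 tab E8.cert (fin chevE8 E8.cert cl.canon) jobs lv 56 tr56 = true :=
  okJob_intro chevE8 tab E8.cert _ (by decide +kernel) (by decide +kernel) (x := ([141], 1766847064778384329583279962720439394370455248856695213087730958302445568)) rfl (run56_0)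

/-- Codes of a state. -/
def tr57 : List ℕ := t57_0

theorem job57 : okJob chevE8 tab E8.cert (fin chevE8 E8.cert cl.canon) jobs lv 57 tr57 = true :=
  okJob_intro chevE8 tab E8.cert _ (by decide +kernel) (by decide +kernel) (x := ([162], 1766847064778384329583279962720439394370455248856695213087730958302445568)) rfl (run57_0)

/-- Codes of a state. -/
def tr58 : List ℕ := t58_0

theorem job58 : okJob chevE8 tab E8.cert (fin chevE8 E8.cert cl.canon) jobs lv 58 tr58 = true :=
  okJob_intro chevE8 tab E8.cert _ (by decide +kernel) (by decide +kernel) (x := ([141, 162], 1766847064778384329583279962720439394370455248856695213087730958302445568)) rfl (run58_0)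

/-- Codes of a state. -/
def tr59 : List ℕ := t59_0

theorem job59 : okJob chevE8 tab E8.cert (fin chevE8 E8.cert cl.canon) jobs lv 59 tr59 = true :=
  okJob_intro chevE8 tab E8.cert _ (by decide +kernel) (by decide +kernel) (x := ([], 1766847064778384329583291654733581597736766758458680255301639472093855744)) rfl (run59_0)

/-- Codes of a state. -/
def tr60 : List ℕ := t60_0

theorem job60 : okJob chevE8 tab E8.cert (fin chevE8 E8.cert cl.canon) jobs lv 60 tr60 = true :=
  okJob_intro chevE8 tab E8.cert _ (by decide +kernel) (by decide +kernel) (x := ([141], 1766847064778384329583291654733581597736766758458680255301639472093855744)) rfl (run60_0)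

/-- Codes of a state. -/
def tr61 : List ℕ := t61_0

theorem job61 : okJob chevE8 tab E8.cert (fin chevE8 E8.cert cl.canon) jobs lv 61 tr61 = true :=
  okJob_intro chevE8 tab E8.cert _ (by decide +kernel) (by decide +kernel) (x := ([162], 1766847064778384329583291654733581597736766758458680255301639472093855744)) rfl (run61_0)

/-- Codes of a state. -/
def tr62 : List ℕ := t62_0

theorem job62 : okJob chevE8 tab E8.cert (fin chevE8 E8.cert cl.canon) jobs lv 62 tr62 = true :=
  okJob_intro chevE8 tab E8.cert _ (by decide +kernel) (by decide +kernel) (x := ([141, 162], 1766847064778384329583291654733581597736766758458680255301639472093855744)) rfl (run62_0)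

/-- Codes of a state. -/
def tr63 : List ℕ := t63_0

theorem job63 : okJob chevE8 tab E8.cert (fin chevE8 E8.cert cl.canon) jobs lv 63 tr63 = true :=
  okJob_intro chevE8 tab E8.cert _ (by decide +kernel) (by decide +kernel) (x := ([], 1766847064778384329583291654736369190886583086351372220085720517282103296)) rfl (run63_0)

/-- Codes of a state. -/
def tr64 : List ℕ := t64_0

theorem job64 : okJob chevE8 tab E8.cert (fin chevE8 E8.cert cl.canon) jobs lv 64 tr64 = true :=
  okJob_intro chevE8 tab E8.cert _ (by decide +kernel) (by decide +kernel) (x := ([162], 1766847064778384329583291654736369190886583086351372220085720517282103296)) rfl (run64_0)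

/-- Codes of a state. -/
def tr65 : List ℕ := t65_0

theorem job65 : okJob chevE8 tab E8.cert (fin chevE8 E8.cert cl.canon) jobs lv 65 tr65 = true :=
  okJob_intro chevE8 tab E8.cert _ (by decide +kernel) (by decide +kernel) (x := ([], 1766847064778384329583297500742918514498255901090703085217799141012275200)) rfl (run65_0)

/-- The codes. -/
def trees : List (List ℕ) := [tr0, tr1, tr2, tr3, tr4, tr5, tr6, tr7, tr8, tr9, tr10, tr11, tr12, tr13, tr14, tr15, tr16, tr17, tr18, tr19, tr20, tr21, tr22, tr23, tr24, tr25, tr26, tr27, tr28, tr29, tr30, tr31, tr32, tr33, tr34, tr35, tr36, tr37, tr38, tr39, tr40, tr41, tr42, tr43, tr44, tr45, tr46, tr47, tr48, tr49, tr50, tr51, tr52, tr53, tr54, tr55, tr56, tr57, tr58, tr59, tr60, tr61, tr62, tr63, tr64, tr65]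

theorem jobs_ok : ∀ i < 65 + 1, okJob chevE8 tab E8.cert (fin chevE8 E8.cert cl.canon) jobs lv i (trees.getD i []) = true := by
  intro i hi
  interval_cases i
  · exact job0
  · exact job1
  · exact job2
  · exact job3
  · exact job4
  · exact job5
  · exact job6
  · exact job7
  · exact job8
  · exact job9
  · exact job10
  · exact job11
  · exact job12
  · exact job13
  · exact job14
  · exact job15
  · exact job16
  · exact job17
  · exact job18
  · exact job19
  · exact job20
  · exact job21
  · exact job22
  · exact job23
  · exact job24
  · exact job25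
  · exact job26
  · exact job27
  · exact job28
  · exact job29
  · exact job30
  · exact job31
  · exact job32
  · exact job33
  · exact job34
  · exact job35
  · exact job36
  · exact job37
  · exact job38
  · exact job39
  · exact job40
  · exact job41
  · exact job42
  · exact job43
  · exact job44
  · exact job45
  · exact job46
  · exact job47
  · exact job48
  · exact job49
  · exact job50
  · exact job51
  · exact job52
  · exact job53
  · exact job54
  · exact job55
  · exact job56
  · exact job57
  · exact job58
  · exact job59
  · exact job60
  · exact job61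
  · exact job62
  · exact job63
  · exact job64
  · exact job65

theorem top_eq : jobs.getD 65 ([], 0) = ([], R0 chevE8) := by decide +kernel

end Cfsg.Lib.Chev.InvElim.DE8
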