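import Cfsg.Agent.Chev.InvElim.Core

/-! Commutator tables for F4 in characteristic two. -/

set_option autoImplicit false
set_option maxRecDepth 100000

open Cfsg.Lie

namespace Cfsg.Lib.Chev.InvElim.DF4

/-- The table. -/
def tab : Tab where
  nb := [
  [(25, 26, 1, 1), (28, 29, 1, 1), (28, 32, 1, 2), (30, 31, 1, 1), (35, 36, 1, 1), (35, 43, 1, 2), (37, 38, 1, 1), (37, 45, 1, 2), (41, 42, 1, 1), (46, 47, 1, 1)],
  [(24, 26, 1, 1), (27, 28, 1, 1), (27, 30, 1, 2), (31, 32, 1, 1), (34, 35, 1, 1), (34, 41, 1, 2), (38, 39, 1, 1), (38, 47, 1, 2), (42, 43, 1, 1), (45, 46, 1, 1)],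
  [(27, 29, 1, 1), (27, 31, 1, 2), (30, 32, 1, 1), (34, 36, 1, 1), (34, 42, 1, 2), (37, 39, 1, 1), (37, 46, 1, 2), (41, 43, 1, 1), (45, 47, 1, 1)],
  [(25, 28, 1, 1), (25, 30, 2, 1), (26, 29, 1, 1), (26, 31, 2, 1), (33, 34, 1, 1), (35, 37, 1, 1), (36, 38, 1, 1), (39, 40, 1, 1), (43, 44, 1, 1), (43, 45, 2, 1)],
  [(24, 29, 1, 1), (24, 32, 2, 1), (33, 35, 1, 1), (34, 37, 1, 1), (36, 39, 1, 1), (38, 40, 1, 1), (42, 44, 1, 1), (42, 46, 2, 1)],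
  [(33, 36, 1, 1), (34, 38, 1, 1), (35, 39, 1, 1), (37, 40, 1, 1), (41, 44, 1, 1), (41, 47, 2, 1)],
  [(24, 31, 1, 1), (26, 32, 1, 1), (33, 37, 1, 1), (33, 41, 1, 2), (36, 40, 1, 1), (36, 47, 1, 2), (42, 45, 1, 1), (43, 46, 1, 1)],
  [(25, 32, 1, 1), (33, 38, 1, 1), (33, 42, 1, 2), (35, 40, 1, 1), (35, 46, 1, 2), (41, 45, 1, 1), (43, 47, 1, 1)],
  [(33, 39, 1, 1), (33, 43, 1, 2), (34, 40, 1, 1), (34, 45, 1, 2), (41, 46, 1, 1), (42, 47, 1, 1)],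
  [(27, 34, 1, 1), (28, 35, 1, 1), (29, 36, 1, 1), (30, 37, 1, 1), (30, 41, 2, 1), (31, 38, 1, 1), (31, 42, 2, 1), (32, 39, 1, 1), (32, 43, 2, 1), (40, 44, 1, 1)],
  [(25, 35, 1, 1), (25, 41, 2, 1), (26, 36, 1, 1), (26, 42, 2, 1), (28, 37, 1, 1), (29, 38, 1, 1), (32, 40, 1, 1), (32, 45, 2, 1), (39, 44, 1, 1)],
  [(24, 36, 1, 1), (24, 43, 2, 1), (27, 37, 1, 1), (29, 39, 1, 1), (31, 40, 1, 1), (31, 46, 2, 1), (38, 44, 1, 1)],
  [(27, 38, 1, 1), (28, 39, 1, 1), (30, 40, 1, 1), (30, 47, 2, 1), (37, 44, 1, 1)],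
  [(24, 38, 1, 1), (24, 45, 2, 1), (26, 39, 1, 1), (26, 46, 2, 1), (29, 40, 1, 1), (36, 44, 1, 1)],
  [(25, 39, 1, 1), (25, 47, 2, 1), (28, 40, 1, 1), (35, 44, 1, 1)],
  [(27, 40, 1, 1), (34, 44, 1, 1)],
  [(33, 44, 1, 1)],
  [(24, 42, 1, 1), (26, 43, 1, 1), (29, 44, 1, 1), (29, 47, 1, 2), (31, 45, 1, 1), (32, 46, 1, 1)],
  [(25, 43, 1, 1), (28, 44, 1, 1), (28, 46, 1, 2), (30, 45, 1, 1), (32, 47, 1, 1)],
  [(27, 44, 1, 1), (27, 45, 1, 2), (30, 46, 1, 1), (31, 47, 1, 1)],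
  [],
  [(25, 46, 1, 1), (26, 47, 1, 1)],
  [(24, 47, 1, 1)],
  []]
  pr := [
  [],
  [],
  [(24, 25), (25, 24)],
  [],
  [(25, 27), (27, 25)],
  [(24, 28), (26, 27), (27, 26), (28, 24)],
  [(25, 27), (27, 25)],
  [(24, 30), (26, 27), (27, 26), (30, 24)],
  [(24, 28), (25, 31), (26, 30), (28, 24), (30, 26), (31, 25)],
  [],
  [(27, 33), (33, 27)],
  [(25, 34), (28, 33), (33, 28), (34, 25)],
  [(24, 35), (26, 34), (29, 33), (33, 29), (34, 26), (35, 24)],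
  [(27, 35), (28, 34), (30, 33), (33, 30), (34, 28), (35, 27)],
  [(24, 37), (27, 36), (29, 34), (31, 33), (33, 31), (34, 29), (36, 27), (37, 24)],
  [(25, 38), (26, 37), (28, 36), (29, 35), (32, 33), (33, 32), (35, 29), (36, 28), (37, 26), (38, 25)],
  [(27, 39), (28, 38), (29, 37), (30, 36), (31, 35), (32, 34), (34, 32), (35, 31), (36, 30), (37, 29), (38, 28), (39, 27)],
  [(25, 34), (30, 33), (33, 30), (34, 25)],
  [(24, 41), (26, 34), (31, 33), (33, 31), (34, 26), (41, 24)],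
  [(24, 35), (25, 42), (26, 41), (32, 33), (33, 32), (35, 24), (41, 26), (42, 25)],
  [(27, 43), (28, 42), (29, 41), (33, 40), (34, 39), (35, 38), (36, 37), (37, 36), (38, 35), (39, 34), (40, 33), (41, 29), (42, 28), (43, 27)],
  [(24, 37), (27, 43), (30, 42), (31, 41), (32, 34), (34, 32), (37, 24), (41, 31), (42, 30), (43, 27)],
  [(25, 45), (26, 37), (28, 42), (30, 43), (31, 35), (32, 41), (35, 31), (37, 26), (41, 32), (42, 28), (43, 30), (45, 25)],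
  [(24, 46), (25, 38), (26, 45), (29, 41), (30, 36), (31, 43), (32, 42), (36, 30), (38, 25), (41, 29), (42, 32), (43, 31), (45, 26), (46, 24)]]

theorem tab_ok : okTab chevF4 tab = true := by decide +kernel

end Cfsg.Lib.Chev.InvElim.DF4
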