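import Cfsg.Agent.Chev.InvElim.Rank

/-! The classes of involutions from a certified case tree and conjugation invariants. -/

set_option autoImplicit false
set_option linter.unusedSectionVars false

open Cfsg.Lie

namespace Cfsg.Lib.Chev.InvElim

variable {D : ChevalleyDatum} {T : Tab} {C : Cert} {K : Type*} [Field K] [Fintype K] [CharP K 2] (S₀ : Struct D C)

theorem rkJ_one (J : ℕ) : rkJ D J (1 : GL D.Idx K) = 0 := by
  simp [rkJ, Matrix.rank_zero]

theorem wK_mem (S : List ℕ) : wK (K := K) S₀ S ∈ D.group K := by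
  refine list_prod_mem fun g hg => ?_
  obtain ⟨a, -, rfl⟩ := List.mem_map.1 hg
  exact S₀.ok.xG_mem_group a 1

theorem wK_sq (hT : okTab D T = true) {S : List ℕ} (h : okSet D T S = true) :
    wK (K := K) S₀ S * wK S₀ S = 1 := by
  obtain ⟨-, hpos, hcomm⟩ := okSet_spec S₀ h
  have e : wK (K := K) S₀ S.reverse = wK S₀ S := by
    refine ((List.reverse_perm S).map fun r => S₀.ok.xG r (1 : K)).prod_eq' ?_
    refine List.pairwise_of_forall_mem_list fun x hx y hy => ?_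
    obtain ⟨a, ha, rfl⟩ := List.mem_map.1 hx
    obtain ⟨b, hb, rfl⟩ := List.mem_map.1 hy
    exact set_commute S₀ hT hpos hcomm (List.mem_reverse.1 ha) (List.mem_reverse.1 hb) 1 1
  have := wK_reverse (K := K) S₀ S
  rwa [e] at this

theorem invol (hT : okTab D T = true) {S : List ℕ} (h : okSet D T S = true) {f : GL D.Idx K → ℕ} (h1 : f 1 = 0)
    (hp : 0 < f (wK S₀ S)) : wK (K := K) S₀ S ∈ D.group K ∧ orderOf (wK (K := K) S₀ S) = 2 := by
  haveI : Fact (Nat.Prime 2) := ⟨Nat.prime_two⟩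
  refine ⟨wK_mem S₀ S, orderOf_eq_prime (by rw [sq, wK_sq S₀ hT h]) fun e => ?_⟩
  rw [e, h1] at hp
  omega

/-- The listed products represent the classes of involutions. -/
theorem classes (hT : okTab D T = true) (hN : okNeg D = true) {X : Cl D} (hX : okCl D T C X = true) {L : List ℕ}
    (hL : okTree D T (fin D C X.canon) L = true) (reps : List (List ℕ)) (hset : ∀ S ∈ reps, okSet D T S = true)
    (hcov : ∀ j < X.canon.length, j ≠ 0 → X.red.getD j none = none → X.canon.getD j [] ∈ reps)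
    (f : GL D.Idx K → ℕ) (hf : ∀ u w, Cj S₀ u w → f u = f w) (h1 : f 1 = 0)
    (hp : ∀ S ∈ reps, 0 < f (wK S₀ S))
    (hd : ∀ S ∈ reps, ∀ S' ∈ reps, f (wK S₀ S) = f (wK S₀ S') → S = S') :
    (∀ y : GL D.Idx K, (y : Matrix D.Idx D.Idx K) ∈ reps.map (fun S => (wK (K := K) S₀ S).1) →
      y ∈ D.group K ∧ orderOf y = 2) ∧
    (∀ g ∈ D.group K, orderOf g = 2 → ∃ y ∈ D.group K,
      (y : Matrix D.Idx D.Idx K) ∈ reps.map (fun S => (wK (K := K) S₀ S).1) ∧ ∃ h ∈ D.group K, h * g * h⁻¹ = y) ∧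
    (∀ y₁ ∈ D.group K, ∀ y₂ ∈ D.group K,
      ((y₁ : GL D.Idx K) : Matrix D.Idx D.Idx K) ∈ reps.map (fun S => (wK (K := K) S₀ S).1) →
      ((y₂ : GL D.Idx K) : Matrix D.Idx D.Idx K) ∈ reps.map (fun S => (wK (K := K) S₀ S).1) →
      (∃ h ∈ D.group K, h * y₁ * h⁻¹ = y₂) → (y₁ : Matrix D.Idx D.Idx K) = y₂) := by
  refine ⟨fun y hy => ?_, fun g hg h2 => ?_, fun y₁ _ y₂ _ h₁ h₂ hc => ?_⟩
  · obtain ⟨S, hS, e⟩ := List.mem_map.1 hy
    obtain rfl : wK S₀ S = y := Units.ext e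
    exact invol S₀ hT (hset S hS) h1 (hp S hS)
  · obtain ⟨j, hj, hj0, hjn, hc⟩ := classify S₀ hT hN hX hL hg h2
    exact ⟨_, wK_mem S₀ _, List.mem_map_of_mem (hcov j hj hj0 hjn), hc⟩
  · obtain ⟨S, hS, e⟩ := List.mem_map.1 h₁
    obtain rfl : wK S₀ S = y₁ := Units.ext e
    obtain ⟨S', hS', e'⟩ := List.mem_map.1 h₂
    obtain rfl : wK S₀ S' = y₂ := Units.ext e'
    rw [hd S hS S' hS' (hf _ _ hc)]

/-- The number of classes of involutions. -/
theorem class_count (hT : okTab D T = true) (hN : okNeg D = true) {X : Cl D} (hX : okCl D T C X = true) {L : List ℕ}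
    (hL : okTree D T (fin D C X.canon) L = true) (reps : List (List ℕ)) (hnd : reps.Nodup)
    (hset : ∀ S ∈ reps, okSet D T S = true)
    (hcov : ∀ j < X.canon.length, j ≠ 0 → X.red.getD j none = none → X.canon.getD j [] ∈ reps)
    (f : GL D.Idx K → ℕ) (hf : ∀ u w, Cj S₀ u w → f u = f w) (h1 : f 1 = 0)
    (hp : ∀ S ∈ reps, 0 < f (wK S₀ S))
    (hd : ∀ S ∈ reps, ∀ S' ∈ reps, f (wK S₀ S) = f (wK S₀ S') → S = S') :
    (ConjClasses.mk '' {g : ↥(D.group K) | orderOf g = 2}).ncard = reps.length := by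
  classical
  let cls : List ℕ → ConjClasses ↥(D.group K) := fun S => ConjClasses.mk ⟨wK S₀ S, wK_mem S₀ S⟩
  have hset' : ConjClasses.mk '' {g : ↥(D.group K) | orderOf g = 2} =
      cls '' {S | S ∈ reps} := by
    ext c
    simp only [Set.mem_image, Set.mem_setOf_eq]
    constructor
    · rintro ⟨g, hg, rfl⟩
      obtain ⟨j, hj, hj0, hjn, a, ha, e⟩ :=
        classify S₀ hT hN hX hL g.2 ((Subgroup.orderOf_coe g).trans hg)
      exact ⟨_, hcov j hj hj0 hjn, (ConjClasses.mk_eq_mk_iff_isConj.2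
        (isConj_iff.2 ⟨⟨a, ha⟩, Subtype.ext (by simpa using e)⟩)).symm⟩
    · rintro ⟨S, hS, rfl⟩
      let y : ↥(D.group K) := ⟨wK S₀ S, wK_mem S₀ S⟩
      have hy : orderOf y = 2 := by
        rw [← Subgroup.orderOf_coe y]
        exact (invol S₀ hT (hset S hS) h1 (hp S hS)).2
      exact ⟨y, hy, rfl⟩
  have hinj : Set.InjOn cls {S | S ∈ reps} := by
    intro S hS S' hS' e
    obtain ⟨c, hc⟩ := isConj_iff.1 (ConjClasses.mk_eq_mk_iff_isConj.1 e)
    exact hd S hS S' hS' (hf _ _ ⟨c.1, c.2, by simpa using congrArg Subtype.val hc⟩)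
  rw [hset', hinj.ncard_image, ← List.toFinset_card_of_nodup hnd, ← Set.ncard_coe_finset, List.coe_toFinset]

end Cfsg.Lib.Chev.InvElim
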