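import Cfsg.Agent.Chev.InvElim.Classify
import Mathlib.LinearAlgebra.Matrix.Rank

/-! Rank invariants of products of root elements, certified by bit matrices over the field with two elements. -/

set_option autoImplicit false
set_option linter.unusedSectionVars false

open Cfsg.Lie

namespace Cfsg.Lib.Chev.InvElim

private theorem fact_two : Fact (Nat.Prime 2) := ⟨Nat.prime_two⟩

attribute [local instance] fact_two

/-- A bit as an element of the field with two elements. -/
def bitv (v i : ℕ) : ZMod 2 := if v.testBit i then 1 else 0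

/-- The sum of the columns selected by the bits. -/
def app : List ℕ → ℕ → ℕ
  | [], _ => 0
  | a :: A, v => (if v % 2 == 1 then a else 0) ^^^ app A (v / 2)

/-- The product of bit matrices given by columns. -/
def bmul (A B : List ℕ) : List ℕ := B.map (app A)

/-- The identity bit matrix. -/
def idc (d : ℕ) : List ℕ := (List.range d).map (2 ^ ·)

/-- The bit matrix minus one. -/
def minusOne (d : ℕ) (A : List ℕ) : List ℕ := (List.range d).map fun j => A.getD j 0 ^^^ 2 ^ j

/-- The bit matrix of a coordinate projection. -/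
def projc (d J : ℕ) : List ℕ := (List.range d).map fun j => if J.testBit j then 2 ^ j else 0

/-- The matrix of a list of columns. -/
def toM (m n : ℕ) (L : List ℕ) : Matrix (Fin m) (Fin n) (ZMod 2) :=
  Matrix.of fun i j => bitv (L.getD j.val 0) i.val

theorem bitv_xor (a b i : ℕ) : bitv (a ^^^ b) i = bitv a i + bitv b i := by
  have : (1 : ZMod 2) + 1 = 0 := by decide
  simp only [bitv, Nat.testBit_xor]
  cases a.testBit i <;> cases b.testBit i <;> simp [this]

theorem bitv_zero (i : ℕ) : bitv 0 i = 0 := by simp [bitv]

theorem bitv_app : ∀ (A : List ℕ) (v i : ℕ),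
    bitv (app A v) i = ∑ j : Fin A.length, bitv (A.getD j.val 0) i * bitv v j.val
  | [], v, i => by simp [app, bitv_zero]
  | a :: A, v, i => by
    rw [app, bitv_xor, bitv_app A (v / 2) i, List.length_cons, Fin.sum_univ_succ]
    congr 1
    · rcases Nat.mod_two_eq_zero_or_one v with h | h <;>
        simp [h, bitv, Nat.testBit_zero]
    · refine Finset.sum_congr rfl fun j _ => ?_
      congr 1
      simp [bitv, Nat.testBit_succ]

theorem app_zero : ∀ A : List ℕ, app A 0 = 0
  | [] => rfl
  | a :: A => by simp [app, app_zero A]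

theorem toM_mul {m n p : ℕ} {A : List ℕ} (hA : A.length = n) (B : List ℕ) :
    toM m n A * toM n p B = toM m p (bmul A B) := by
  subst hA
  ext i j
  have e : (bmul A B).getD j.val 0 = app A (B.getD j.val 0) := by
    simp only [bmul, List.getD_eq_getElem?_getD, List.getElem?_map]
    cases B[j.val]? <;> simp [app_zero]
  simp only [Matrix.mul_apply, toM, Matrix.of_apply, e, bitv_app]

theorem toM_idc (d : ℕ) : toM d d (idc d) = 1 := by
  ext i j
  simp [toM, idc, bitv, Matrix.one_apply, List.getD_eq_getElem?_getD, Nat.testBit_two_pow, Fin.ext_iff, eq_comm]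

theorem toM_minusOne (d : ℕ) (A : List ℕ) : toM d d (minusOne d A) = toM d d A - 1 := by
  ext i j
  rw [Matrix.sub_apply, CharTwo.sub_eq_add]
  simp only [toM, minusOne, Matrix.of_apply, List.getD_eq_getElem?_getD, List.getElem?_map,
    List.getElem?_range, j.isLt, Option.map_some, Option.getD_some, bitv_xor]
  congr 1
  by_cases hij : i = j
  · subst hij
    simp [bitv]
  · have : j.val ≠ i.val := fun h => hij (Fin.ext h.symm)
    simp [bitv, hij, this, Nat.testBit_two_pow]

theorem toM_projc (d J : ℕ) :
    toM d d (projc d J) = Matrix.diagonal fun i : Fin d => if J.testBit i.val then (1 : ZMod 2) else 0 := by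
  ext i j
  simp only [toM, projc, Matrix.of_apply, List.getD_eq_getElem?_getD, List.getElem?_map,
    List.getElem?_range, j.isLt, Option.map_some, Option.getD_some, Matrix.diagonal_apply]
  by_cases hij : i = j
  · subst hij
    by_cases h : J.testBit i.val <;> simp [h, bitv]
  · have : j.val ≠ i.val := fun h => hij (Fin.ext h.symm)
    by_cases h : J.testBit j.val <;> simp [h, bitv, hij, this, Nat.testBit_two_pow]

variable (D : ChevalleyDatum)

/-- The numbering of the coordinates. -/
def eI : D.Idx ≃ Fin (D.rank + D.nroots) := finSumFinEquiv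

/-- The columns are those of the root element over the field with two elements. -/
def okX (p : ℕ × List ℕ) : Bool :=
  decide (p.2.length = D.rank + D.nroots) &&
    (List.finRange (D.rank + D.nroots)).all fun i => (List.finRange (D.rank + D.nroots)).all fun j =>
      decide (D.x (ZMod 2) p.1 1 ((eI D).symm i) ((eI D).symm j) = bitv (p.2.getD j.val 0) i.val)

/-- The columns of a product. -/
def wcols : List (ℕ × List ℕ) → List ℕ
  | [] => idc (D.rank + D.nroots)
  | p :: ws => bmul p.2 (wcols ws)

/-- A certificate of a rank. -/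
structure RkCert where
  /-- the left factor -/
  l : List ℕ
  /-- the right factor -/
  r : List ℕ
  /-- a left certificate -/
  l' : List ℕ
  /-- a right certificate -/
  r' : List ℕ

/-- The rank certificate is valid. -/
def okRk (J k : ℕ) (ws : List (ℕ × List ℕ)) (c : RkCert) : Bool :=
  let M := bmul (minusOne (D.rank + D.nroots) (wcols D ws)) (projc (D.rank + D.nroots) J)
  decide (c.l.length = k ∧ c.l'.length = D.rank + D.nroots) && decide (M = bmul c.l c.r) &&
    decide (bmul (bmul c.l' M) c.r' = idc k)

variable {D} {C : Cert} {K : Type*} [Field K] [Fintype K] [CharP K 2] (S₀ : Struct D C)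

/-- The embedding of the prime field. -/
noncomputable def φ₂ (K : Type*) [Field K] [CharP K 2] : ZMod 2 →+* K := ZMod.castHom (dvd_refl 2) K

/-- The projection onto the coordinates in a set. -/
def Pk (D : ChevalleyDatum) (K : Type*) [Field K] (J : ℕ) : Matrix D.Idx D.Idx K :=
  Matrix.diagonal fun a => if J.testBit (eI D a).val then 1 else 0

/-- The invariant. -/
noncomputable def rkJ (D : ChevalleyDatum) (J : ℕ) (g : GL D.Idx K) : ℕ :=
  Matrix.rank ((g.1 - 1) * Pk D K J)

include S₀

theorem rkJ_eq {J k : ℕ} {ws : List (ℕ × List ℕ)} {c : RkCert} (hx : ∀ p ∈ ws, okX D p = true)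
    (h : okRk D J k ws c = true) : rkJ D J (wK (K := K) S₀ (ws.map Prod.fst)) = k := by
  classical
  set d := D.rank + D.nroots
  have hw : ∀ vs : List (ℕ × List ℕ), (∀ p ∈ vs, okX D p = true) →
      (wK (K := K) S₀ (vs.map Prod.fst)).1.submatrix (eI D).symm (eI D).symm =
        (toM d d (wcols D vs)).map (φ₂ K) := by
    intro vs
    induction vs with
    | nil =>
      intro _
      rw [List.map_nil, wK_nil, wcols, toM_idc, Units.val_one, Matrix.submatrix_one_equiv,
        Matrix.map_one _ (map_zero _) (map_one _)]
    | cons p vs ih =>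
      intro hp
      obtain ⟨r, L⟩ := p
      have h0 := hp _ List.mem_cons_self
      simp only [okX, Bool.and_eq_true, List.all_eq_true, decide_eq_true_eq, List.mem_finRange, forall_true_left] at h0
      rw [List.map_cons, wK_cons, Units.val_mul, ← Matrix.submatrix_mul_equiv _ _ _ (eI D).symm,
        ih fun q hq => hp q (List.mem_cons_of_mem _ hq), wcols, ← toM_mul (n := d) h0.1, Matrix.map_mul]
      congr 1
      ext i j
      rw [Matrix.submatrix_apply, Matrix.map_apply, S₀.ok.val_xG]
      show D.x K r 1 ((eI D).symm i) ((eI D).symm j) = φ₂ K (bitv (L.getD j.val 0) i.val)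
      rw [← h0.2 i j, show D.x K r 1 = (D.x (ZMod 2) r 1).map (φ₂ K) by rw [Ok.map_x, map_one], Matrix.map_apply]
  simp only [okRk, Bool.and_eq_true, decide_eq_true_eq] at h
  obtain ⟨⟨⟨hl, hl'⟩, h1⟩, h2⟩ := h
  set M := bmul (minusOne d (wcols D ws)) (projc d J) with hM
  have hMlen : (bmul c.l' M).length = d := by simp [hM, bmul, projc]
  have hP : (Pk D K J).submatrix (eI D).symm (eI D).symm = (toM d d (projc d J)).map (φ₂ K) := by
    rw [toM_projc, Pk, Matrix.submatrix_diagonal_equiv, Matrix.diagonal_map (map_zero _)]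
    congr 1
    ext i
    simp only [Function.comp_apply, Equiv.apply_symm_apply]
    split_ifs <;> simp
  have e : (((wK (K := K) S₀ (ws.map Prod.fst)).1 - 1) * Pk D K J).submatrix (eI D).symm (eI D).symm =
      (toM d d M).map (φ₂ K) := by
    rw [← Matrix.submatrix_mul_equiv _ _ _ (eI D).symm, hP, Matrix.submatrix_sub, Pi.sub_apply, Pi.sub_apply, hw ws hx,
      Matrix.submatrix_one_equiv, hM, ← toM_mul (n := d) (by simp [minusOne]), toM_minusOne, Matrix.map_mul,
      Matrix.map_sub _ (map_sub _), Matrix.map_one _ (map_zero _) (map_one _)]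
  rw [rkJ, ← Matrix.rank_submatrix _ (eI D).symm (eI D).symm, e]
  refine le_antisymm ?_ ?_
  · rw [h1, ← toM_mul (n := k) hl, Matrix.map_mul]
    exact (Matrix.rank_mul_le_left _ _).trans (Matrix.rank_le_width _)
  · have h3 : (toM k d c.l').map (φ₂ K) * (toM d d M).map (φ₂ K) * (toM d k c.r').map (φ₂ K) =
        (1 : Matrix (Fin k) (Fin k) K) := by
      rw [← Matrix.map_mul, ← Matrix.map_mul, toM_mul hl', toM_mul hMlen, h2, toM_idc,
        Matrix.map_one _ (map_zero _) (map_one _)]
    have h4 := congrArg Matrix.rank h3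
    rw [Matrix.rank_one, Fintype.card_fin] at h4
    exact h4 ▸ (Matrix.rank_mul_le_left _ _).trans (Matrix.rank_mul_le_right _ _)

omit S₀

/-- The group preserves the span of the coordinates in the set. -/
def StableJ (D : ChevalleyDatum) (K : Type*) [Field K] (J : ℕ) : Prop :=
  ∀ h ∈ D.group K, (h : Matrix D.Idx D.Idx K) * Pk D K J = Pk D K J * h * Pk D K J

theorem rkJ_conj {J : ℕ} (hJ : StableJ D K J) {g h : GL D.Idx K} (hh : h ∈ D.group K) :
    rkJ D J (h * g * h⁻¹) ≤ rkJ D J g := by
  classical
  have e : ((h * g * h⁻¹ : GL D.Idx K).1 - 1) * Pk D K J =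
      h.1 * ((g.1 - 1) * Pk D K J) * ((h⁻¹ : GL D.Idx K).1 * Pk D K J) := by
    have h1 : (h * g * h⁻¹ : GL D.Idx K).1 - 1 = h.1 * (g.1 - 1) * (h⁻¹ : GL D.Idx K).1 := by
      rw [Units.val_mul, Units.val_mul, mul_sub, sub_mul, mul_one, Units.mul_inv]
    have h2 : Pk D K J * ((h⁻¹ : GL D.Idx K).1 * Pk D K J) = (h⁻¹ : GL D.Idx K).1 * Pk D K J := by
      rw [← mul_assoc, ← hJ _ (inv_mem hh)]
    rw [h1]
    simp only [mul_assoc]
    rw [h2]
  rw [rkJ, e]
  exact (Matrix.rank_mul_le_left _ _).trans (Matrix.rank_mul_le_right _ _)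

theorem rkJ_Cj {J : ℕ} (hJ : StableJ D K J) (S₀ : Struct D C) {u w : GL D.Idx K} (h : Cj S₀ u w) :
    rkJ D J u = rkJ D J w := by
  obtain ⟨a, ha, rfl⟩ := h
  refine le_antisymm ?_ (rkJ_conj hJ ha)
  have e := rkJ_conj hJ (g := a * u * a⁻¹) (inv_mem ha)
  simpa [mul_assoc] using e

theorem stable_full {J : ℕ} (hJ : J = 2 ^ (D.rank + D.nroots) - 1) : StableJ D K J := by
  have : Pk D K J = 1 := by
    rw [Pk, ← Matrix.diagonal_one]
    congr 1
    ext a
    rw [if_pos]
    simp [hJ, (eI D a).isLt]
  intro h _
  simp [this]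

/-- The set of coordinates spans a subspace preserved by the group in characteristic two. -/
def okJ (D : ChevalleyDatum) (J : ℕ) : Bool :=
  (List.finRange D.nroots).all fun r =>
    ((List.finRange D.rank).all fun i => !J.testBit i.val || J.testBit (D.rank + r.val) ||
      ((D.cartanSR.getD i.val #[]).getD r.val 0).natAbs % 2 == 0) &&
    (List.finRange D.nroots).all fun s => !J.testBit (D.rank + s.val) ||
      if s = r then true
      else if s.val = D.negIdx.getD r.val 0 then
        J.testBit (D.rank + r.val) && (List.finRange D.rank).all fun i => J.testBit i.val ||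
          ((D.coroot.getD r.val #[]).getD i.val 0).natAbs % 2 == 0
      else (List.finRange D.nroots).all fun u => J.testBit (D.rank + u.val) || decide (u = s) ||
        (D.chainCoeff r.val s.val u.val).all fun km => km.2.natAbs % 2 == 0

theorem stable_of_okJ {J : ℕ} (hJ : okJ D J = true) : StableJ D K J := by
  classical
  have even : ∀ z : ℤ, z.natAbs % 2 = 0 → (z : K) = 0 := fun z hz =>
    (CharP.intCast_eq_zero_iff K 2 z).2 (by omega)
  have gen : ∀ (r : Fin D.nroots) (t : K) (a b : D.Idx), J.testBit (eI D b).val = true →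
      J.testBit (eI D a).val = false → D.xMat K r t a b = 0 := by
    intro r t a b hb ha
    simp only [okJ, List.all_eq_true, Bool.and_eq_true, Bool.or_eq_true, beq_iff_eq, Bool.not_eq_true',
      List.mem_finRange, forall_true_left] at hJ
    obtain ⟨hI, hR⟩ := hJ r
    rcases b with i | s <;> rcases a with i' | u <;>
      simp only [eI, finSumFinEquiv_apply_left, finSumFinEquiv_apply_right, Fin.val_castAdd, Fin.val_natAdd] at hb ha <;>
      simp only [ChevalleyDatum.xMat, Matrix.of_apply]
    · rw [if_neg]; rintro rfl; simp [hb] at ha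
    · split_ifs with h
      · subst h
        rcases hI i with (h' | h') | h'
        · simp [hb] at h'
        · simp [ha] at h'
        · rw [even _ h', neg_zero, zero_mul]
      · rfl
    all_goals
      have h2 := (hR s).resolve_left (by simp [hb])
      split_ifs at h2 ⊢ with h3 h4
    all_goals try rfl
    · simp only [Bool.and_eq_true, List.all_eq_true, Bool.or_eq_true, beq_iff_eq, List.mem_finRange,
        forall_true_left] at h2
      rcases h2.2 i' with h' | h'
      · simp [ha] at h'
      · rw [even _ h', zero_mul]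
    all_goals first
      | (subst_vars; simp [ha] at hb; done)
      | (simp only [Bool.and_eq_true] at h2; subst_vars; simp [ha] at h2; done)
      | skip
    simp only [List.all_eq_true, Bool.or_eq_true, decide_eq_true_eq, beq_iff_eq, List.mem_finRange,
      forall_true_left] at h2
    rcases h2 u with (h' | h') | h'
    · simp [ha] at h'
    · subst h'; simp [ha] at hb
    · rw [zero_add]; refine List.sum_eq_zero fun z hz => ?_
      obtain ⟨km, hkm, rfl⟩ := List.mem_map.1 hz
      rw [even _ (h' km hkm), zero_mul]
  intro h hh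
  have key : ∀ (g : GL D.Idx K), g.1 * Pk D K J = Pk D K J * g.1 * Pk D K J → ∀ n : ℕ,
      (g ^ n).1 * Pk D K J = Pk D K J * (g ^ n).1 * Pk D K J := by
    intro g hg n
    have idem : Pk D K J * Pk D K J = Pk D K J := by
      rw [Pk, Matrix.diagonal_mul_diagonal]; congr 1; ext a; split_ifs <;> simp
    induction n with
    | zero => simp [idem]
    | succ n ih =>
      rw [pow_succ, Units.val_mul, mul_assoc, hg, ← mul_assoc, ← mul_assoc, ih]
      simp only [mul_assoc]
      rw [← mul_assoc (Pk D K J) g.1, ← hg]
  induction hh using Subgroup.closure_induction with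
  | mem g hg =>
    obtain ⟨r, t, e⟩ := hg
    ext a b
    rw [e, Pk, Matrix.mul_diagonal, Matrix.mul_diagonal, Matrix.diagonal_mul]
    by_cases hb : J.testBit (eI D b).val = true
    · by_cases ha : J.testBit (eI D a).val = true
      · simp [ha, hb]
      · simp only [Bool.not_eq_true] at ha
        simp [ha, hb, gen r t a b hb ha]
    · simp [hb]
  | one =>
    have idem : Pk D K J * Pk D K J = Pk D K J := by
      rw [Pk, Matrix.diagonal_mul_diagonal]; congr 1; ext a; split_ifs <;> simp
    simp [idem]
  | mul a b _ _ iha ihb =>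
    rw [Units.val_mul, mul_assoc, ihb, ← mul_assoc, ← mul_assoc, iha]
    simp only [mul_assoc]
    rw [← mul_assoc (Pk D K J) b.1, ← ihb]
  | inv a _ iha =>
    have := key a iha (orderOf a - 1)
    have e1 : a ^ orderOf a = 1 := pow_orderOf_eq_one a
    have e2 : a ^ (orderOf a - 1) = a⁻¹ := by
      refine (inv_eq_of_mul_eq_one_right ?_).symm
      rw [← pow_succ', Nat.sub_add_cancel (orderOf_pos a), e1]
    rwa [e2] at this

end Cfsg.Lib.Chev.InvElim
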