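import Cfsg.Agent.Chev.InvElim.Rank
import Cfsg.Agent.Chev.GLRel

/-! A fast check of the columns of a root element from the table of the certificate. -/

set_option autoImplicit false

open Cfsg.Lie

namespace Cfsg.Lib.Chev.InvElim

/-- A column of a root element with parameter one, modulo two. -/
def colF (L : List Tm) (j : ℕ) : ℕ :=
  L.foldr (fun e v => if e.c == j && e.k.natAbs % 2 == 1 then 2 ^ e.r ^^^ v else v) (2 ^ j)

/-- The columns are those given by the table. -/
noncomputable def okX2 (D : ChevalleyDatum) (C : Cert) (p : ℕ × List ℕ) : Bool :=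
  decide (p.2.length = D.rank + D.nroots) && decide (p.1 < D.nroots) && (C.row p.1).all (fun e => e.i == 0) &&
    (List.range (D.rank + D.nroots)).all fun j => decide (p.2.getD j 0 = colF (C.row p.1) j)

theorem intCast_parity (k : ℤ) : ((k : ℤ) : ZMod 2) = if k.natAbs % 2 == 1 then 1 else 0 := by
  rcases Int.even_or_odd k with h | h
  · have h2 : k.natAbs % 2 = 0 := by have := Int.natAbs_even.2 h; rwa [Nat.even_iff] at this
    simp [h2, (ZMod.intCast_zmod_eq_zero_iff_dvd k 2).2 (even_iff_two_dvd.1 h)]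
  · have h2 : k.natAbs % 2 = 1 := by have := Int.natAbs_odd.2 h; rwa [Nat.odd_iff] at this
    obtain ⟨m, rfl⟩ := h
    have : (2 : ZMod 2) = 0 := rfl
    simp [h2, this]

theorem bitv_colF {l n : ℕ} : ∀ (L : List Tm), (∀ e ∈ L, e.i = 0) → ∀ x y : Fin l ⊕ Fin n,
    bitv (colF L (enc l n y)) (enc l n x) = (if x = y then 1 else 0) + ev l n (0 : ZMod 2) 1 L x y
  | [], _, x, y => by
    by_cases h : x = y
    · subst h; simp [colF, bitv, Nat.testBit_two_pow]
    · have h' : enc l n y ≠ enc l n x := fun e => h (enc_injective l n e).symm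
      simp [colF, bitv, Nat.testBit_two_pow, h, h']
  | e :: L, hL, x, y => by
    have ih := bitv_colF L (fun a ha => hL a (List.mem_cons_of_mem _ ha)) x y
    have hi := hL e List.mem_cons_self
    rw [colF, List.foldr_cons, ← colF, ev_cons, Matrix.add_apply]
    have he : evT l n (0 : ZMod 2) 1 e x y =
        if enc l n x = e.r ∧ enc l n y = e.c then (e.k : ZMod 2) else 0 := by simp [evT, unit, hi]
    rw [he, intCast_parity, add_left_comm, ← ih]
    by_cases hc : e.c = enc l n y
    · by_cases hk : e.k.natAbs % 2 = 1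
      · rw [if_pos (by simp [hc, hk]), bitv_xor]
        by_cases hr : enc l n x = e.r
        · simp [hr, hc, hk, bitv, Nat.testBit_two_pow]
        · simp [hr, hc, hk, bitv, Nat.testBit_two_pow, Ne.symm hr]
      · rw [if_neg (by simp [hk])]
        simp [hk]
    · rw [if_neg (by simp [hc])]
      simp [Ne.symm hc]

theorem eI_val (D : ChevalleyDatum) (x : D.Idx) : (eI D x).val = enc D.rank D.nroots x := by
  rcases x with i | s <;> simp [eI, enc]

theorem okX_of {D : ChevalleyDatum} {C : Cert} (h : Ok D C) {p : ℕ × List ℕ} (hp : okX2 D C p = true) :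
    okX D p = true := by
  simp only [okX2, Bool.and_eq_true, decide_eq_true_eq, List.all_eq_true, List.mem_range, beq_iff_eq] at hp
  obtain ⟨⟨⟨hlen, hr⟩, hi⟩, hcol⟩ := hp
  simp only [okX, Bool.and_eq_true, decide_eq_true_eq, List.all_eq_true]
  refine ⟨hlen, fun i _ j _ => ?_⟩
  obtain ⟨x, rfl⟩ := (eI D).surjective i
  obtain ⟨y, rfl⟩ := (eI D).surjective j
  rw [Equiv.symm_apply_apply, Equiv.symm_apply_apply, hcol _ (eI D y).isLt, h.x_eq hr, xR, eI_val, eI_val,
    bitv_colF _ hi, Matrix.add_apply, Matrix.one_apply, h.row_eq hr]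

/-- The sum of the selected columns, evaluating the selector at each step. -/
noncomputable def appF (A : List ℕ) : ℕ → ℕ :=
  @List.rec ℕ (fun _ => ℕ → ℕ) (fun _ => 0)
    (fun a _ ih w => @Nat.rec (fun _ => ℕ) 0
      (fun m _ => Nat.xor (Bool.rec 0 a (Nat.beq (Nat.mod (Nat.add m 1) 2) 1)) (ih (Nat.div (Nat.add m 1) 2))) w) A

theorem appF_eq : ∀ (A : List ℕ) (w : ℕ), appF A w = app A w
  | [], _ => rfl
  | a :: A, 0 => (app_zero (a :: A)).symm
  | a :: A, m + 1 => by
    show Nat.xor (Bool.rec 0 a (Nat.beq ((m + 1) % 2) 1)) (appF A ((m + 1) / 2)) = _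
    rw [appF_eq A, app]
    show (Bool.rec 0 a (Nat.beq ((m + 1) % 2) 1) : ℕ) ^^^ app A ((m + 1) / 2) = _
    congr 1
    cases h : (m + 1) % 2 == 1
    · have h' : Nat.beq ((m + 1) % 2) 1 = false := by
        cases hb : Nat.beq ((m + 1) % 2) 1 with
        | false => rfl
        | true => rw [beq_eq_false_iff_ne] at h; exact absurd (Nat.eq_of_beq_eq_true hb) h
      rw [h']; rfl
    · rw [beq_iff_eq] at h
      rw [h]; rfl

/-- The product of bit matrices. -/
noncomputable def bmulF (A B : List ℕ) : List ℕ := kmap (appF A) B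

theorem bmulF_eq (A B : List ℕ) : bmulF A B = bmul A B := by
  rw [bmulF, kmap_eq, bmul]
  exact List.map_congr_left fun v _ => appF_eq A v

/-- Equality of lists of numbers. -/
noncomputable def leq (A : List ℕ) : List ℕ → Bool :=
  @List.rec ℕ (fun _ => List ℕ → Bool) (fun B => @List.rec ℕ (fun _ => Bool) true (fun _ _ _ => false) B)
    (fun a _ ih B => @List.rec ℕ (fun _ => Bool) false (fun b B' _ => Bool.rec false (ih B') (Nat.beq a b)) B) A

theorem leq_eq : ∀ {A B : List ℕ}, leq A B = true → A = B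
  | [], [], _ => rfl
  | [], _ :: _, h => by simp [leq] at h
  | _ :: _, [], h => by simp [leq] at h
  | a :: A, b :: B, h => by
    change (Bool.rec false (leq A B) (Nat.beq a b) : Bool) = true at h
    cases hb : Nat.beq a b with
    | false => rw [hb] at h; exact absurd h (by simp)
    | true => rw [hb] at h; rw [Nat.eq_of_beq_eq_true hb, leq_eq (A := A) (B := B) h]

theorem app_mod : ∀ (A : List ℕ) (n w : ℕ), A.length ≤ n → app A (w % 2 ^ n) = app A w
  | [], _, _, _ => rfl
  | a :: A, 0, _, h => absurd h (by simp)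
  | a :: A, n + 1, w, h => by
    have h1 : w % 2 ^ (n + 1) % 2 = w % 2 := Nat.mod_mod_of_dvd _ (dvd_pow_self 2 (Nat.succ_ne_zero n))
    have h2 : w % 2 ^ (n + 1) / 2 = w / 2 % 2 ^ n := by
      rw [pow_succ', Nat.mod_mul_right_div_self]
    rw [app, app, h1, h2, app_mod A n (w / 2) (by simpa using h)]

theorem app_append : ∀ (A B : List ℕ) (w : ℕ), app (A ++ B) w = app A w ^^^ app B (w / 2 ^ A.length)
  | [], B, w => by simp [app]
  | a :: A, B, w => by
    rw [List.cons_append, app, app, app_append A B, List.length_cons, pow_succ', ← Nat.div_div_eq_div_mul,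
      Nat.xor_assoc]

/-- The lengths of the blocks are right. -/
def okK : List (List ℕ) → Bool
  | [] => true
  | ch :: rest => (if rest.isEmpty then decide (ch.length ≤ 8) else ch.length == 8) && okK rest

/-- The sum of the selected columns, by blocks of eight. -/
noncomputable def appK (A : List (List ℕ)) : ℕ → ℕ :=
  @List.rec (List ℕ) (fun _ => ℕ → ℕ) (fun _ => 0)
    (fun ch _ ih w => @Nat.rec (fun _ => ℕ) 0
      (fun m _ => Nat.xor (appF ch (Nat.mod (Nat.add m 1) 256)) (ih (Nat.div (Nat.add m 1) 256))) w) A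

theorem appK_eq : ∀ (A : List (List ℕ)) (w : ℕ), okK A = true → appK A w = app A.flatten w
  | [], _, _ => rfl
  | ch :: A, 0, _ => (app_zero _).symm
  | ch :: A, m + 1, h => by
    simp only [okK, Bool.and_eq_true] at h
    show Nat.xor (appF ch ((m + 1) % 256)) (appK A ((m + 1) / 256)) = _
    rw [appK_eq A _ h.2, appF_eq, List.flatten_cons, app_append]
    show _ ^^^ app A.flatten ((m + 1) / 256) = _
    rcases A with - | ⟨c2, A⟩
    · have hl : ch.length ≤ 8 := by simpa using h.1
      rw [show (256 : ℕ) = 2 ^ 8 from rfl, app_mod ch 8 _ hl]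
      simp [app]
    · have hl : ch.length = 8 := by simpa using h.1
      rw [hl, show (256 : ℕ) = 2 ^ 8 from rfl, app_mod ch 8 _ hl.le]

/-- The product of bit matrices, the first given by blocks. -/
noncomputable def bmulK (A : List (List ℕ)) (B : List ℕ) : List ℕ := kmap (appK A) B

theorem bmulK_eq {A : List (List ℕ)} (h : okK A = true) (B : List ℕ) : bmulK A B = bmul A.flatten B := by
  rw [bmulK, kmap_eq, bmul]
  exact List.map_congr_left fun v _ => appK_eq A v h

variable (D : ChevalleyDatum)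

/-- The partial products of the columns are the listed ones. -/
noncomputable def okW : List (ℕ × List (List ℕ)) → List (List ℕ) → List ℕ → Bool
  | [], _, W => leq (idc (D.rank + D.nroots)) W
  | p :: ws, V :: Vs, W => okW ws Vs V && okK p.2 && leq (bmulK p.2 V) W
  | _ :: _, [], _ => false

theorem okW_eq : ∀ {ws : List (ℕ × List (List ℕ))} {Vs : List (List ℕ)} {W : List ℕ},
    okW D ws Vs W = true → wcols D (ws.map fun p => (p.1, p.2.flatten)) = W
  | [], _, _, h => leq_eq h
  | p :: ws, [], _, h => by simp [okW] at h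
  | p :: ws, V :: Vs, W, h => by
    simp only [okW, Bool.and_eq_true] at h
    rw [List.map_cons, wcols, okW_eq h.1.1, ← bmulK_eq h.1.2]
    exact leq_eq h.2

/-- The rank certificate is valid, with the intermediate matrices. -/
noncomputable def okRkF (J k : ℕ) (ws : List (ℕ × List (List ℕ))) (Vs : List (List ℕ)) (W : List ℕ)
    (M0 : List (List ℕ)) (M : List ℕ) (l l' LM : List (List ℕ)) (r r' : List ℕ) : Bool :=
  okW D ws Vs W && leq (minusOne (D.rank + D.nroots) W) M0.flatten &&
    leq (bmulK M0 (projc (D.rank + D.nroots) J)) M && okK M0 && okK l && okK l' && okK LM &&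
    decide (l.flatten.length = k ∧ l'.flatten.length = D.rank + D.nroots) && leq (bmulK l r) M &&
    leq (bmulK l' M) LM.flatten && leq (bmulK LM r') (idc k)

theorem okRk_of {J k : ℕ} {ws : List (ℕ × List (List ℕ))} {Vs : List (List ℕ)} {W : List ℕ}
    {M0 : List (List ℕ)} {M : List ℕ} {l l' LM : List (List ℕ)} {r r' : List ℕ}
    (h : okRkF D J k ws Vs W M0 M l l' LM r r' = true) :
    okRk D J k (ws.map fun p => (p.1, p.2.flatten)) ⟨l.flatten, r, l'.flatten, r'⟩ = true := by
  simp only [okRkF, Bool.and_eq_true, decide_eq_true_eq] at h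
  obtain ⟨⟨⟨⟨⟨⟨⟨⟨⟨⟨h1, h2⟩, h3⟩, k0⟩, k1⟩, k2⟩, k3⟩, h4⟩, h5⟩, h6⟩, h7⟩ := h
  have e1 := okW_eq D h1
  have e2 := leq_eq h2
  have e3 := (bmulK_eq k0 _).symm.trans (leq_eq h3)
  have e5 := (bmulK_eq k1 _).symm.trans (leq_eq h5)
  have e6 := (bmulK_eq k2 _).symm.trans (leq_eq h6)
  have e7 := (bmulK_eq k3 _).symm.trans (leq_eq h7)
  simp only [okRk, Bool.and_eq_true, decide_eq_true_eq, e1, e2, e3]
  exact ⟨⟨h4, e5.symm⟩, by rw [e6]; exact e7⟩

end Cfsg.Lib.Chev.InvElim
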