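import Cfsg.Agent.Chev.InvElim.Classify

/-! The staged elimination of involutions: between the stages a fundamental reflection word which preserves the
remaining roots carries the chosen roots onto one of a short list of states. -/

set_option autoImplicit false
set_option linter.unusedSectionVars false

open Cfsg.Lie

namespace Cfsg.Lib.Chev.InvElim

variable (D : ChevalleyDatum) (T : Tab) (C : Cert) (fin : List ℕ → ℕ → Bool)

/-- The coefficient at the root vanishes, seen at another root modulo the remaining ones. -/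
def okForce2 (S : List ℕ) (R R' d m : ℕ) : Bool :=
  R'.testBit m &&
    decide ((S.flatMap fun a => (ent D T a).filter fun x => (x.1 == d) && (x.2.1 == m)).length = 1) &&
    (prs D T m).all fun p => !((R' ^^^ 2 ^ m).testBit p.2 && (S.contains p.1 || R.testBit p.1))

/-- The word carries the state onto a listed one. -/
noncomputable def okJump (jobs : List (List ℕ × ℕ)) (lv : List ℕ) (bound : ℕ) (S : List ℕ) (R c : ℕ) : Bool :=
  let j := c / 4 % 256
  let w := digs (D.rank + 1) 80 (c / 1024)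
  let tgt := jobs.getD j ([], 0)
  let img := S.map fun s => C.wL w s
  decide (j < bound) && decide (R = tgt.2) && w.all (fun i => decide (i < D.rank) && decide (i < lv.getD j 0)) &&
    decide (tgt.1.Nodup) && decide (S.length = tgt.1.length) && img.all (fun r => tgt.1.contains r) &&
    tgt.1.all fun r => img.contains r

/-- One step of the staged checker. -/
noncomputable def step2 (jobs : List (List ℕ × ℕ)) (lv : List ℕ) (bound : ℕ) (S : List ℕ) (R c : ℕ) :
    Option (List (List ℕ × ℕ)) :=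
  if R == 0 then (if fin S c then some [] else none)
  else if c % 4 == 3 then (if okJump D C jobs lv bound S R c then some [] else none)
  else
    let d := c / 4 % 256
    let x := c / 1024
    let R' := R ^^^ 2 ^ d
    if okRem D T S R R' d then
      if c % 4 == 0 then (if okKill D T S R R' d x then some [(S, R')] else none)
      else if c % 4 == 1 then (if okForce2 D T S R R' d x then some [(S, R')] else none)
      else if okBranch D T S d then some [(d :: S, R'), (S, R')] else none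
    else none

/-- Processing of a code on the pending cases. -/
noncomputable def run2 (jobs : List (List ℕ × ℕ)) (lv : List ℕ) (bound : ℕ) :
    List (List ℕ × ℕ) → List ℕ → Option (List (List ℕ × ℕ))
  | st, [] => some st
  | [], _ :: _ => none
  | (S, R) :: st, c :: L => (step2 D T C fin jobs lv bound S R c).bind fun p => run2 jobs lv bound (p ++ st) L

/-- The state satisfies the invariant. -/
def okState (S : List ℕ) (R : ℕ) : Bool :=
  decide (R &&& R0 D = R) && decide S.Nodup &&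
    (S.all fun a => decide (hlf D ≤ a ∧ a < D.nroots) && (ent D T a).all fun x => !S.contains x.1) &&
    (posL D).all fun a => !(S.contains a || R.testBit a) ||
      (ent D T a).all fun x => !R.testBit x.1 || R.testBit x.2.1

/-- The fundamental reflections below the level preserve the set. -/
noncomputable def okLv (R k : ℕ) : Bool :=
  (List.range D.rank).all fun i => !decide (i < k) || (posL D).all fun r => !R.testBit r || R.testBit (C.w i r)

/-- The code of a listed state is valid. -/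
noncomputable def okJob (jobs : List (List ℕ × ℕ)) (lv : List ℕ) (i : ℕ) (L : List ℕ) : Bool :=
  okState D T (jobs.getD i ([], 0)).1 (jobs.getD i ([], 0)).2 && okLv D C (jobs.getD i ([], 0)).2 (lv.getD i 0) &&
    decide (run2 D T C fin jobs lv i [jobs.getD i ([], 0)] L = some [])

theorem run2_append (jobs : List (List ℕ × ℕ)) (lv : List ℕ) (bound : ℕ) : ∀ (a b : List ℕ) (st : List (List ℕ × ℕ)),
    run2 D T C fin jobs lv bound st (a ++ b) =
      (run2 D T C fin jobs lv bound st a).bind fun st' => run2 D T C fin jobs lv bound st' b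
  | [], b, st => by simp [run2]
  | c :: a, b, [] => by simp [run2]
  | c :: a, b, (S, R) :: st => by
    simp only [List.cons_append, run2]
    cases step2 D T C fin jobs lv bound S R c with
    | none => rfl
    | some p => simp [run2_append jobs lv bound a b (p ++ st)]

theorem run2_chain {jobs : List (List ℕ × ℕ)} {lv : List ℕ} {bound : ℕ} {a b : List ℕ}
    {st st' : List (List ℕ × ℕ)} (h : run2 D T C fin jobs lv bound st a = some st')
    (h' : run2 D T C fin jobs lv bound st' b = some []) : run2 D T C fin jobs lv bound st (a ++ b) = some [] := by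
  rw [run2_append, h]; exact h'

theorem okJob_intro {jobs : List (List ℕ × ℕ)} {lv : List ℕ} {i : ℕ} {L : List ℕ}
    (h1 : okState D T (jobs.getD i ([], 0)).1 (jobs.getD i ([], 0)).2 = true)
    (h2 : okLv D C (jobs.getD i ([], 0)).2 (lv.getD i 0) = true) {x : List ℕ × ℕ} (hx : jobs.getD i ([], 0) = x)
    (h3 : run2 D T C fin jobs lv i [x] L = some []) : okJob D T C fin jobs lv i L = true := by
  subst hx
  simp only [okJob, h1, h2, h3, Bool.and_self, decide_true, Bool.and_true]

section Sound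

variable {D T C fin} {K : Type*} [Field K] [CharP K 2] [Fintype K] (S₀ : Struct D C)

omit [Fintype K] in
theorem HR_inj (hT : okTab D T = true) {m : ℕ} (hm : Pos (D := D) m) (c : K) :
    ∀ n R : ℕ, R < n → (∀ r, R.testBit r = true → Pos (D := D) r) →
      (∀ a, R.testBit a = true → ∀ x ∈ ent D T a, R.testBit x.1 = true → R.testBit x.2.1 = true) →
      R.testBit m = false → S₀.ok.xG m c ∈ HR S₀ R → c = 0 := by
  intro n
  induction n with
  | zero => intro R h; omega
  | succ n ih =>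
    intro R hn hp hcl hmR hmem
    by_cases hR : R = 0
    · subst hR
      have hle : HR (K := K) S₀ 0 ≤ ⊥ := (Subgroup.closure_le _).2 fun g ⟨r, hr, _⟩ => by simp at hr
      have e : S₀.ok.xG m c = 1 := Subgroup.mem_bot.1 (hle hmem)
      exact S₀.xG_inf_Ugen hm.2 hm.1 (e ▸ one_mem _)
    have hex : ∃ r, R.testBit r = true := Nat.exists_testBit_of_ne_zero hR
    classical
    set r := Nat.find hex
    have hr : R.testBit r = true := Nat.find_spec hex
    have hmin : ∀ s, R.testBit s = true → r ≤ s := fun s hs => Nat.find_min' hex hs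
    have hne : r ≠ m := fun e => by rw [e, hmR] at hr; simp at hr
    have hle : ∀ {k : ℕ} {R' : ℕ}, (∀ s, R'.testBit s = true → k ≤ s) → (∀ s, R'.testBit s = true → R.testBit s = true) →
        HR (K := K) S₀ R' ≤ S₀.Ugen K k := fun h h' => (Subgroup.closure_le _).2 fun g ⟨s, hs, u, e⟩ =>
      e ▸ S₀.xG_mem_Ugen (h s hs) (hp s (h' s hs)).2 u
    rcases lt_or_gt_of_ne hne with hlt | hgt
    · have hb : ∀ s, (R ^^^ 2 ^ r).testBit s = true ↔ R.testBit s = true ∧ s ≠ r := fun s => testBit_erase hr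
      have hp' : ∀ s, (R ^^^ 2 ^ r).testBit s = true → Pos (D := D) s := fun s hs => hp s ((hb s).1 hs).1
      have hcl' : ∀ a, R.testBit a = true → ∀ x ∈ ent D T a, (R ^^^ 2 ^ r).testBit x.1 = true →
          (R ^^^ 2 ^ r).testBit x.2.1 = true := by
        intro a ha x hx hx1
        refine (hb _).2 ⟨hcl a ha x hx ((hb _).1 hx1).1, ?_⟩
        have h1 := hmin _ ((hb _).1 hx1).1
        have h2 := (ent_spec hT (hp a ha) hx).2.2.2.2.1
        omega
      obtain ⟨e, v, hv, heq⟩ := split S₀ hT hr (hp r hr) hb hp' (hcl' r hr) hmem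
      have hv' : v ∈ S₀.Ugen K (r + 1) := hle (R' := R ^^^ 2 ^ r) (fun s hs => by
        have := hmin s ((hb s).1 hs).1; have := ((hb s).1 hs).2; omega) (fun s hs => ((hb s).1 hs).1) hv
      have he : S₀.ok.xG r e ∈ S₀.Ugen K (r + 1) := by
        rw [show S₀.ok.xG r e = S₀.ok.xG m c * v⁻¹ by rw [heq]; group]
        exact mul_mem (S₀.xG_mem_Ugen (by omega) hm.2 c) (inv_mem hv')
      rw [S₀.xG_inf_Ugen (hp r hr).2 (hp r hr).1 he, S₀.xG_zero, one_mul] at heq
      refine ih (R ^^^ 2 ^ r) ?_ hp' (fun a ha => hcl' a ((hb a).1 ha).1) ?_ (heq ▸ hv)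
      · have : R ^^^ 2 ^ r < R := by
          refine Nat.lt_of_testBit r ?_ hr fun j hj => ?_
          · simpa using fun h => ((hb r).1 h).2 rfl
          · rw [Nat.testBit_xor, Nat.testBit_two_pow]
            simp [show r ≠ j by omega]
        omega
      · simp [Nat.testBit_xor, Nat.testBit_two_pow, hmR, hne]
    · exact S₀.xG_inf_Ugen hm.2 hm.1 (hle (R' := R) (fun s hs => by have := hmin s hs; omega) (fun s hs => hs) hmem)

omit [Fintype K] in
theorem Pv_sq (hT : okTab D T = true) (S : List ℕ) (hpos : ∀ a ∈ S, hlf D ≤ a ∧ a < D.nroots)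
    (hcomm : ∀ a ∈ S, ∀ x ∈ ent D T a, x.1 ∉ S) (t : ℕ → K) :
    ∀ Q : List ℕ, (∀ a ∈ Q, a ∈ S) → Pv S₀ Q t * Pv S₀ Q t = 1 := by
  intro Q
  induction Q with
  | nil => intro _; simp [Pv]
  | cons a Q ih =>
    intro hQ
    have hc : Commute (S₀.ok.xG a (t a)) (Pv S₀ Q t) := Commute.list_prod_right _ _ fun y hy => by
      obtain ⟨b, hb, rfl⟩ := List.mem_map.1 hy
      have e := cn S₀ hT (hpos a (hQ a List.mem_cons_self)) (hpos b (hQ b (List.mem_cons_of_mem _ hb))) (t a) (t b)
      rw [List.filter_eq_nil_iff.2 (fun x hx => by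
          simpa using fun h : x.1 = b => hcomm a (hQ a List.mem_cons_self) x hx (h ▸ hQ b (List.mem_cons_of_mem _ hb))),
        List.map_nil, List.prod_nil, mul_one, mul_assoc, inv_mul_eq_iff_eq_mul] at e
      exact e.symm
    show S₀.ok.xG a (t a) * Pv S₀ Q t * (S₀.ok.xG a (t a) * Pv S₀ Q t) = 1
    rw [hc.symm.mul_mul_mul_comm, xG_self S₀, one_mul, ih fun b hb => hQ b (List.mem_cons_of_mem _ hb)]

omit [Fintype K] in
theorem force2_step (hT : okTab D T = true) {S : List ℕ} {R R' d m : ℕ} (hI : Inv (D := D) T S R)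
    (hrem : okRem D T S R R' d = true) (h : okForce2 D T S R R' d m = true) {t : ℕ → K} (ht : ∀ a ∈ S, t a ≠ 0)
    {v : GL D.Idx K} (hv : v ∈ HR S₀ R) (h2 : Pv S₀ S t * v * (Pv S₀ S t * v) = 1) : v ∈ HR S₀ R' := by
  obtain ⟨hd, hb, hI', hdc⟩ := rem_spec hT hI hrem
  simp only [okForce2, Bool.and_eq_true, decide_eq_true_eq, List.all_eq_true, Bool.not_eq_true',
    Bool.and_eq_false_iff, Bool.or_eq_false_iff, List.contains_eq_mem, decide_eq_false_iff_not] at h
  obtain ⟨⟨hmR, hone⟩, hprs⟩ := h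
  have hd' : Pos (D := D) d := hI.posR d hd
  have hm' : Pos (D := D) m := hI'.posR m hmR
  set N := R' ^^^ 2 ^ m
  have hbN : ∀ r, N.testBit r = true ↔ R'.testBit r = true ∧ r ≠ m := fun r => testBit_erase hmR
  have hpN : ∀ r, N.testBit r = true → Pos (D := D) r := fun r hr => hI'.posR r ((hbN r).1 hr).1
  have hclN : ∀ a, (a ∈ S ∨ R.testBit a = true) → ∀ x ∈ ent D T a, N.testBit x.1 = true →
      N.testBit x.2.1 = true := by
    intro a ha x hx hx1
    have hpa : Pos (D := D) a := ha.elim (hI.posS a) (hI.posR a)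
    refine (hbN _).2 ⟨?_, fun e => ?_⟩
    · rcases eq_or_ne a d with rfl | hne
      · exact hdc x hx ((hbN _).1 hx1).1
      · exact hI'.closed a (ha.imp_right fun hr => (hb a).2 ⟨hr, hne⟩) x hx ((hbN _).1 hx1).1
    · have hmem := (ent_spec hT hpa hx).2.2.2.2.2
      rw [e] at hmem
      rcases hprs _ hmem with h | ⟨h1, h2⟩
      · simp [hx1] at h
      · rcases ha with ha | ha
        · exact h1 ha
        · simp [ha] at h2
  have hmR0 : R.testBit m = true := ((hb m).1 hmR).1
  have hnd : d ≠ m := fun e => ((hb m).1 hmR).2 e.symm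
  obtain ⟨c, v₀, hv₀, rfl⟩ := split S₀ hT hd hd' hb hI'.posR hdc hv
  obtain ⟨c', w, hw, rfl⟩ := split S₀ hT hmR hm' hbN hpN (hclN m (Or.inr hmR0)) hv₀
  suffices hc : c = 0 by rw [hc, S₀.xG_zero, one_mul]; exact hv₀
  -- conjugation by the product and by single elements
  have nP : ∀ Q : List ℕ, (∀ a ∈ Q, a ∈ S) → ∀ g ∈ HR S₀ N, (Pv S₀ Q t)⁻¹ * g * Pv S₀ Q t ∈ HR S₀ N := by
    intro Q
    induction Q with
    | nil => intro _ g hg; simpa [Pv] using hg
    | cons a Q ihQ =>
      intro hQ g hg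
      have h1 := conj_HR S₀ hT (hI.posS a (hQ a (by simp))) hpN (hclN a (Or.inl (hQ a (by simp)))) (t a) hg
      have h3 := ihQ (fun q hq => hQ q (List.mem_cons_of_mem _ hq)) _ h1
      simpa [Pv, mul_assoc] using h3
  have nd : ∀ a, R.testBit a = true → ∀ (s : K) (g : GL D.Idx K), g ∈ HR S₀ N →
      (S₀.ok.xG a s)⁻¹ * g * S₀.ok.xG a s ∈ HR S₀ N :=
    fun a ha s g hg => conj_HR S₀ hT (hI.posR a ha) hpN (hclN a (Or.inr ha)) s hg
  have m_low : ∀ a, (a ∈ S ∨ R.testBit a = true) → ∀ (s u : K), ∃ n ∈ HR S₀ N,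
      (S₀.ok.xG a s)⁻¹ * S₀.ok.xG m u * S₀.ok.xG a s = S₀.ok.xG m u * n := by
    intro a ha s u
    have hpa : Pos (D := D) a := ha.elim (hI.posS a) (hI.posR a)
    refine ⟨_, list_prod_mem fun y hy => ?_, cn S₀ hT hpa hm' s u⟩
    simp only [List.mem_map, List.mem_filter, beq_iff_eq] at hy
    obtain ⟨x, ⟨hx, hxm⟩, rfl⟩ := hy
    refine xG_mem_HR S₀ ((hbN _).2 ⟨?_, ?_⟩) _
    · refine (hb _).2 ⟨hI.closed a ha x hx (hxm ▸ hmR0), fun e => ?_⟩
      rcases eq_or_ne a d with rfl | hne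
      · have := (ent_spec hT hpa hx).2.2.2.1
        omega
      · have := ((hb _).1 (hI'.closed a (ha.imp_right fun hr => (hb a).2 ⟨hr, hne⟩) x hx (hxm ▸ hmR))).2
        exact this e
    · have := (ent_spec hT hpa hx).2.2.2.2.1
      omega
  have passm : ∀ Q : List ℕ, (∀ a ∈ Q, a ∈ S) → ∀ u, ∃ n ∈ HR S₀ N,
      (Pv S₀ Q t)⁻¹ * S₀.ok.xG m u * Pv S₀ Q t = S₀.ok.xG m u * n := by
    intro Q
    induction Q with
    | nil => exact fun _ u => ⟨1, one_mem _, by simp [Pv]⟩
    | cons a Q ihQ =>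
      intro hQ u
      have hQ' : ∀ q ∈ Q, q ∈ S := fun q hq => hQ q (List.mem_cons_of_mem _ hq)
      obtain ⟨n1, hn1, e1⟩ := m_low a (Or.inl (hQ a (by simp))) (t a) u
      obtain ⟨n2, hn2, e2⟩ := ihQ hQ' u
      refine ⟨n2 * ((Pv S₀ Q t)⁻¹ * n1 * Pv S₀ Q t), mul_mem hn2 (nP Q hQ' n1 hn1), ?_⟩
      calc (Pv S₀ (a :: Q) t)⁻¹ * S₀.ok.xG m u * Pv S₀ (a :: Q) t
          = (Pv S₀ Q t)⁻¹ * ((S₀.ok.xG a (t a))⁻¹ * S₀.ok.xG m u * S₀.ok.xG a (t a)) * Pv S₀ Q t := by
            simp only [Pv, List.map_cons, List.prod_cons]; group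
        _ = ((Pv S₀ Q t)⁻¹ * S₀.ok.xG m u * Pv S₀ Q t) * ((Pv S₀ Q t)⁻¹ * n1 * Pv S₀ Q t) := by rw [e1]; group
        _ = _ := by rw [e2, mul_assoc]
  let val : ℕ → K := fun a => (((ent D T a).filter fun x => (x.1 == d) && (x.2.1 == m)).map fun x =>
    t a ^ x.2.2.1 * c ^ x.2.2.2).sum
  have passd : ∀ Q : List ℕ, (∀ a ∈ Q, a ∈ S) → ∃ n ∈ HR S₀ N,
      (Pv S₀ Q t)⁻¹ * S₀.ok.xG d c * Pv S₀ Q t = S₀.ok.xG d c * S₀.ok.xG m (Q.map val).sum * n := by
    intro Q
    induction Q with
    | nil => exact fun _ => ⟨1, one_mem _, by simp [Pv, S₀.xG_zero]⟩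
    | cons a Q ihQ =>
      intro hQ
      have hQ' : ∀ q ∈ Q, q ∈ S := fun q hq => hQ q (List.mem_cons_of_mem _ hq)
      have haS := hQ a List.mem_cons_self
      obtain ⟨w1, hw1, e1⟩ := terms_prod S₀ hT hm' hpN (hclN m (Or.inr hmR0))
        (((ent D T a).filter fun x => x.1 == d).map fun x => (x.2.1, t a ^ x.2.2.1 * c ^ x.2.2.2))
        (fun p hp => by
          simp only [List.mem_map, List.mem_filter, beq_iff_eq] at hp
          obtain ⟨x, ⟨hx, hxd⟩, rfl⟩ := hp
          by_cases hxm : x.2.1 = m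
          · exact Or.inl hxm
          · refine Or.inr ((hbN _).2 ⟨(hb _).2 ⟨hI.closed a (Or.inl haS) x hx (hxd ▸ hd), ?_⟩, hxm⟩)
            have := (ent_spec hT (hI.posS a haS) hx).2.2.2.2.1
            omega)
      have hsum : ((((ent D T a).filter fun x => x.1 == d).map fun x => (x.2.1, t a ^ x.2.2.1 * c ^ x.2.2.2)).map
          fun p => if p.1 = m then p.2 else 0).sum = val a := by
        simp only [val]
        induction ent D T a with
        | nil => simp
        | cons y L ihL =>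
          by_cases h1 : y.1 = d <;> by_cases h3 : y.2.1 = m <;> simp [List.filter_cons, h1, h3] at ihL ⊢ <;>
            exact ihL
      rw [hsum, List.map_map] at e1
      obtain ⟨n1, hn1, e2⟩ := ihQ hQ'
      obtain ⟨n2, hn2, e3⟩ := passm Q hQ' (val a)
      refine ⟨((S₀.ok.xG m (val a))⁻¹ * n1 * S₀.ok.xG m (val a)) * (n2 * ((Pv S₀ Q t)⁻¹ * w1 * Pv S₀ Q t)),
        mul_mem (nd m hmR0 _ n1 hn1) (mul_mem hn2 (nP Q hQ' w1 hw1)), ?_⟩
      have e4 : (S₀.ok.xG a (t a))⁻¹ * S₀.ok.xG d c * S₀.ok.xG a (t a) =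
          S₀.ok.xG d c * (S₀.ok.xG m (val a) * w1) := by
        rw [cn S₀ hT (hI.posS a haS) hd' (t a) c]
        exact congrArg (S₀.ok.xG d c * ·) e1
      calc (Pv S₀ (a :: Q) t)⁻¹ * S₀.ok.xG d c * Pv S₀ (a :: Q) t
          = (Pv S₀ Q t)⁻¹ * ((S₀.ok.xG a (t a))⁻¹ * S₀.ok.xG d c * S₀.ok.xG a (t a)) * Pv S₀ Q t := by
            simp only [Pv, List.map_cons, List.prod_cons]; group
        _ = ((Pv S₀ Q t)⁻¹ * S₀.ok.xG d c * Pv S₀ Q t) * ((Pv S₀ Q t)⁻¹ * S₀.ok.xG m (val a) * Pv S₀ Q t) *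
            ((Pv S₀ Q t)⁻¹ * w1 * Pv S₀ Q t) := by rw [e4]; group
        _ = _ := by
          rw [e2, e3, List.map_cons, List.sum_cons, add_comm (val a), ← S₀.ok.xG_mul]
          group
  -- the square modulo the remaining roots
  set P := Pv S₀ S t with hP
  set z := S₀.ok.xG d c * S₀.ok.xG m c'
  have hPP : P * P = 1 := Pv_sq S₀ hT S hI.posS hI.comm t S fun _ h => h
  obtain ⟨n1, hn1, e1⟩ := passd S fun _ h => h
  obtain ⟨n2, hn2, e2⟩ := passm S (fun _ h => h) c'
  obtain ⟨n3, hn3, e3⟩ := m_low d (Or.inr hd) c ((S.map val).sum + c')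
  set σ := (S.map val).sum
  have hz : P * z * (P * z) = S₀.ok.xG m σ * ((S₀.ok.xG m c')⁻¹ * (n3 * ((S₀.ok.xG d c)⁻¹ *
      (((S₀.ok.xG m c')⁻¹ * n1 * S₀.ok.xG m c') * n2) * S₀.ok.xG d c)) * S₀.ok.xG m c') := by
    calc P * z * (P * z) = P * P * (P⁻¹ * S₀.ok.xG d c * P) * (P⁻¹ * S₀.ok.xG m c' * P) * z := by
          simp only [z]; group
      _ = S₀.ok.xG d c * (S₀.ok.xG m σ * n1) * (S₀.ok.xG m c' * n2) * z := by
          rw [hPP, one_mul, e1, e2]; simp only [mul_assoc]
      _ = S₀.ok.xG d c * S₀.ok.xG d c * ((S₀.ok.xG d c)⁻¹ * (S₀.ok.xG m σ * S₀.ok.xG m c') * S₀.ok.xG d c) *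
            ((S₀.ok.xG d c)⁻¹ * (((S₀.ok.xG m c')⁻¹ * n1 * S₀.ok.xG m c') * n2) * S₀.ok.xG d c) * S₀.ok.xG m c' := by
          simp only [z]; group
      _ = _ := by
          rw [xG_self S₀, one_mul, S₀.ok.xG_mul, e3, show S₀.ok.xG m (σ + c') = S₀.ok.xG m σ * (S₀.ok.xG m c')⁻¹ by
            rw [S₀.ok.xG_inv, CharTwo.neg_eq, S₀.ok.xG_mul]]
          group
  set M := (S₀.ok.xG m c')⁻¹ * (n3 * ((S₀.ok.xG d c)⁻¹ *
      (((S₀.ok.xG m c')⁻¹ * n1 * S₀.ok.xG m c') * n2) * S₀.ok.xG d c)) * S₀.ok.xG m c'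
  have hM : M ∈ HR S₀ N :=
    nd m hmR0 _ _ (mul_mem hn3 (nd d hd _ _ (mul_mem (nd m hmR0 _ n1 hn1) hn2)))
  have hzw : (P * z)⁻¹ * w * (P * z) ∈ HR S₀ N := by
    have h1 := nd m hmR0 c' _ (nd d hd c _ (nP S (fun _ h => h) w hw))
    convert h1 using 1
    simp only [z, P]
    group
  have hσ : S₀.ok.xG m σ ∈ HR S₀ N := by
    have e : (1 : GL D.Idx K) = S₀.ok.xG m σ * M * ((P * z)⁻¹ * w * (P * z)) * w := by
      rw [← hz, ← h2]
      simp only [z]
      group
    have e' : S₀.ok.xG m σ = (M * ((P * z)⁻¹ * w * (P * z)) * w)⁻¹ := by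
      rw [eq_inv_iff_mul_eq_one, ← mul_assoc, ← mul_assoc]
      exact e.symm
    rw [e']
    exact inv_mem (mul_mem (mul_mem hM hzw) hw)
  have hσ0 : σ = 0 := HR_inj S₀ hT hm' σ (N + 1) N (Nat.lt_succ_self _) hpN
    (fun a ha => hclN a (Or.inr ((hb a).1 ((hbN a).1 ha).1).1))
    (Bool.eq_false_iff.2 fun h => ((hbN m).1 h).2 rfl) hσ
  -- exactly one term
  obtain ⟨q, hq⟩ := List.length_eq_one_iff.1 hone
  have hflat' : ∀ Q : List ℕ, (Q.map val).sum = ((Q.flatMap fun a =>
      ((ent D T a).filter fun x => (x.1 == d) && (x.2.1 == m)).map fun x => (a, x)).map fun p =>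
        t p.1 ^ p.2.2.2.1 * c ^ p.2.2.2.2).sum := by
    intro Q
    induction Q with
    | nil => simp
    | cons a Q ihS => simp [List.flatMap_cons, List.map_map, Function.comp_def, List.sum_append, ← ihS, val]
  have hflat : σ = _ := hflat' S
  have hlen : (S.flatMap fun a => ((ent D T a).filter fun x => (x.1 == d) && (x.2.1 == m)).map fun x =>
      (a, x)).length = 1 := by simpa [List.length_flatMap] using hone
  obtain ⟨⟨a, x⟩, hax⟩ := List.length_eq_one_iff.1 hlen
  have haS : a ∈ S := by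
    have : (a, x) ∈ S.flatMap fun a => ((ent D T a).filter fun x => (x.1 == d) && (x.2.1 == m)).map fun x =>
        (a, x) := by rw [hax]; simp
    simp only [List.mem_flatMap, List.mem_map, Prod.mk.injEq] at this
    obtain ⟨b, hb', y, -, rfl, -⟩ := this
    exact hb'
  rw [hflat, hax] at hσ0
  simp only [List.map_cons, List.map_nil, List.sum_cons, List.sum_nil, add_zero, mul_eq_zero] at hσ0
  exact eq_zero_of_pow_eq_zero (hσ0.resolve_left (pow_ne_zero _ (ht a haS)))

variable (T) (fin) in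
/-- The element is conjugate to an accepted product. -/
def Concl (u : GL D.Idx K) : Prop :=
  ∃ S code, fin S code = true ∧ S.Nodup ∧ (∀ a ∈ S, hlf D ≤ a ∧ a < D.nroots) ∧
    (∀ a ∈ S, ∀ x ∈ ent D T a, x.1 ∉ S) ∧ ∃ t : ℕ → K, (∀ a ∈ S, t a ≠ 0) ∧ Cj S₀ u (Pv S₀ S t)

variable (T) (fin) in
/-- All involutions of the state are conjugate to accepted products. -/
def Good (x : List ℕ × ℕ) : Prop :=
  Inv (D := D) T x.1 x.2 → ∀ t : ℕ → K, (∀ a ∈ x.1, t a ≠ 0) → ∀ v ∈ HR S₀ x.2,
    Pv S₀ x.1 t * v * (Pv S₀ x.1 t * v) = 1 → Concl T fin S₀ (Pv S₀ x.1 t * v)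

theorem jump_step {jobs : List (List ℕ × ℕ)} {lv : List ℕ} {bound : ℕ} (hT : okTab D T = true) {S : List ℕ} {R c : ℕ}
    (hI : Inv (D := D) T S R) (h : okJump D C jobs lv bound S R c = true)
    (hg : ∀ j < bound, Inv (D := D) T (jobs.getD j ([], 0)).1 (jobs.getD j ([], 0)).2 ∧
      Good (K := K) T fin S₀ (jobs.getD j ([], 0)) ∧ okLv D C (jobs.getD j ([], 0)).2 (lv.getD j 0) = true) :
    Good (K := K) T fin S₀ (S, R) := by
  classical
  intro _ t ht v hv h2
  simp only [okJump, Bool.and_eq_true, decide_eq_true_eq, List.all_eq_true, List.contains_eq_mem, Bool.or_eq_true,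
    Bool.not_eq_true'] at h
  obtain ⟨⟨⟨⟨⟨⟨hj, hR⟩, hw'⟩, hcn⟩, hl⟩, h1⟩, h1'⟩ := h
  set w := digs (D.rank + 1) 80 (c / 1024)
  obtain ⟨hIj, hgood, hlv⟩ := hg _ hj
  have hw : ∀ i ∈ w, i < D.rank := fun i hi => (hw' i hi).1
  simp only [okLv, List.all_eq_true, List.mem_range, Bool.or_eq_true, Bool.not_eq_true', decide_eq_false_iff_not] at hlv
  have hstab : ∀ (w' : List ℕ), (∀ i ∈ w', i < D.rank ∧ i < lv.getD (c / 4 % 256) 0) → ∀ r, R.testBit r = true →
      R.testBit (C.wL w' r) = true := by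
    intro w'
    induction w' with
    | nil => intro _ r hr; simpa using hr
    | cons i w' ihw =>
      intro hw'' r hr
      have h1 := ihw (fun k hk => hw'' k (List.mem_cons_of_mem _ hk)) r hr
      obtain ⟨a1, a2⟩ := hw'' i List.mem_cons_self
      have h2 := ((hlv i a1).resolve_left (not_not_intro a2) _ (mem_posL (hI.posR _ h1))).resolve_left
      rw [← hR] at h2
      exact h2 (by simp [h1])
  set tg := jobs.getD (c / 4 % 256) ([], 0)
  let L : List (Fin D.rank) := w.pmap (fun i hi => ⟨i, hi⟩) hw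
  have hL : L.map Fin.val = w := by simp [L, List.map_pmap]
  have conj : ∀ {s : ℕ}, s < D.nroots → ∀ u : K, S₀.nL K L * S₀.ok.xG s u * (S₀.nL K L)⁻¹ =
      S₀.ok.xG (C.wL w s) ((C.sgnL w s : K) * u) := fun hs u => by rw [← hL]; exact S₀.nL_conj L hs u
  have hg' : S₀.nL K L ∈ D.group K := by
    refine list_prod_mem fun g hg => ?_
    obtain ⟨i, -, rfl⟩ := List.mem_map.1 hg
    exact S₀.ok.nG_mem_group _ _
  have hcc : ∀ s ∈ S, (C.sgnL w s : K) ≠ 0 := by
    intro s hs h0
    have e := conj (hI.posS s hs).2 (1 : K)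
    rw [h0, zero_mul, S₀.xG_zero, mul_inv_eq_one] at e
    have e2 : S₀.ok.xG s (1 : K) = 1 := by simpa using e
    exact one_ne_zero (S₀.xG_inf_Ugen (hI.posS s hs).2 (hI.posS s hs).1 (by rw [e2]; exact one_mem _) : (1 : K) = 0)
  have hnd' : (S.map fun s => C.wL w s).Nodup := by
    refine List.Nodup.map_on (fun a ha b hb e => ?_) hI.nodup
    rw [← hL, ← S₀.wpL_val L ⟨a, (hI.posS a ha).2⟩, ← S₀.wpL_val L ⟨b, (hI.posS b hb).2⟩] at e
    exact congrArg Fin.val ((S₀.wpL L).injective (Fin.ext e))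
  have hperm : (S.map fun s => C.wL w s).Perm tg.1 :=
    (List.perm_ext_iff_of_nodup hnd' hcn).2 fun a => ⟨fun ha => h1 a ha, fun ha => h1' a ha⟩
  let t' : ℕ → K := fun x =>
    if hx : x < D.nroots then (C.sgnL w ((S₀.wpL L).symm ⟨x, hx⟩).val : K) * t ((S₀.wpL L).symm ⟨x, hx⟩).val else 1
  have ht' : ∀ s ∈ S, t' (C.wL w s) = (C.sgnL w s : K) * t s := by
    intro s hs
    have e : (⟨C.wL w s, by rw [← hL]; exact S₀.wL_lt L (hI.posS s hs).2⟩ : Fin D.nroots) =
        S₀.wpL L ⟨s, (hI.posS s hs).2⟩ := Fin.ext (by simp only [S₀.wpL_val, hL])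
    simp only [t']
    rw [dif_pos (by rw [← hL]; exact S₀.wL_lt L (hI.posS s hs).2), e, Equiv.symm_apply_apply]
  have himg : ∀ Q : List ℕ, (∀ s ∈ Q, s ∈ S) → S₀.nL K L * Pv S₀ Q t * (S₀.nL K L)⁻¹ =
      Pv S₀ (Q.map fun s => C.wL w s) t' := by
    intro Q
    induction Q with
    | nil => intro _; simp [Pv]
    | cons a Q ih =>
      intro hQ
      simp only [Pv, List.map_cons, List.prod_cons] at ih ⊢
      rw [← ih fun s hs => hQ s (List.mem_cons_of_mem _ hs), ht' a (hQ a List.mem_cons_self),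
        ← conj (hI.posS a (hQ a List.mem_cons_self)).2]
      group
  have hvR : S₀.nL K L * v * (S₀.nL K L)⁻¹ ∈ HR S₀ R := by
    have hle : HR S₀ R ≤ (HR S₀ R).comap (MulAut.conj (S₀.nL K L)).toMonoidHom := by
      refine (Subgroup.closure_le _).2 ?_
      rintro y ⟨r, hr, u, rfl⟩
      show S₀.nL K L * S₀.ok.xG r u * (S₀.nL K L)⁻¹ ∈ HR S₀ R
      rw [conj (hI.posR r hr).2]
      exact xG_mem_HR S₀ (hstab w hw' r hr) _
    exact hle hv
  have hprod : Pv S₀ (S.map fun s => C.wL w s) t' = Pv S₀ tg.1 t' := by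
    refine (hperm.map fun r => S₀.ok.xG r (t' r)).prod_eq' ?_
    rw [List.map_map]
    refine List.pairwise_of_forall_mem_list fun x hx y hy => ?_
    obtain ⟨a, ha, rfl⟩ := List.mem_map.1 hx
    obtain ⟨b, hb, rfl⟩ := List.mem_map.1 hy
    simp only [Function.comp_apply]
    rw [ht' a ha, ht' b hb, ← conj (hI.posS a ha).2, ← conj (hI.posS b hb).2]
    exact (set_commute S₀ hT hI.posS hI.comm ha hb (t a) (t b)).map (MulAut.conj (S₀.nL K L)).toMonoidHom
  have hcj : Cj S₀ (Pv S₀ S t * v) (Pv S₀ tg.1 t' * (S₀.nL K L * v * (S₀.nL K L)⁻¹)) := by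
    refine ⟨S₀.nL K L, hg', ?_⟩
    rw [← hprod, ← himg S fun _ h => h]
    group
  obtain ⟨S', code, f1, f2, f3, f4, t'', f5, f6⟩ := hgood hIj t' (fun a ha => by
    obtain ⟨s, hs, rfl⟩ := List.mem_map.1 (hperm.symm.subset ha)
    rw [ht' s hs]; exact mul_ne_zero (hcc s hs) (ht s hs))
    _ (hR ▸ hvR) (hcj.sq S₀ h2)
  exact ⟨S', code, f1, f2, f3, f4, t'', f5, hcj.trans S₀ f6⟩

theorem sound2 (hT : okTab D T = true) {jobs : List (List ℕ × ℕ)} {lv : List ℕ} {bound : ℕ}
    (hg : ∀ j < bound, Inv (D := D) T (jobs.getD j ([], 0)).1 (jobs.getD j ([], 0)).2 ∧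
      Good (K := K) T fin S₀ (jobs.getD j ([], 0)) ∧ okLv D C (jobs.getD j ([], 0)).2 (lv.getD j 0) = true) :
    ∀ (L : List ℕ) (st : List (List ℕ × ℕ)), run2 D T C fin jobs lv bound st L = some [] →
      ∀ x ∈ st, Good (K := K) T fin S₀ x := by
  intro L
  induction L with
  | nil => intro st h x hx; simp [run2] at h; simp [h] at hx
  | cons c L ih =>
    rintro (_ | ⟨⟨S, R⟩, st⟩) h x hx
    · simp at hx
    rw [run2] at h
    obtain ⟨p, hp, h'⟩ := Option.bind_eq_some_iff.1 h
    have hG := ih _ h'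
    rcases List.mem_cons.1 hx with rfl | hx
    swap
    · exact hG x (List.mem_append_right _ hx)
    intro hI t ht v hv h2
    simp only at hI ht hv h2 ⊢
    rw [step2] at hp
    dsimp only at hp
    by_cases hR : R = 0
    · subst hR
      simp only [beq_self_eq_true, if_true] at hp
      split_ifs at hp with hf
      have hv1 : v = 1 := by
        have : HR (K := K) S₀ 0 ≤ ⊥ := (Subgroup.closure_le _).2 fun g ⟨r, hr, _⟩ => by simp at hr
        exact Subgroup.mem_bot.1 (this hv)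
      exact ⟨S, c, hf, hI.nodup, hI.posS, hI.comm, t, ht, by rw [hv1, mul_one]; exact Cj.refl S₀ _⟩
    rw [if_neg (by simpa using hR)] at hp
    by_cases h3 : c % 4 = 3
    · rw [if_pos (by simpa using h3)] at hp
      split_ifs at hp with hj
      exact jump_step S₀ hT hI hj hg hI t ht v hv h2
    rw [if_neg (by simpa using h3)] at hp
    by_cases hrem : okRem D T S R (R ^^^ 2 ^ (c / 4 % 256)) (c / 4 % 256) = true
    swap
    · rw [if_neg hrem] at hp; simp at hp
    rw [if_pos hrem] at hp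
    obtain ⟨hd, hb, hI', hdc⟩ := rem_spec hT hI hrem
    split_ifs at hp with k1 k2 k3 k4 k5
    all_goals
      obtain rfl := Option.some.inj hp
    · obtain ⟨v', hv', hc'⟩ := kill_step S₀ hT hI hrem k2 ht hv
      obtain ⟨S', code, f1, f2, f3, f4, t', f5, f6⟩ :=
        hG _ (List.mem_append_left _ List.mem_cons_self) hI' t ht v' hv' (hc'.sq S₀ h2)
      exact ⟨S', code, f1, f2, f3, f4, t', f5, hc'.trans S₀ f6⟩
    · exact hG _ (List.mem_append_left _ List.mem_cons_self) hI' t ht v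
        (force2_step S₀ hT hI hrem k4 ht hv h2) h2
    · set d := c / 4 % 256
      obtain ⟨a, v₀, hv₀, rfl⟩ := split S₀ hT hd (hI.posR d hd) hb hI'.posR hdc hv
      rcases eq_or_ne a 0 with rfl | ha
      · rw [S₀.xG_zero, one_mul] at h2 ⊢
        exact hG (S, R ^^^ 2 ^ d) (by simp) hI' t ht v₀ hv₀ h2
      simp only [okBranch, Bool.and_eq_true, Bool.not_eq_true', List.all_eq_true, List.contains_eq_mem,
        decide_eq_false_iff_not, bne_iff_ne] at k5
      obtain ⟨⟨hdS, hdc'⟩, hSd⟩ := k5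
      have hI'' : Inv (D := D) T (d :: S) (R ^^^ 2 ^ d) := by
        refine ⟨?_, hI'.posR, List.nodup_cons.2 ⟨hdS, hI.nodup⟩, ?_, ?_⟩
        · intro b hb'
          rcases List.mem_cons.1 hb' with rfl | hb'
          exacts [hI.posR _ hd, hI.posS b hb']
        · intro b hb' x hx hx'
          rcases List.mem_cons.1 hb' with rfl | hb' <;> rcases List.mem_cons.1 hx' with hxd | hxS
          · exact (ent_spec hT (hI.posR _ hd) hx).2.2.1 hxd
          · exact hdc' x hx hxS
          · exact hSd b hb' x hx hxd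
          · exact hI.comm b hb' x hx hxS
        · intro b hb' x hx hx'
          rcases hb' with hb' | hb'
          · rcases List.mem_cons.1 hb' with rfl | hb'
            exacts [hdc x hx hx', hI'.closed b (Or.inl hb') x hx hx']
          · exact hI'.closed b (Or.inr hb') x hx hx'
      set t' := Function.update t d a
      have hS' : Pv S₀ S t' = Pv S₀ S t := by
        simp only [Pv]
        refine congrArg List.prod (List.map_congr_left fun r hr => ?_)
        simp only [t']
        rw [Function.update_of_ne (fun e : r = d => hdS (e ▸ hr))]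
      have hcomm : Commute (S₀.ok.xG d a) (Pv S₀ S t) := Commute.list_prod_right _ _ fun y hy => by
        obtain ⟨b, hb', rfl⟩ := List.mem_map.1 hy
        have e := cn S₀ hT (hI.posS b hb') (hI.posR _ hd) (t b) a
        rw [List.filter_eq_nil_iff.2 (fun x hx => by simpa using hSd b hb' x hx), List.map_nil, List.prod_nil,
          mul_one, mul_assoc, inv_mul_eq_iff_eq_mul] at e
        exact e
      have hPv : Pv S₀ (d :: S) t' * v₀ = Pv S₀ S t * (S₀.ok.xG d a * v₀) := by
        simp only [Pv, List.map_cons, List.prod_cons, t', Function.update_self] at hS' hcomm ⊢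
        rw [hS', ← mul_assoc, hcomm.eq]
      rw [← hPv] at h2 ⊢
      exact hG (d :: S, R ^^^ 2 ^ d) (by simp) hI'' t' (fun b hb' => by
        rcases List.mem_cons.1 hb' with rfl | hb'
        · simpa [t'] using ha
        · simp only [t']; rw [Function.update_of_ne (fun e : b = d => hdS (e ▸ hb'))]; exact ht b hb') v₀ hv₀ h2

omit [Fintype K] in
theorem inv_of_okState {S : List ℕ} {R : ℕ} (h : okState D T S R = true) : Inv (D := D) T S R := by
  simp only [okState, Bool.and_eq_true, decide_eq_true_eq, List.all_eq_true, Bool.not_eq_true',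
    List.contains_eq_mem, Bool.or_eq_true, decide_eq_false_iff_not, Bool.or_eq_false_iff] at h
  obtain ⟨⟨⟨hR, hnd⟩, hS⟩, hcl⟩ := h
  have posR : ∀ r, R.testBit r = true → Pos (D := D) r := fun r hr => by
    rw [← hR, Nat.testBit_and, Bool.and_eq_true] at hr
    exact R0_testBit r hr.2
  refine ⟨fun a ha => (hS a ha).1, posR, hnd, fun a ha => (hS a ha).2, fun a ha x hx hx1 => ?_⟩
  have hp : Pos (D := D) a := ha.elim (fun h => (hS a h).1) (posR a)
  rcases hcl a (mem_posL hp) with ⟨h1, h2⟩ | h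
  · rcases ha with h' | h'
    · exact absurd h' h1
    · simp [h'] at h2
  · exact (h x hx).resolve_left (by simp [hx1])

/-- An involution of the positive unipotent group reduces through the stages. -/
theorem reduce2 (hT : okTab D T = true) {jobs : List (List ℕ × ℕ)} {trees : List (List ℕ)} {lv : List ℕ} {top : ℕ}
    (hjobs : ∀ i < top + 1, okJob D T C fin jobs lv i (trees.getD i []) = true)
    (htop : jobs.getD top ([], 0) = ([], R0 D)) {u : GL D.Idx K} (hu : u ∈ D.posUnipotent K) (h2 : u * u = 1) :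
    Concl T fin S₀ u := by
  have all : ∀ i < top + 1, Inv (D := D) T (jobs.getD i ([], 0)).1 (jobs.getD i ([], 0)).2 ∧
      Good (K := K) T fin S₀ (jobs.getD i ([], 0)) ∧ okLv D C (jobs.getD i ([], 0)).2 (lv.getD i 0) = true := by
    intro i
    induction i using Nat.strong_induction_on with
    | _ i ih =>
      intro hi
      have h := hjobs i hi
      simp only [okJob, Bool.and_eq_true, decide_eq_true_eq] at h
      exact ⟨inv_of_okState h.1.1, sound2 S₀ hT (fun j hj => ih j hj (by omega)) _ _ h.2 _ (by simp), h.1.2⟩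
  obtain ⟨hI, hG, -⟩ := all top (Nat.lt_succ_self _)
  rw [htop] at hI hG
  have huR : u ∈ HR S₀ (R0 D) := by
    rw [S₀.posUnipotent_eq] at hu
    have hle : S₀.Ugen K (D.nroots / 2) ≤ HR S₀ (R0 D) := (Subgroup.closure_le _).2 fun g ⟨r, s, a, b, e⟩ =>
      e ▸ xG_mem_HR S₀ (R0_pos ⟨a, b⟩) s
    exact hle hu
  simpa [Pv] using hG hI (fun _ => 1) (by simp) u huR (by simpa [Pv] using h2)

end Sound

end Cfsg.Lib.Chev.InvElim
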