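import Cfsg.Agent.Chev.InvElim.Stage
import Cfsg.Agent.Chev.InvElim.Final

/-! The classes of involutions from a staged case tree. -/

set_option autoImplicit false
set_option linter.unusedSectionVars false

open Cfsg.Lie

namespace Cfsg.Lib.Chev.InvElim

variable {D : ChevalleyDatum} {T : Tab} {C : Cert} {K : Type*} [Field K] [Fintype K] [CharP K 2]

/-- Every involution of the group is conjugate to one of the representatives. -/
theorem classify2 (S₀ : Struct D C) (hT : okTab D T = true) (hN : okNeg D = true) {X : Cl D} (hX : okCl D T C X = true)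
    {jobs : List (List ℕ × ℕ)}
    {trees : List (List ℕ)} {lv : List ℕ} {top : ℕ}
    (hjobs : ∀ i < top + 1, okJob D T C (fin D C X.canon) jobs lv i (trees.getD i []) = true)
    (htop : jobs.getD top ([], 0) = ([], R0 D)) {g : GL D.Idx K} (hg : g ∈ D.group K)
    (h2 : orderOf g = 2) : ∃ j < X.canon.length, j ≠ 0 ∧ X.red.getD j none = none ∧
      Cj S₀ g (wK S₀ (X.canon.getD j [])) := by
  classical
  haveI : Fact (Nat.Prime 2) := ⟨Nat.prime_two⟩
  obtain ⟨P, hP⟩ := Cfsg.Lib.Known.ChevAut.exists_sylow_U (F := K) 2 S₀ hN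
  set g' : ↥(D.group K) := ⟨g, hg⟩
  have hg' : orderOf g' = 2 := (Subgroup.orderOf_coe g').symm.trans h2
  obtain ⟨Q, hQ⟩ := (show IsPGroup 2 (Subgroup.zpowers g') from
    IsPGroup.of_card (n := 1) (by rw [Nat.card_zpowers, hg', pow_one])).exists_le_sylow
  obtain ⟨c, rfl⟩ := MulAction.exists_smul_eq ↥(D.group K) P Q
  obtain ⟨u, huP, hue⟩ := hQ (Subgroup.mem_zpowers g')
  have huU : (u : GL D.Idx K) ∈ D.posUnipotent K := by
    have : u ∈ (P : Subgroup ↥(D.group K)) := huP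
    rw [hP] at this
    exact Subgroup.mem_subgroupOf.1 this
  have e : (c : GL D.Idx K) * u * (c : GL D.Idx K)⁻¹ = g := congrArg Subtype.val hue
  have hc : Cj S₀ g u := Cj.symm S₀ ⟨c, c.2, e⟩
  have hg2 : g * g = 1 := by
    have := pow_orderOf_eq_one g
    rwa [h2, sq] at this
  obtain ⟨S, code, hf, hnd, hpos, hcomm, t, ht, h3⟩ := reduce2 S₀ hT hjobs htop huU (hc.sq S₀ hg2)
  obtain ⟨hl, t', ht', h4⟩ := to_canon S₀ hT hnd hpos hcomm hf ht
  obtain ⟨j, hj, hjn, h5⟩ := resolve S₀ hT hX _ hl t' ht'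
  have h6 := hc.trans S₀ (h3.trans S₀ (h4.trans S₀ h5))
  refine ⟨j, hj, fun h0 => ?_, hjn, h6⟩
  simp only [okCl, Bool.and_eq_true, decide_eq_true_eq] at hX
  rw [h0, hX.1.2, wK_nil] at h6
  obtain ⟨a, -, ha⟩ := h6
  have : g = 1 := by
    calc g = a⁻¹ * (a * g * a⁻¹) * a := by group
      _ = 1 := by rw [ha]; group
  rw [this, orderOf_one] at h2
  omega

/-- The listed products represent the classes of involutions. -/
theorem classes2 (S₀ : Struct D C) (hT : okTab D T = true) (hN : okNeg D = true) {X : Cl D} (hX : okCl D T C X = true) {jobs : List (List ℕ × ℕ)}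
    {trees : List (List ℕ)} {lv : List ℕ} {top : ℕ}
    (hjobs : ∀ i < top + 1, okJob D T C (fin D C X.canon) jobs lv i (trees.getD i []) = true)
    (htop : jobs.getD top ([], 0) = ([], R0 D)) (reps : List (List ℕ)) (hset : ∀ S ∈ reps, okSet D T S = true)
    (hcov : ∀ j < X.canon.length, j ≠ 0 → X.red.getD j none = none → X.canon.getD j [] ∈ reps)
    (f : GL D.Idx K → ℕ) (hf : ∀ u w, Cj S₀ u w → f u = f w) (h1 : f 1 = 0)
    (hp : ∀ S ∈ reps, 0 < f (wK S₀ S))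
    (hd : ∀ S ∈ reps, ∀ S' ∈ reps, f (wK S₀ S) = f (wK S₀ S') → S = S') :
    (∀ y : GL D.Idx K, (y : Matrix D.Idx D.Idx K) ∈ reps.map (fun S => (wK (K := K) S₀ S).1) →
      y ∈ D.group K ∧ orderOf y = 2) ∧
    (∀ g ∈ D.group K, orderOf g = 2 → ∃ y ∈ D.group K,
      (y : Matrix D.Idx D.Idx K) ∈ reps.map (fun S => (wK (K := K) S₀ S).1) ∧ ∃ h ∈ D.group K, h * g * h⁻¹ = y) ∧
    (∀ y₁ ∈ D.group K, ∀ y₂ ∈ D.group K,
      ((y₁ : GL D.Idx K) : Matrix D.Idx D.Idx K) ∈ reps.map (fun S => (wK (K := K) S₀ S).1) →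
      ((y₂ : GL D.Idx K) : Matrix D.Idx D.Idx K) ∈ reps.map (fun S => (wK (K := K) S₀ S).1) →
      (∃ h ∈ D.group K, h * y₁ * h⁻¹ = y₂) → (y₁ : Matrix D.Idx D.Idx K) = y₂) := by
  refine ⟨fun y hy => ?_, fun g hg h2 => ?_, fun y₁ _ y₂ _ h₁ h₂ hc => ?_⟩
  · obtain ⟨S, hS, e⟩ := List.mem_map.1 hy
    obtain rfl : wK S₀ S = y := Units.ext e
    exact invol S₀ hT (hset S hS) h1 (hp S hS)
  · obtain ⟨j, hj, hj0, hjn, hc⟩ := classify2 S₀ hT hN hX hjobs htop hg h2
    exact ⟨_, wK_mem S₀ _, List.mem_map_of_mem (hcov j hj hj0 hjn), hc⟩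
  · obtain ⟨S, hS, e⟩ := List.mem_map.1 h₁
    obtain rfl : wK S₀ S = y₁ := Units.ext e
    obtain ⟨S', hS', e'⟩ := List.mem_map.1 h₂
    obtain rfl : wK S₀ S' = y₂ := Units.ext e'
    rw [hd S hS S' hS' (hf _ _ hc)]

end Cfsg.Lib.Chev.InvElim
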