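import Cfsg.Agent.Chev.InvElim.TwStep
import Cfsg.Agent.Chev.InvElim.Final

/-! From the certified fixed elimination to the classes of involutions of the twisted group. -/

set_option autoImplicit false
set_option linter.unusedSectionVars false
set_option maxHeartbeats 1000000

open Cfsg.Lie

namespace Cfsg.Lib.Chev.InvElim

variable (D : ChevalleyDatum) (Tb : Tab) (W : TwDat)

/-- The word of orbits of a code. -/
noncomputable def wordO (code : ℕ) : List ℕ := digs (W.nO + 1) 80 (code / 16)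

/-- The code carries the set onto a canonical set by a word of orbits. -/
noncomputable def fin3 (C : Cert) (canon : List (List ℕ)) (S : List ℕ) (code : ℕ) : Bool :=
  let img := S.map fun s => C.wL (W.flat (wordO W code)) s
  let c := canon.getD (code % 16) []
  decide (code % 16 < canon.length) && (wordO W code).all (fun a => decide (a < W.nO)) &&
    decide (c.Nodup) && decide (S.length = c.length) && img.all (fun r => c.contains r) &&
    c.all fun r => img.contains r

/-- Cocharacters dual to the roots compatible with the automorphism. -/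
noncomputable def okY3 (S : List ℕ) (Y : List (List ℤ)) : Bool :=
  okY D S Y && stS D W S && (List.range S.length).all fun j =>
    let j' := S.idxOf (rh D W (S.getD j 0))
    decide (((List.range D.rank).map fun i => (Y.getD j' []).getD i 0 * D.cartan i (S.getD j' 0)).sum =
        ((List.range D.rank).map fun i => (Y.getD j []).getD i 0 * D.cartan i (S.getD j 0)).sum) &&
      (List.range D.rank).all fun i => decide ((Y.getD j' []).getD (W.piAt i) 0 = (Y.getD j []).getD i 0)

/-- The data of a classification in the fixed group. -/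
structure Cl3 where
  /-- canonical sets -/
  canon : List (List ℕ)
  /-- their cocharacters -/
  ys : List (List (List ℤ))
  /-- for each canonical set a fixed conjugation onto a split set with a case tree ending at smaller indices, or
  nothing for a representative -/
  red : List (Option (List (List ℕ) × List ℕ × List ℕ × List ℕ))

/-- The mask of a list. -/
def maskL (L : List ℕ) : ℕ := L.foldr (fun r m => 2 ^ r ||| m) 0

/-- The data are valid. -/
noncomputable def okCl3 (C : Cert) (X : Cl3) : Bool :=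
  decide (0 < X.canon.length ∧ X.canon.getD 0 [] = []) &&
  (List.range X.canon.length).all fun k =>
    okY3 D W (X.canon.getD k []) (X.ys.getD k []) && okSet D Tb (X.canon.getD k []) &&
    match X.red.getD k none with
    | none => true
    | some (E, T, A, L) => okEdge D Tb (X.canon.getD k []) E.flatten (T ++ A) && stS D W T && stS D W A &&
        stab D W (maskL A) && E.all (fun u => okSet D Tb u && stS D W u) &&
        decide (run3 D Tb W (fun S code => fin3 W C X.canon S code && decide (code % 16 < k)) [(T, maskL A)] L =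
          some [])

variable {D Tb W} {D' : ChevalleyDatum} {C C' : Cert} {H : List (List ℤ)} {K : Type*} [Field K] [Fintype K]
  [CharP K 2] (X : Tw D D' C C' W H K) (hT : okTab D Tb = true) (hW : okTw2 D W = true)

theorem maskL_testBit : ∀ (L : List ℕ) (r : ℕ), (maskL L).testBit r = true ↔ r ∈ L
  | [], r => by simp [maskL]
  | a :: L, r => by
    have ih := maskL_testBit L r
    simp only [maskL, List.foldr_cons, Nat.testBit_or, Bool.or_eq_true, Nat.testBit_two_pow, decide_eq_true_eq,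
      List.mem_cons] at ih ⊢
    rw [ih]
    tauto

include hT in
theorem Pv_inj {S : List ℕ} (hnd : S.Nodup) (hpos : ∀ a ∈ S, hlf D ≤ a ∧ a < D.nroots)
    (hcomm : ∀ a ∈ S, ∀ x ∈ ent D Tb a, x.1 ∉ S) {t t' : ℕ → K} (h : Pv X.S S t = Pv X.S S t') {a : ℕ}
    (ha : a ∈ S) : t a = t' a := by
  have e : ∀ u : ℕ → K, Pv X.S S u = X.S.ok.xG a (u a) * Pv X.S (S.erase a) u := fun u => by
    show _ = Pv X.S (a :: S.erase a) u
    refine ((List.perm_cons_erase ha).map fun r => X.S.ok.xG r (u r)).prod_eq' ?_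
    refine List.pairwise_of_forall_mem_list fun x hx y hy => ?_
    obtain ⟨b, hb, rfl⟩ := List.mem_map.1 hx
    obtain ⟨c, hc, rfl⟩ := List.mem_map.1 hy
    exact set_commute X.S hT hpos hcomm hb hc _ _
  have hm : ∀ u : ℕ → K, Pv X.S (S.erase a) u ∈ HR X.S (maskL (S.erase a)) := fun u =>
    list_prod_mem fun z hz => by
      obtain ⟨b, hb, rfl⟩ := List.mem_map.1 hz
      exact xG_mem_HR X.S ((maskL_testBit _ _).2 hb) _
  rw [e, e] at h
  have h1 : X.S.ok.xG a (t' a + t a) ∈ HR X.S (maskL (S.erase a)) := by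
    rw [← X.S.ok.xG_mul]
    have e1 : X.S.ok.xG a (t' a) * X.S.ok.xG a (t a) =
        X.S.ok.xG a (t' a) * (X.S.ok.xG a (t a) * Pv X.S (S.erase a) t) * (Pv X.S (S.erase a) t)⁻¹ := by group
    rw [e1, h, ← mul_assoc (X.S.ok.xG a (t' a)), xG_self X.S, one_mul]
    exact mul_mem (hm t') (inv_mem (hm t))
  refine (CharTwo.add_eq_zero.1 (HR_inj X.S hT (hpos a ha) _ _ _ (Nat.lt_succ_self _) ?_ ?_ ?_ h1)).symm
  · exact fun r hr => hpos r (List.mem_of_mem_erase ((maskL_testBit _ _).1 hr))
  · exact fun b hb x hx hx1 => absurd (List.mem_of_mem_erase ((maskL_testBit _ _).1 hx1))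
      (hcomm b (List.mem_of_mem_erase ((maskL_testBit _ _).1 hb)) x hx)
  · exact Bool.eq_false_iff.2 fun h => List.Nodup.not_mem_erase hnd ((maskL_testBit _ _).1 h)

include hT hW in
theorem to_canon3 {canon : List (List ℕ)} {S : List ℕ} {code : ℕ} (hst : stS D W S = true) (hnd : S.Nodup)
    (hpos : ∀ a ∈ S, hlf D ≤ a ∧ a < D.nroots) (hcomm : ∀ a ∈ S, ∀ x ∈ ent D Tb a, x.1 ∉ S)
    (h : fin3 W C canon S code = true) (hc1 : okSet D Tb (canon.getD (code % 16) []) = true)
    (hc2 : stS D W (canon.getD (code % 16) []) = true) {t : ℕ → K} (ht : ∀ a ∈ S, t a ≠ 0) (he : Eqv X S t) :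
    code % 16 < canon.length ∧ ∃ t' : ℕ → K, (∀ a ∈ canon.getD (code % 16) [], t' a ≠ 0) ∧
      Eqv X (canon.getD (code % 16) []) t' ∧ Cj1 X (Pv X.S S t) (Pv X.S (canon.getD (code % 16) []) t') := by
  classical
  simp only [fin3, Bool.and_eq_true, decide_eq_true_eq, List.all_eq_true, List.contains_eq_mem] at h
  obtain ⟨⟨⟨⟨⟨hlen, hw⟩, hcn⟩, hl⟩, h1⟩, h2⟩ := h
  obtain ⟨-, cpos, ccomm⟩ := okSet_spec X.S hc1
  set c := canon.getD (code % 16) []
  refine ⟨hlen, ?_⟩
  let Kw : List (Fin W.nO) := (wordO W code).pmap (fun i hi => ⟨i, hi⟩) hw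
  set L := X.flatW Kw
  have hL : L.map Fin.val = W.flat (wordO W code) := by
    rw [X.flatW_val]; simp [Kw, List.map_pmap]
  have hAct := X.S.act_nL (F := K) L
  have hnd' : (S.map fun s => C.wL (W.flat (wordO W code)) s).Nodup := by
    refine List.Nodup.map_on (fun a ha b hb e => ?_) hnd
    rw [← hL, ← X.S.wpL_val L ⟨a, (hpos a ha).2⟩, ← X.S.wpL_val L ⟨b, (hpos b hb).2⟩] at e
    exact congrArg Fin.val ((X.S.wpL L).injective (Fin.ext e))
  have hperm : (S.map fun s => C.wL (W.flat (wordO W code)) s).Perm c :=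
    (List.perm_ext_iff_of_nodup hnd' hcn).2 fun a => ⟨fun ha => h1 a ha, fun ha => h2 a ha⟩
  choose z cc hcc e using hAct
  let t' : ℕ → K := fun x => if hx : x < D.nroots then
    cc ((X.S.wpL L).symm ⟨x, hx⟩) * t ((X.S.wpL L).symm ⟨x, hx⟩).val else 1
  have hg : X.S.nL K L ∈ X.G1 := X.N1_le_G1 (X.nW_mem_N1 Kw)
  have one : ∀ s ∈ S, X.S.nL K L * X.S.ok.xG s (t s) * (X.S.nL K L)⁻¹ =
      X.S.ok.xG (C.wL (W.flat (wordO W code)) s) (t' (C.wL (W.flat (wordO W code)) s)) ∧
        t' (C.wL (W.flat (wordO W code)) s) ≠ 0 := by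
    intro s hs
    have hs' := (hpos s hs).2
    have e1 := (e ⟨s, hs'⟩ (t s)).1
    have e2 : (X.S.wpL L ⟨s, hs'⟩).val = C.wL (W.flat (wordO W code)) s := by rw [X.S.wpL_val, hL]
    have e3 : t' (C.wL (W.flat (wordO W code)) s) = cc ⟨s, hs'⟩ * t s := by
      simp only [t', ← e2, Fin.eta]
      rw [dif_pos (X.S.wpL L ⟨s, hs'⟩).isLt, Equiv.symm_apply_apply]
    refine ⟨?_, by rw [e3]; exact mul_ne_zero (hcc _) (ht s hs)⟩
    rw [e3, ← e2]
    exact e1
  have himg : ∀ P : List ℕ, (∀ s ∈ P, s ∈ S) → X.S.nL K L * Pv X.S P t * (X.S.nL K L)⁻¹ =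
      Pv X.S (P.map fun s => C.wL (W.flat (wordO W code)) s) t' := by
    intro P
    induction P with
    | nil => intro _; simp [Pv]
    | cons a P ih =>
      intro hP
      simp only [Pv, List.map_cons, List.prod_cons] at ih ⊢
      rw [← ih fun s hs => hP s (List.mem_cons_of_mem _ hs), ← (one a (hP a List.mem_cons_self)).1]
      group
  have hcj : Cj1 X (Pv X.S S t) (Pv X.S c t') := by
    refine ⟨X.S.nL K L, hg, ?_⟩
    rw [himg S fun _ h => h]
    refine (hperm.map fun r => X.S.ok.xG r (t' r)).prod_eq' ?_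
    rw [List.map_map]
    refine List.pairwise_of_forall_mem_list fun x hx y hy => ?_
    obtain ⟨a, ha, rfl⟩ := List.mem_map.1 hx
    obtain ⟨b, hb, rfl⟩ := List.mem_map.1 hy
    simp only [Function.comp_apply]
    rw [← (one a ha).1, ← (one b hb).1]
    exact (set_commute X.S hT hpos hcomm ha hb (t a) (t b)).map (MulAut.conj (X.S.nL K L)).toMonoidHom
  refine ⟨t', fun a ha => ?_, ?_, hcj⟩
  · obtain ⟨s, hs, rfl⟩ := List.mem_map.1 (hperm.symm.subset ha)
    exact (one s hs).2
  · have hfix := hcj.fixed X (sig_Pv X hT hW hst hnd hpos hcomm he)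
    let t'' : ℕ → K := fun x => X.f (t' (rh D W x))
    simp only [stS, List.all_eq_true, List.contains_eq_mem, decide_eq_true_eq] at hc2
    have e1 : X.sig (Pv X.S c t') = Pv X.S (c.map (rh D W)) t'' := by
      rw [Pv, map_list_prod, Pv, List.map_map, List.map_map]
      refine congrArg List.prod (List.map_congr_left fun a ha => ?_)
      simp only [Function.comp_apply, t'']
      rw [sig_x X hW (cpos a ha), (rh_spec X hW (cpos a ha)).1]
    have hnd2 : (c.map (rh D W)).Nodup := List.Nodup.map_on (fun a ha b hb e => by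
      rw [← (rh_spec X hW (cpos a ha)).1, e, (rh_spec X hW (cpos b hb)).1]) hcn
    have hperm2 : (c.map (rh D W)).Perm c := (List.perm_ext_iff_of_nodup hnd2 hcn).2 fun a =>
      ⟨fun ha => by obtain ⟨b, hb, rfl⟩ := List.mem_map.1 ha; exact hc2 b hb,
        fun ha => List.mem_map.2 ⟨_, hc2 a ha, (rh_spec X hW (cpos a ha)).1⟩⟩
    have e2 : Pv X.S (c.map (rh D W)) t'' = Pv X.S c t'' := by
      refine (hperm2.map fun r => X.S.ok.xG r (t'' r)).prod_eq' ?_
      refine List.pairwise_of_forall_mem_list fun x hx y hy => ?_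
      obtain ⟨a, ha, rfl⟩ := List.mem_map.1 hx
      obtain ⟨b, hb, rfl⟩ := List.mem_map.1 hy
      exact set_commute X.S hT cpos ccomm (hperm2.subset ha) (hperm2.subset hb) _ _
    rw [e1, e2] at hfix
    intro a ha
    have h3 := Pv_inj X hT hcn cpos ccomm hfix (hc2 a ha)
    simp only [t''] at h3
    rw [← h3, (rh_spec X hW (cpos a ha)).1]

include hW in
theorem scale3 {S : List ℕ} {Y : List (List ℤ)} (h : okY3 D W S Y = true)
    (hpos : ∀ a ∈ S, hlf D ≤ a ∧ a < D.nroots) {t : ℕ → K} (ht : ∀ a ∈ S, t a ≠ 0) (he : Eqv X S t) :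
    Cj1 X (Pv X.S S t) (wK X.S S) := by
  classical
  simp only [okY3, okY, stS, Bool.and_eq_true, decide_eq_true_eq, List.all_eq_true, List.mem_range,
    List.contains_eq_mem] at h
  obtain ⟨⟨⟨hnd, hY⟩, hst⟩, hY3⟩ := h
  set k := S.length
  let ev : Fin k → ℤ := fun j => ∑ i : Fin D.rank, (Y.getD j.val []).getD i.val 0 * D.cartan i.val (S.getD j.val 0)
  have hsum : ∀ j : Fin k, ev j =
      ((List.range D.rank).map fun i => (Y.getD j.val []).getD i 0 * D.cartan i (S.getD j.val 0)).sum := fun j =>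
    sum_fin_range D.rank fun i => (Y.getD j.val []).getD i 0 * D.cartan i (S.getD j.val 0)
  have hv : ∀ j l : Fin k, (∑ i : Fin D.rank, (Y.getD j.val []).getD i.val 0 * D.cartan i.val (S.getD l.val 0)) =
      if j = l then ev j else 0 := by
    intro j l
    by_cases hjl : j = l
    · subst hjl; simp [ev]
    · have := hY j.val j.isLt l.val l.isLt
      rw [if_neg (by simpa [Fin.ext_iff] using hjl), decide_eq_true_eq] at this
      rw [if_neg hjl]
      refine Eq.trans ?_ this
      exact sum_fin_range D.rank fun i => (Y.getD j.val []).getD i 0 * D.cartan i (S.getD l.val 0)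
  have hev : ∀ j, ev j = 1 ∨ ev j = 2 := by
    intro j
    have := hY j.val j.isLt j.val j.isLt
    simp only [beq_self_eq_true, if_true, decide_eq_true_eq] at this
    rwa [← hsum] at this
  have hroot : ∀ j : Fin k, ∃ lam : Kˣ, ((lam ^ ev j : Kˣ) : K) * t (S.getD j.val 0) = 1 := by
    intro j
    have hm : S.getD j.val 0 ∈ S := by
      rw [List.getD_eq_getElem _ _ j.isLt]; exact List.getElem_mem j.isLt
    have h0 := ht _ hm
    rcases hev j with e | e
    · exact ⟨(Units.mk0 _ h0)⁻¹, by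
        rw [e, zpow_one, Units.val_inv_eq_inv_val, Units.val_mk0, inv_mul_cancel₀ h0]⟩
    · obtain ⟨y, hy⟩ := FiniteField.isSquare_of_char_two (ringChar.eq K 2) (t (S.getD j.val 0))⁻¹
      have hy0 : y ≠ 0 := fun h => by rw [h, mul_zero] at hy; exact inv_ne_zero h0 hy
      refine ⟨Units.mk0 y hy0, ?_⟩
      rw [e, show (2 : ℤ) = ((2 : ℕ) : ℤ) from rfl, zpow_natCast, Units.val_pow_eq_pow_val, Units.val_mk0, sq, ← hy,
        inv_mul_cancel₀ h0]
  choose lam hlam using hroot
  have hmem : ∀ j : Fin k, S.getD j.val 0 ∈ S := fun j => by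
    rw [List.getD_eq_getElem _ _ j.isLt]; exact List.getElem_mem j.isLt
  let sg : Fin k → Fin k := fun j =>
    ⟨S.idxOf (rh D W (S.getD j.val 0)), List.idxOf_lt_length_of_mem (hst _ (hmem j))⟩
  have hsg : ∀ j, S.getD (sg j).val 0 = rh D W (S.getD j.val 0) := fun j => by
    rw [List.getD_eq_getElem _ _ (sg j).isLt]; exact List.getElem_idxOf _
  have hsg2 : ∀ j, sg (sg j) = j := fun j => by
    refine Fin.ext ?_
    show S.idxOf (rh D W (S.getD (sg j).val 0)) = j.val
    rw [hsg, (rh_spec X hW (hpos _ (hmem j))).1, List.getD_eq_getElem _ _ j.isLt]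
    exact hnd.idxOf_getElem j.val j.isLt
  have hev2 : ∀ j, ev (sg j) = ev j := fun j => by rw [hsum, hsum]; exact (hY3 j.val j.isLt).1
  have hlam2 : ∀ j, ((lam (sg j) : Kˣ) : K) = X.f (lam j : K) := fun j => by
    have h1 := hlam (sg j)
    rw [hsg, he _ (hmem j), hev2] at h1
    have h2 := congrArg X.f (hlam j)
    rw [map_mul, map_one] at h2
    have h3 : ((lam (sg j) ^ ev j : Kˣ) : K) = X.f ((lam j ^ ev j : Kˣ) : K) :=
      mul_right_cancel₀ (b := X.f (t (S.getD j.val 0))) (fun h0 => by rw [h0, mul_zero] at h1; exact zero_ne_one h1)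
        (h1.trans h2.symm)
    rcases hev j with e | e <;> simp only [e, Units.val_zpow_eq_zpow_val, map_zpow₀] at h3
    · simpa using h3
    · exact CharTwo.sq_injective (by simpa [zpow_ofNat] using h3)
  let c : Fin D.rank → Kˣ := fun i => ∏ j : Fin k, lam j ^ (Y.getD j.val []).getD i.val 0
  have hCT : c ∈ X.CT := by
    rw [X.mem_CT]
    intro i
    simp only [c, Units.coe_prod, map_prod]
    rw [← Equiv.prod_comp (Function.Involutive.toPerm sg hsg2)
      (fun j => ((lam j ^ (Y.getD j.val []).getD (X.piF i).val 0 : Kˣ) : K))]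
    refine Finset.prod_congr rfl fun j _ => ?_
    show X.f _ = ((lam (sg j) ^ (Y.getD (sg j).val []).getD (W.piAt i.val) 0 : Kˣ) : K)
    rw [show (Y.getD (sg j).val []).getD (W.piAt i.val) 0 = (Y.getD j.val []).getD i.val 0 from
      (hY3 j.val j.isLt).2 i.val i.isLt, Units.val_zpow_eq_zpow_val, Units.val_zpow_eq_zpow_val, map_zpow₀, hlam2]
  have hchr : ∀ l : Fin k, (∏ i, c i ^ D.cartan i.val (S.getD l.val 0)) = lam l ^ ev l := by
    intro l
    have hsum : ∀ (x : Kˣ) (f : Fin D.rank → ℤ), ∏ i, x ^ f i = x ^ ∑ i, f i := fun x f => by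
      have := map_prod (zpowersHom Kˣ x) (fun i => Multiplicative.ofAdd (f i)) Finset.univ
      simp only [← ofAdd_sum, zpowersHom_apply, toAdd_ofAdd] at this
      exact this.symm
    simp only [c, ← Finset.prod_zpow, ← zpow_mul]
    rw [Finset.prod_comm]
    simp only [hsum]
    rw [Finset.prod_eq_single_of_mem l (Finset.mem_univ l) (fun j _ hj => by rw [hv j l, if_neg hj, zpow_zero]),
      hv l l, if_pos rfl]
  refine ⟨Ok.tG D K c, X.T1_le_G1 ⟨c, hCT, rfl⟩, ?_⟩
  have one : ∀ s ∈ S, Ok.tG D K c * X.S.ok.xG s (t s) * (Ok.tG D K c)⁻¹ = X.S.ok.xG s 1 := by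
    intro s hs
    obtain ⟨l, hl, rfl⟩ := List.getElem_of_mem hs
    rw [X.S.tG_conj_xG (hpos _ (List.getElem_mem hl)).2]
    have e1 := hchr ⟨l, hl⟩
    have e2 := hlam ⟨l, hl⟩
    rw [List.getD_eq_getElem _ _ hl] at e1 e2
    rw [e1, e2]
  have : ∀ P : List ℕ, (∀ s ∈ P, s ∈ S) → Ok.tG D K c * Pv X.S P t * (Ok.tG D K c)⁻¹ = wK X.S P := by
    intro P
    induction P with
    | nil => intro _; simp [Pv, wK]
    | cons a P ih =>
      intro hP
      rw [wK_cons, ← one a (hP a List.mem_cons_self), ← ih fun s hs => hP s (List.mem_cons_of_mem _ hs)]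
      simp only [Pv, List.map_cons, List.prod_cons]
      group
  exact this S fun _ h => h

include hT hW in
theorem wK_units : ∀ E : List (List ℕ), (∀ u ∈ E, okSet D Tb u = true ∧ stS D W u = true) →
    X.sig (wK (K := K) X.S E.flatten) = wK X.S E.flatten ∧ wK (K := K) X.S E.flatten ∈ D.posUnipotent K
  | [], _ => by simp [wK_nil, one_mem]
  | u :: E, h => by
    obtain ⟨h1, h2⟩ := h u List.mem_cons_self
    obtain ⟨a, b, c⟩ := okSet_spec X.S h1
    obtain ⟨i1, i2⟩ := wK_units E fun v hv => h v (List.mem_cons_of_mem _ hv)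
    have e : X.sig (wK (K := K) X.S u) = wK X.S u := sig_Pv X hT hW h2 a b c (fun _ _ => (map_one X.f).symm)
    rw [List.flatten_cons, wK_append]
    refine ⟨by rw [map_mul, e, i1], mul_mem ?_ i2⟩
    refine list_prod_mem fun g hg => ?_
    obtain ⟨r, hr, rfl⟩ := List.mem_map.1 hg
    exact xG_mem_U X (b r hr) 1

include hT hW in
theorem resolve3 {Z : Cl3} (hZ : okCl3 D Tb W C Z = true) : ∀ k < Z.canon.length,
    ∀ t : ℕ → K, (∀ a ∈ Z.canon.getD k [], t a ≠ 0) → Eqv X (Z.canon.getD k []) t →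
      ∃ j < Z.canon.length, Z.red.getD j none = none ∧
        Cj1 X (Pv X.S (Z.canon.getD k []) t) (wK X.S (Z.canon.getD j [])) := by
  simp only [okCl3, Bool.and_eq_true, List.all_eq_true, List.mem_range, decide_eq_true_eq] at hZ
  intro k
  induction k using Nat.strong_induction_on with
  | _ k ih =>
    intro hk t ht he
    obtain ⟨⟨hy, hset⟩, hred⟩ := hZ.2 k hk
    obtain ⟨snd, spos, scomm⟩ := okSet_spec X.S hset
    have h1 := scale3 X hW hy spos ht he
    rcases hr : Z.red.getD k none with - | ⟨E, T, A, L⟩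
    · exact ⟨k, hk, hr, h1⟩
    rw [hr] at hred
    simp only [Bool.and_eq_true, decide_eq_true_eq, List.all_eq_true] at hred
    obtain ⟨⟨⟨⟨⟨hedge, hstT⟩, hstA⟩, hstab⟩, hE⟩, hrun⟩ := hred
    obtain ⟨hEs, hEU⟩ := wK_units (K := K) X hT hW E hE
    have hedge' := hedge
    simp only [okEdge, Bool.and_eq_true, List.all_eq_true, decide_eq_true_eq] at hedge'
    obtain ⟨⟨hs', hpos⟩, hnf⟩ := hedge'
    have e := wK_nfU (K := K) X.S hT (v := E.flatten.reverse ++ Z.canon.getD k [] ++ E.flatten) (w := T ++ A)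
      (fun a ha => hpos a (by simp only [List.mem_append, List.mem_reverse] at ha ⊢; tauto))
      (fun a ha => hpos a (List.mem_append_right _ ha)) hnf
    rw [wK_append, wK_append, wK_append] at e
    have hinv : wK (K := K) X.S E.flatten.reverse = (wK (K := K) X.S E.flatten)⁻¹ :=
      eq_inv_of_mul_eq_one_left (wK_reverse X.S E.flatten)
    obtain ⟨n1, n2, n3⟩ := okSet_spec X.S hs'
    obtain ⟨nT, nA, -⟩ := List.nodup_append.1 n1
    have hI : Inv (D := D) Tb T (maskL A) := ⟨fun a ha => n2 a (List.mem_append_left _ ha),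
      fun r hr => n2 r (List.mem_append_right _ ((maskL_testBit _ _).1 hr)), nT,
      fun a ha x hx hx1 => n3 a (List.mem_append_left _ ha) x hx (List.mem_append_left _ hx1),
      fun a ha x hx hx1 => absurd (List.mem_append_right _ ((maskL_testBit _ _).1 hx1))
        (n3 a (ha.elim (List.mem_append_left _) fun h => List.mem_append_right _ ((maskL_testBit _ _).1 h)) x hx)⟩
    have hv : wK (K := K) X.S A ∈ HR X.S (maskL A) := list_prod_mem fun z hz => by
      obtain ⟨b, hb, rfl⟩ := List.mem_map.1 hz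
      exact xG_mem_HR X.S ((maskL_testBit _ _).2 hb) _
    have hvs : X.sig (wK (K := K) X.S A) = wK X.S A := sig_Pv X hT hW hstA nA
      (fun a ha => n2 a (List.mem_append_right _ ha))
      (fun a ha x hx hx1 => n3 a (List.mem_append_right _ ha) x hx (List.mem_append_right _ hx1))
      (fun _ _ => (map_one X.f).symm)
    have hsq : wK (K := K) X.S T * wK X.S A * (wK X.S T * wK X.S A) = 1 := by
      rw [← wK_append]; exact wK_sq (K := K) X.S hT hs'
    obtain ⟨S, code, hf, f2, f3, f4, f5, t₁, f6, f7, f8⟩ := sound3 X hT hW L _ hrun (T, maskL A) (by simp) hI hstab hstT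
      (fun _ => 1) (fun _ _ => one_ne_zero) (fun _ _ => (map_one X.f).symm) _ hv hvs hsq
    simp only [Bool.and_eq_true, decide_eq_true_eq] at hf
    obtain ⟨hf, hlt'⟩ := hf
    have h2 : Cj1 X (Pv X.S (Z.canon.getD k []) t) (Pv X.S S t₁) := (h1.trans X
      ⟨(wK X.S E.flatten)⁻¹, inv_mem (sig_fixed_mem X hEU hEs), by rw [inv_inv, ← hinv, e]; rfl⟩).trans X f8
    obtain ⟨hsy, hst''⟩ := hZ.2 _ ((by
      simp only [fin3, Bool.and_eq_true, decide_eq_true_eq] at hf
      exact hf.1.1.1.1.1) : code % 16 < Z.canon.length) |>.1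
    simp only [okY3, Bool.and_eq_true] at hsy
    obtain ⟨hl, t', ht', he', h3⟩ := to_canon3 (K := K) X hT hW f2 f3 f4 f5 hf hst'' hsy.1.2 f6 f7
    obtain ⟨j, hj, hjn, h4⟩ := ih _ hlt' hl t' ht' he'
    exact ⟨j, hj, hjn, (h2.trans X h3).trans X h4⟩

include hT hW in
/-- Every involution of the fixed group is conjugate to one of the representatives. -/
theorem classify3 (P : Sylow 2 ↥X.G1)
    (hP : (P : Subgroup ↥X.G1) = (D.posUnipotent K ⊓ X.G1).subgroupOf X.G1) {Z : Cl3}
    (hZ : okCl3 D Tb W C Z = true) {L : List ℕ} (hL : okTree3 D Tb W (fin3 W C Z.canon) L = true)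
    {g : GL D.Idx K} (hg : g ∈ X.G1) (h2 : orderOf g = 2) :
    ∃ j < Z.canon.length, j ≠ 0 ∧ Z.red.getD j none = none ∧ Cj1 X g (wK X.S (Z.canon.getD j [])) := by
  classical
  haveI : Fact (Nat.Prime 2) := ⟨Nat.prime_two⟩
  set g' : ↥X.G1 := ⟨g, hg⟩
  have hg' : orderOf g' = 2 := (Subgroup.orderOf_coe g').symm.trans h2
  obtain ⟨Q, hQ⟩ := (show IsPGroup 2 (Subgroup.zpowers g') from
    IsPGroup.of_card (n := 1) (by rw [Nat.card_zpowers, hg', pow_one])).exists_le_sylow
  obtain ⟨c, rfl⟩ := MulAction.exists_smul_eq ↥X.G1 P Q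
  obtain ⟨u, huP, hue⟩ := hQ (Subgroup.mem_zpowers g')
  have huU : (u : GL D.Idx K) ∈ D.posUnipotent K ⊓ X.G1 := by
    have : u ∈ (P : Subgroup ↥X.G1) := huP
    rw [hP] at this
    exact Subgroup.mem_subgroupOf.1 this
  rw [X.U_inf_G1] at huU
  have e : (c : GL D.Idx K) * u * (c : GL D.Idx K)⁻¹ = g := congrArg Subtype.val hue
  have hc : Cj1 X g u := Cj1.symm X ⟨c, c.2, e⟩
  have hg2 : g * g = 1 := by
    have := pow_orderOf_eq_one g
    rwa [h2, sq] at this
  obtain ⟨S, code, hf, hst, hnd, hpos, hcomm, t, ht, he, h3⟩ :=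
    reduce3 X hT hW hL huU.1 (X.mem_Fx.1 huU.2) (hc.sq X hg2)
  have hlen : code % 16 < Z.canon.length := by
    simp only [fin3, Bool.and_eq_true, decide_eq_true_eq] at hf
    exact hf.1.1.1.1.1
  have hZ' := hZ
  simp only [okCl3, Bool.and_eq_true, List.all_eq_true, List.mem_range, decide_eq_true_eq] at hZ'
  obtain ⟨⟨hy, hset⟩, -⟩ := hZ'.2 _ hlen
  simp only [okY3, Bool.and_eq_true] at hy
  obtain ⟨hl, t', ht', he', h4⟩ := to_canon3 X hT hW hst hnd hpos hcomm hf hset hy.1.2 ht he
  obtain ⟨j, hj, hjn, h5⟩ := resolve3 X hT hW hZ _ hl t' ht' he'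
  have h6 := hc.trans X (h3.trans X (h4.trans X h5))
  refine ⟨j, hj, fun h0 => ?_, hjn, h6⟩
  rw [h0, hZ'.1.2, wK_nil] at h6
  obtain ⟨a, -, ha⟩ := h6
  have : g = 1 := by
    calc g = a⁻¹ * (a * g * a⁻¹) * a := by group
      _ = 1 := by rw [ha]; group
  rw [this, orderOf_one] at h2
  omega

include hT hW in
/-- The number of classes of involutions of the fixed group. -/
theorem class_count3 (P : Sylow 2 ↥X.G1)
    (hP : (P : Subgroup ↥X.G1) = (D.posUnipotent K ⊓ X.G1).subgroupOf X.G1) {Z : Cl3}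
    (hZ : okCl3 D Tb W C Z = true) {L : List ℕ} (hL : okTree3 D Tb W (fin3 W C Z.canon) L = true)
    (reps : List (List ℕ)) (hnd : reps.Nodup) (hset : ∀ S ∈ reps, okSet D Tb S = true ∧ stS D W S = true)
    (hcov : ∀ j < Z.canon.length, j ≠ 0 → Z.red.getD j none = none → Z.canon.getD j [] ∈ reps)
    (f : GL D.Idx K → ℕ) (hf : ∀ u w, Cj1 X u w → f u = f w) (h1 : f 1 = 0)
    (hp : ∀ S ∈ reps, 0 < f (wK X.S S))
    (hd : ∀ S ∈ reps, ∀ S' ∈ reps, f (wK X.S S) = f (wK X.S S') → S = S') :
    (ConjClasses.mk '' {g : ↥X.G1 | orderOf g = 2}).ncard = reps.length := by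
  classical
  haveI : Fact (Nat.Prime 2) := ⟨Nat.prime_two⟩
  have hmem : ∀ S ∈ reps, wK (K := K) X.S S ∈ X.G1 := fun S hS => by
    obtain ⟨a, b⟩ := wK_units (K := K) X hT hW [S] (fun u hu => by rw [List.mem_singleton.1 hu]; exact hset S hS)
    simp only [List.flatten_cons, List.flatten_nil, List.append_nil] at a b
    exact sig_fixed_mem X b a
  let cls : {S // S ∈ reps} → ConjClasses ↥X.G1 := fun S => ConjClasses.mk ⟨wK X.S S.1, hmem S.1 S.2⟩
  have hset' : ConjClasses.mk '' {g : ↥X.G1 | orderOf g = 2} = Set.range cls := by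
    ext c
    simp only [Set.mem_image, Set.mem_setOf_eq, Set.mem_range]
    constructor
    · rintro ⟨g, hg, rfl⟩
      obtain ⟨j, hj, hj0, hjn, a, ha, e⟩ :=
        classify3 X hT hW P hP hZ hL g.2 ((Subgroup.orderOf_coe g).trans hg)
      exact ⟨⟨_, hcov j hj hj0 hjn⟩, (ConjClasses.mk_eq_mk_iff_isConj.2
        (isConj_iff.2 ⟨⟨a, ha⟩, Subtype.ext (by simpa using e)⟩)).symm⟩
    · rintro ⟨S, rfl⟩
      let y : ↥X.G1 := ⟨wK X.S S.1, hmem S.1 S.2⟩
      have hy : orderOf y = 2 := by
        refine orderOf_eq_prime (Subtype.ext ?_) fun e => ?_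
        · simpa [sq, y] using wK_sq (K := K) X.S hT (hset S.1 S.2).1
        · have h3 : wK (K := K) X.S S.1 = 1 := congrArg Subtype.val e
          have := hp S.1 S.2
          rw [h3, h1] at this
          omega
      exact ⟨y, hy, rfl⟩
  have hinj : Function.Injective cls := by
    intro S S' e
    obtain ⟨c, hc⟩ := isConj_iff.1 (ConjClasses.mk_eq_mk_iff_isConj.1 e)
    exact Subtype.ext (hd S.1 S.2 S'.1 S'.2 (hf _ _ ⟨c.1, c.2, by simpa using congrArg Subtype.val hc⟩))
  rw [hset', ← Set.image_univ, Set.ncard_image_of_injective _ hinj, Set.ncard_univ,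
    Nat.card_congr (Equiv.subtypeEquivRight fun S => (List.mem_toFinset (l := reps)).symm), Nat.card_eq_fintype_card,
    Fintype.card_coe, List.toFinset_card_of_nodup hnd]

end Cfsg.Lib.Chev.InvElim
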