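import Cfsg.Agent.Chev.InvElim.TwE6Tree
import Cfsg.Agent.Chev.InvElim.TwE6Rk

/-! The classes of involutions of the twisted group of type E6 in characteristic two. -/

set_option autoImplicit false

open Cfsg.Lie

namespace Cfsg.Lib.Chev.InvElim.DTwE6

variable {K : Type*} [Field K] [Fintype K] [CharP K 2]

theorem not_dvd_ord {q : ℕ} (hq : 2 ∣ q) (h1 : 1 ≤ q) :
    ¬ 2 ∣ (q ^ 2 - 1) * (q ^ 5 + 1) * (q ^ 6 - 1) * (q ^ 8 - 1) * (q ^ 9 + 1) * (q ^ 12 - 1) := by
  have hp : ∀ n, 0 < n → 2 ∣ q ^ n := fun n hn => hq.trans (dvd_pow_self _ hn.ne')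
  have := hp 2 (by norm_num); have := hp 5 (by norm_num); have := hp 6 (by norm_num); have := hp 8 (by norm_num)
  have := hp 9 (by norm_num); have := hp 12 (by norm_num)
  have h : ∀ n, 1 ≤ q ^ n := fun n => Nat.one_le_pow _ _ h1
  have := h 2; have := h 6; have := h 8; have := h 12
  simp only [Nat.prime_two.dvd_mul]
  omega

theorem G1_le_group (X : Tw chevE6 chevF4 E6.cert F4.cert E6.tw E6.htTab K) : X.G1 ≤ chevE6.group K := by
  refine (Subgroup.closure_le _).2 ?_
  rintro g ⟨a, -, c, -, t, -, rfl⟩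
  refine list_prod_mem fun z hz => ?_
  obtain ⟨p, -, rfl⟩ := List.mem_map.1 hz
  exact X.S.ok.xG_mem_group _ _

/-- The twisted group has three classes of involutions. -/
theorem count (X : Tw chevE6 chevF4 E6.cert F4.cert E6.tw E6.htTab K) {k : ℕ} (hk : 1 ≤ k) (hq : X.q = 2 ^ k) :
    (ConjClasses.mk '' {g : ↥X.G1 | orderOf g = 2}).ncard = 3 := by
  classical
  have h2q : 2 ∣ X.q := hq ▸ dvd_pow_self 2 (by omega)
  have hq1 : 1 ≤ X.q := by have := X.hq; omega
  haveI : Fact (Nat.Prime 2) := ⟨Nat.prime_two⟩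
  have htw : Nat.gcd 3 (X.q + 1) * Nat.card ↥X.G1 =
      X.q ^ 36 * ((X.q ^ 2 - 1) * (X.q ^ 5 + 1) * (X.q ^ 6 - 1) * (X.q ^ 8 - 1) * (X.q ^ 9 + 1) * (X.q ^ 12 - 1)) := by
    rw [E6.G1_eq X, E6.twOrder (q := X.q) ⟨2, k, Nat.prime_two.prime, hk, hq.symm⟩
      (by rw [← Nat.card_eq_fintype_card, X.hcard]; rfl)]
    ring
  have hcardU : Nat.card ↥((chevE6.posUnipotent K ⊓ X.G1).subgroupOf X.G1) =
      2 ^ (Nat.card ↥X.G1).factorization 2 := by
    have h36 : X.q ^ 36 = 2 ^ (k * 36) := by rw [hq, ← pow_mul]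
    have hodd := not_dvd_ord h2q hq1
    have hg : ¬ 2 ∣ Nat.gcd 3 (X.q + 1) := fun h => by
      have := h.trans (Nat.gcd_dvd_left 3 (X.q + 1)); omega
    have hf := congrArg (fun n => n.factorization 2) htw
    rw [Nat.factorization_mul (fun h => hg (by rw [h]; exact dvd_zero 2)) Nat.card_pos.ne', Finsupp.add_apply,
      Nat.factorization_eq_zero_of_not_dvd hg, zero_add,
      Nat.factorization_mul (a := X.q ^ 36) (by rw [h36]; positivity) (fun h => hodd (by rw [h]; exact dvd_zero 2)),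
      Finsupp.add_apply, Nat.factorization_eq_zero_of_not_dvd hodd, add_zero, h36, Nat.prime_two.factorization_pow,
      Finsupp.single_eq_same] at hf
    rw [Nat.card_congr (Subgroup.subgroupOfEquivOfLe inf_le_right).toEquiv, X.U_inf_G1, X.card_U_fix, hf, ← h36]
    congr 1
  have hS : ∀ u w : GL chevE6.Idx K, Cj1 X u w →
      rkJ chevE6 302231454903657293676543 u = rkJ chevE6 302231454903657293676543 w := fun u w ⟨a, ha, e⟩ =>
    rkJ_Cj (stable_full (J := 302231454903657293676543) (by decide +kernel)) E6.struct ⟨a, G1_le_group X ha, e⟩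
  have e1 : rkJ chevE6 302231454903657293676543 (wK (K := K) X.S [39]) = 22 :=
    rkJ_eq X.S (ws := [(39, c39)]) (by simp [c39_ok]) w1_ok
  have e2 : rkJ chevE6 302231454903657293676543 (wK (K := K) X.S [36, 56]) = 32 :=
    rkJ_eq X.S (ws := [(36, c36), (56, c56)]) (by simp [c36_ok, c56_ok]) w2_ok
  have e3 : rkJ chevE6 302231454903657293676543 (wK (K := K) X.S [36, 39, 56]) = 38 :=
    rkJ_eq X.S (ws := [(36, c36), (39, c39), (56, c56)]) (by simp [c36_ok, c39_ok, c56_ok]) w5_ok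
  refine (class_count3 X DE6.tab_ok tw2_ok (Sylow.ofCard _ hcardU) rfl cl_ok tree_ok
    [[39], [36, 56], [36, 39, 56]] (by decide +kernel) (by decide +kernel) (by decide +kernel) _ hS (rkJ_one _) ?_ ?_).trans rfl
  · intro S hS'
    fin_cases hS' <;> omega
  · intro S hS' S' hS'' h
    fin_cases hS' <;> fin_cases hS'' <;> first | rfl | omega

end Cfsg.Lib.Chev.InvElim.DTwE6
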