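import Cfsg.Agent.Chev.InvElim.Stage
import Cfsg.Agent.Chev.Tw.Weyl

/-! The certified elimination of the involutions of the fixed points of a graph-field automorphism of order two:
the roots are removed by orbits of the graph automorphism and all conjugating elements are fixed. -/

set_option autoImplicit false
set_option linter.unusedSectionVars false
set_option maxHeartbeats 1000000

open Cfsg.Lie

namespace Cfsg.Lib.Chev.InvElim

variable (D : ChevalleyDatum) (Tb : Tab) (W : TwDat)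

/-- The graph automorphism on roots. -/
noncomputable def rh (r : ℕ) : ℕ := W.G.rho D.rank r

/-- The graph automorphism is an involution with even signs on the positive roots. -/
noncomputable def okTw2 : Bool :=
  decide (W.m = 2) && (posL D).all fun r => (rh D W (rh D W r) == r) && ((W.G.eps D.rank r).natAbs % 2 == 1)

/-- The set of roots is stable. -/
noncomputable def stab (R : ℕ) : Bool := (posL D).all fun r => !R.testBit r || R.testBit (rh D W r)

/-- The list of roots is stable. -/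
noncomputable def stS (S : List ℕ) : Bool := S.all fun a => S.contains (rh D W a)

/-- The roots in `U` can be removed. -/
noncomputable def okDrop (S : List ℕ) (R N : ℕ) (U : List ℕ) : Bool :=
  stab D W N && decide (N = U.foldl (fun R d => R ^^^ 2 ^ d) R) && decide U.Nodup && U.all (fun d => R.testBit d) &&
    U.all fun d => (prs D Tb d).all fun p => !(R.testBit p.2 && (S.contains p.1 || R.testBit p.1))

/-- Conjugation by the root moves the product only within the set. -/
def okHit (S : List ℕ) (R N e : ℕ) : Bool :=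
  decide (hlf D ≤ e ∧ e < D.nroots) &&
    (ent D Tb e).all fun x => (!R.testBit x.1 || N.testBit x.2.1) && (!S.contains x.1 || R.testBit x.2.1)

/-- The terms at a root from conjugating the product. -/
def hits (S : List ℕ) (e d : ℕ) : List (ℕ × ℕ × ℕ × ℕ) :=
  (ent D Tb e).filter fun x => S.contains x.1 && (x.2.1 == d)

/-- A single term with exponent one or two. -/
def one12 (L : List (ℕ × ℕ × ℕ × ℕ)) : Bool :=
  match L with
  | [x] => (x.2.2.1 == 1) || (x.2.2.1 == 2)
  | _ => false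

/-- A singleton is killed by a singleton. -/
noncomputable def okK11 (S : List ℕ) (R N d e : ℕ) : Bool :=
  (rh D W d == d) && (rh D W e == e) && okHit D Tb S R N e && one12 (hits D Tb S e d) &&
    (hits D Tb S e d).all fun x => rh D W x.1 == x.1

/-- A pair is killed by a pair. -/
noncomputable def okK22 (S : List ℕ) (R N d e : ℕ) : Bool :=
  (rh D W d != d) && (rh D W e != e) && okHit D Tb S R N e && okHit D Tb S R N (rh D W e) &&
    (ent D Tb e).all (fun x => x.1 != rh D W e) && one12 (hits D Tb S e d) && (hits D Tb S (rh D W e) d).isEmpty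

/-- A singleton is killed by a pair. -/
noncomputable def okK12 (S : List ℕ) (R N d e : ℕ) : Bool :=
  (rh D W d == d) && (rh D W e != e) && okHit D Tb S R N e && okHit D Tb S R N (rh D W e) &&
    (ent D Tb e).all (fun x => x.1 != rh D W e) &&
    match hits D Tb S e d, hits D Tb S (rh D W e) d with
    | [x], [x'] => (x.2.2.1 == 1) && (x'.2.2.1 == 1) && (x'.2.2.2 == x.2.2.2) && (x'.1 == rh D W x.1)
    | _, _ => false

/-- A pair is killed by a singleton, after a relation seen at another root. -/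
noncomputable def okLine (S : List ℕ) (R N d e m : ℕ) : Bool :=
  (rh D W d != d) && (rh D W e == e) && okHit D Tb S R N e && (ent D Tb d).all (fun x => x.1 != rh D W d) &&
    N.testBit m && (prs D Tb m).all (fun p => !((N ^^^ 2 ^ m).testBit p.2 && (S.contains p.1 || R.testBit p.1))) &&
    match hits D Tb S e d, hits D Tb S e (rh D W d),
      S.flatMap (fun a => ((ent D Tb a).filter fun x => (x.1 == d) && (x.2.1 == m)).map fun x => (a, x)),
      S.flatMap (fun a => ((ent D Tb a).filter fun x => (x.1 == rh D W d) && (x.2.1 == m)).map fun x => (a, x)) with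
    | [x1], [x2], [y1], [y2] => (y1.1 == x2.1) && (y2.1 == x1.1) && (rh D W y1.1 == y2.1) &&
        decide (x1.2.2 = (1, 1) ∧ x2.2.2 = (1, 1) ∧ y1.2.2.2 = (1, 1) ∧ y2.2.2.2 = (1, 1))
    | _, _, _, _ => false

variable (fin : List ℕ → ℕ → Bool)

/-- One step of the checker. -/
noncomputable def step3 (S : List ℕ) (R c : ℕ) : Option (List (List ℕ × ℕ)) :=
  if R == 0 then (if fin S c then some [] else none)
  else
    let d := c / 8 % 256
    let a := c / 2048 % 256
    let b := c / 524288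
    let d' := rh D W d
    let R1 := R ^^^ 2 ^ d
    let R2 := R1 ^^^ 2 ^ d'
    if c % 8 == 0 then
      (if okRem D Tb S R R1 d && okForce2 D Tb S R R1 d a && stab D W R1 then some [(S, R1)] else none)
    else if c % 8 == 1 then
      (if okRem D Tb S R R1 d && okForce2 D Tb S R R1 d a && okRem D Tb S R1 R2 d' && okForce2 D Tb S R1 R2 d' b &&
        stab D W R2 then some [(S, R2)] else none)
    else if c % 8 == 2 then
      (if okDrop D Tb W S R R1 [d] && okK11 D Tb W S R R1 d a then some [(S, R1)] else none)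
    else if c % 8 == 3 then
      (if okDrop D Tb W S R R2 [d, d'] && okK22 D Tb W S R R2 d a then some [(S, R2)] else none)
    else if c % 8 == 4 then
      (if okDrop D Tb W S R R1 [d] && okK12 D Tb W S R R1 d a then some [(S, R1)] else none)
    else if c % 8 == 5 then
      (if okDrop D Tb W S R R2 [d, d'] && okLine D Tb W S R R2 d a b then some [(S, R2)] else none)
    else if c % 8 == 6 then
      (if okDrop D Tb W S R R1 [d] && (rh D W d == d) && okBranch D Tb S d then some [(d :: S, R1), (S, R1)]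
        else none)
    else
      (if okDrop D Tb W S R R2 [d, d'] && (rh D W d != d) && okBranch D Tb S d && okBranch D Tb (d :: S) d' then
        some [(d' :: d :: S, R2), (S, R2)] else none)

/-- Processing of a code on the pending cases. -/
noncomputable def run3 : List (List ℕ × ℕ) → List ℕ → Option (List (List ℕ × ℕ))
  | st, [] => some st
  | [], _ :: _ => none
  | (S, R) :: st, c :: L => (step3 D Tb W fin S R c).bind fun p => run3 (p ++ st) L

/-- The whole tree is valid. -/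
noncomputable def okTree3 (L : List ℕ) : Bool := decide (run3 D Tb W fin [([], R0 D)] L = some [])

section Sound

variable {D Tb W fin} {D' : ChevalleyDatum} {C C' : Cert} {H : List (List ℤ)} {K : Type*} [Field K] [Fintype K]
  [CharP K 2] (X : Tw D D' C C' W H K)

/-- Conjugacy in the fixed group. -/
def Cj1 (X : Tw D D' C C' W H K) (u w : GL D.Idx K) : Prop := ∃ h ∈ X.G1, h * u * h⁻¹ = w

theorem Cj1.trans {u v w : GL D.Idx K} (h : Cj1 X u v) (h' : Cj1 X v w) : Cj1 X u w := by
  obtain ⟨a, ha, rfl⟩ := h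
  obtain ⟨b, hb, rfl⟩ := h'
  exact ⟨b * a, mul_mem hb ha, by group⟩

theorem Cj1.symm {u w : GL D.Idx K} (h : Cj1 X u w) : Cj1 X w u := by
  obtain ⟨a, ha, rfl⟩ := h
  exact ⟨a⁻¹, inv_mem ha, by group⟩

theorem Cj1.refl (u : GL D.Idx K) : Cj1 X u u := ⟨1, one_mem _, by simp⟩

theorem Cj1.sq {u w : GL D.Idx K} (h : Cj1 X u w) (hu : u * u = 1) : w * w = 1 := by
  obtain ⟨a, -, rfl⟩ := h
  rw [show a * u * a⁻¹ * (a * u * a⁻¹) = a * (u * u) * a⁻¹ by group, hu]
  group

theorem Cj1.fixed {u w : GL D.Idx K} (h : Cj1 X u w) (hu : X.sig u = u) : X.sig w = w := by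
  obtain ⟨a, ha, rfl⟩ := h
  rw [map_mul, map_mul, map_inv, hu, X.mem_Fx.1 (X.G1_le_Fx ha)]

variable (hT : okTab D Tb = true) (hW : okTw2 D W = true)
include hW

theorem rh_spec {r : ℕ} (hr : Pos (D := D) r) :
    rh D W (rh D W r) = r ∧ Pos (D := D) (rh D W r) ∧ X.eps r = (1 : K) := by
  simp only [okTw2, Bool.and_eq_true, decide_eq_true_eq, List.all_eq_true, beq_iff_eq] at hW
  obtain ⟨h1, h2⟩ := hW.2 r (mem_posL hr)
  refine ⟨h1, ⟨(X.rho_pos hr.2).1.2 hr.1, X.rho_lt hr.2⟩, ?_⟩
  show ((W.G.eps D.rank r : ℤ) : K) = 1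
  rw [intCast_odd (K := K) (S₀ := X.S), if_pos h2]

theorem sig_x {r : ℕ} (hr : Pos (D := D) r) (t : K) :
    X.sig (X.S.ok.xG r t) = X.S.ok.xG (rh D W r) (X.f t) := by
  rw [X.sig_xG hr.2, (rh_spec X hW hr).2.2, one_mul]
  rfl

theorem ff (t : K) : X.f (X.f t) = t := by
  simp only [okTw2, Bool.and_eq_true, decide_eq_true_eq] at hW
  have := X.f_iter t
  rwa [hW.1] at this

theorem sig_HR {R : ℕ} (hR : stab D W R = true) (hp : ∀ r, R.testBit r = true → Pos (D := D) r) {g : GL D.Idx K}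
    (hg : g ∈ HR X.S R) : X.sig g ∈ HR X.S R := by
  have hle : HR (K := K) X.S R ≤ (HR X.S R).comap X.sig := by
    refine (Subgroup.closure_le _).2 ?_
    rintro y ⟨r, hr, u, rfl⟩
    show X.sig _ ∈ HR X.S R
    rw [sig_x X hW (hp r hr)]
    simp only [stab, List.all_eq_true, Bool.or_eq_true, Bool.not_eq_true'] at hR
    exact xG_mem_HR X.S ((hR r (mem_posL (hp r hr))).resolve_left (by simp [hr])) _
  exact hle hg

/-- A trace equals one. -/
theorem exists_tr : ∃ z : K, z + X.f z = 1 := by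
  have hm : W.m = 2 := by
    simp only [okTw2, Bool.and_eq_true, decide_eq_true_eq] at hW
    exact hW.1
  have hfix : Nat.card {t : K // X.f t = t} = X.q :=
    card_pow_eq_self X.hq (by omega : 1 ≤ W.m) X.hfq X.hcard
  obtain ⟨z, hz⟩ : ∃ z, X.f z ≠ z := by
    by_contra h
    push_neg at h
    have : Nat.card {t : K // X.f t = t} = Nat.card K := Nat.card_congr (Equiv.subtypeUnivEquiv h)
    rw [hfix, X.hcard, hm] at this
    have := X.hq
    nlinarith
  have h0 : z + X.f z ≠ 0 := fun h => hz (CharTwo.add_eq_zero.1 h).symm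
  refine ⟨z / (z + X.f z), ?_⟩
  rw [map_div₀, map_add, ff X hW, add_comm (X.f z) z, ← add_div, div_self h0]

omit hW

theorem sig_fixed_mem {g : GL D.Idx K} (hg : g ∈ D.posUnipotent K) (hs : X.sig g = g) : g ∈ X.G1 := by
  have : g ∈ D.posUnipotent K ⊓ X.Fx := ⟨hg, X.mem_Fx.2 hs⟩
  rw [← X.U_inf_G1] at this
  exact this.2

theorem xG_mem_U {r : ℕ} (hr : Pos (D := D) r) (t : K) : X.S.ok.xG r t ∈ D.posUnipotent K := by
  rw [X.S.posUnipotent_eq]
  exact X.S.xG_mem_Ugen hr.1 hr.2 t

/-- The parameters commute with the automorphism. -/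
def Eqv (X : Tw D D' C C' W H K) (S : List ℕ) (t : ℕ → K) : Prop := ∀ a ∈ S, t (rh D W a) = X.f (t a)

include hW hT in
theorem sig_Pv {S : List ℕ} (hst : stS D W S = true) (hnd : S.Nodup) (hpos : ∀ a ∈ S, hlf D ≤ a ∧ a < D.nroots)
    (hcomm : ∀ a ∈ S, ∀ x ∈ ent D Tb a, x.1 ∉ S) {t : ℕ → K} (he : Eqv X S t) :
    X.sig (Pv X.S S t) = Pv X.S S t := by
  simp only [stS, List.all_eq_true, List.contains_eq_mem, decide_eq_true_eq] at hst
  have e1 : X.sig (Pv X.S S t) = Pv X.S (S.map (rh D W)) t := by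
    rw [Pv, map_list_prod, Pv, List.map_map, List.map_map]
    refine congrArg List.prod (List.map_congr_left fun a ha => ?_)
    simp only [Function.comp_apply]
    rw [sig_x X hW (hpos a ha), he a ha]
  rw [e1]
  have hnd' : (S.map (rh D W)).Nodup := List.Nodup.map_on (fun a ha b hb e => by
    rw [← (rh_spec X hW (hpos a ha)).1, e, (rh_spec X hW (hpos b hb)).1]) hnd
  have hperm : (S.map (rh D W)).Perm S := (List.perm_ext_iff_of_nodup hnd' hnd).2 fun a =>
    ⟨fun ha => by obtain ⟨b, hb, rfl⟩ := List.mem_map.1 ha; exact hst b hb,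
      fun ha => List.mem_map.2 ⟨_, hst a ha, (rh_spec X hW (hpos a ha)).1⟩⟩
  refine (hperm.map fun r => X.S.ok.xG r (t r)).prod_eq' ?_
  refine List.pairwise_of_forall_mem_list fun x hx y hy => ?_
  obtain ⟨a, ha, rfl⟩ := List.mem_map.1 hx
  obtain ⟨b, hb, rfl⟩ := List.mem_map.1 hy
  exact set_commute X.S hT hpos hcomm (hperm.subset ha) (hperm.subset hb) _ _

/-- A state and the set left after removing some roots. -/
structure Ctx (S : List ℕ) (R N : ℕ) : Prop where
  inv : Inv (D := D) Tb S R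
  stR : stab D W R = true
  stN : stab D W N = true
  sub : ∀ r, N.testBit r = true → R.testBit r = true
  cl : ∀ a, (a ∈ S ∨ R.testBit a = true) → ∀ x ∈ ent D Tb a, R.testBit x.1 = true → N.testBit x.2.1 = true

theorem foldl_bits : ∀ (U : List ℕ) (R : ℕ), U.Nodup → (∀ d ∈ U, R.testBit d = true) → ∀ r,
    (U.foldl (fun R d => R ^^^ 2 ^ d) R).testBit r = true ↔ R.testBit r = true ∧ r ∉ U
  | [], R, _, _, r => by simp
  | d :: U, R, hnd, hU, r => by
    obtain ⟨hd, hnd'⟩ := List.nodup_cons.1 hnd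
    have h0 := hU d List.mem_cons_self
    rw [List.foldl_cons, foldl_bits U _ hnd' (fun e he => (testBit_erase h0).2
      ⟨hU e (List.mem_cons_of_mem _ he), fun h => hd (h ▸ he)⟩) r, testBit_erase h0, List.mem_cons]
    tauto

include hT in
theorem ctx_of_drop {S : List ℕ} {R N : ℕ} {U : List ℕ} (hI : Inv (D := D) Tb S R) (hst : stab D W R = true)
    (h : okDrop D Tb W S R N U = true) :
    Ctx (D := D) (Tb := Tb) (W := W) S R N ∧ (∀ d ∈ U, R.testBit d = true) ∧
      (∀ r, N.testBit r = true ↔ R.testBit r = true ∧ r ∉ U) ∧ Inv (D := D) Tb S N := by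
  simp only [okDrop, Bool.and_eq_true, decide_eq_true_eq, List.all_eq_true, Bool.not_eq_true',
    Bool.and_eq_false_iff, Bool.or_eq_false_iff, List.contains_eq_mem, decide_eq_false_iff_not] at h
  obtain ⟨⟨⟨⟨hN, e⟩, hnd⟩, hU⟩, hp⟩ := h
  have hb : ∀ r, N.testBit r = true ↔ R.testBit r = true ∧ r ∉ U := fun r => e ▸ foldl_bits U R hnd hU r
  have hcl : ∀ a, (a ∈ S ∨ R.testBit a = true) → ∀ x ∈ ent D Tb a, R.testBit x.1 = true →
      N.testBit x.2.1 = true := by
    intro a ha x hx hx1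
    refine (hb _).2 ⟨hI.closed a ha x hx hx1, fun hd => ?_⟩
    rcases hp _ hd _ (ent_spec hT (ha.elim (hI.posS a) (hI.posR a)) hx).2.2.2.2.2 with h | ⟨h1, h2⟩
    · simp [hx1] at h
    · rcases ha with ha | ha
      · exact h1 ha
      · simp [ha] at h2
  exact ⟨⟨hI, hst, hN, fun r hr => ((hb r).1 hr).1, hcl⟩, hU, hb, hI.posS, fun r hr => hI.posR r ((hb r).1 hr).1,
    hI.nodup, hI.comm, fun a ha x hx hx1 => hcl a (ha.imp_right fun h => ((hb a).1 h).1) x hx ((hb _).1 hx1).1⟩

/-- The coefficient at a root modulo the others. -/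
def Cf (X : Tw D D' C C' W H K) (R d : ℕ) (g : GL D.Idx K) (c : K) : Prop :=
  ∃ n ∈ HR X.S (R ^^^ 2 ^ d), g = X.S.ok.xG d c * n

theorem dsum {M : Type*} [AddCommMonoid M] (F : ℕ → ℕ × ℕ × ℕ × ℕ → M) (d : ℕ) :
    ∀ (L : List (ℕ × ℕ × ℕ × ℕ)) (Q : List ℕ), Q.Nodup →
      (Q.map fun a => ((L.filter fun x => x.1 == a).map fun x => if x.2.1 = d then F a x else 0).sum).sum =
        ((L.filter fun x => Q.contains x.1 && (x.2.1 == d)).map fun x => F x.1 x).sum := by
  intro L
  induction L with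
  | nil => intro Q _; simp
  | cons x L ih =>
    intro Q hQ
    have hone : (Q.map fun a => if x.1 = a then (if x.2.1 = d then F a x else 0) else 0).sum =
        if x.1 ∈ Q then (if x.2.1 = d then F x.1 x else 0) else 0 := by
      clear ih
      induction Q with
      | nil => simp
      | cons a Q ihQ =>
        obtain ⟨h1, h2⟩ := List.nodup_cons.1 hQ
        rw [List.map_cons, List.sum_cons, ihQ h2]
        by_cases h : x.1 = a
        · subst h; simp [h1]
        · simp [h]
    have e : ∀ a, ((((x :: L).filter fun x => x.1 == a)).map fun x => if x.2.1 = d then F a x else 0).sum =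
        (if x.1 = a then (if x.2.1 = d then F a x else 0) else 0) +
          ((L.filter fun x => x.1 == a).map fun x => if x.2.1 = d then F a x else 0).sum := by
      intro a
      by_cases h : x.1 = a <;> simp [List.filter_cons, h]
    simp only [e, List.sum_map_add, ih Q hQ, hone]
    by_cases h1 : x.1 ∈ Q <;> by_cases h2 : x.2.1 = d <;> simp [List.filter_cons, h1, h2]


section Coef

variable {S : List ℕ} {R N : ℕ} (hc : Ctx (D := D) (Tb := Tb) (W := W) S R N)
include hc hT

theorem cl_erase {d : ℕ} (hd : R.testBit d = true) (hdN : N.testBit d = false) {a : ℕ}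
    (ha : a ∈ S ∨ R.testBit a = true) : ∀ x ∈ ent D Tb a, (R ^^^ 2 ^ d).testBit x.1 = true →
      (R ^^^ 2 ^ d).testBit x.2.1 = true := fun x hx hx1 => by
  have h := hc.cl a ha x hx ((testBit_erase hd).1 hx1).1
  exact (testBit_erase hd).2 ⟨hc.sub _ h, fun e => by rw [e, hdN] at h; simp at h⟩

theorem pos_erase {d : ℕ} (hd : R.testBit d = true) : ∀ r, (R ^^^ 2 ^ d).testBit r = true → Pos (D := D) r :=
  fun r hr => hc.inv.posR r ((testBit_erase hd).1 hr).1

theorem Cf_exists {d : ℕ} (hd : R.testBit d = true) (hdN : N.testBit d = false) {g : GL D.Idx K}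
    (hg : g ∈ HR X.S R) : ∃ c, Cf X R d g c := by
  obtain ⟨c, v, hv, e⟩ := split X.S hT hd (hc.inv.posR d hd) (fun r => testBit_erase hd) (pos_erase hT hc hd)
    (cl_erase hT hc hd hdN (Or.inr hd)) hg
  exact ⟨c, v, hv, e⟩

theorem Cf_unique {d : ℕ} (hd : R.testBit d = true) (hdN : N.testBit d = false) {g : GL D.Idx K} {c c' : K}
    (h : Cf X R d g c) (h' : Cf X R d g c') : c = c' := by
  obtain ⟨n, hn, rfl⟩ := h
  obtain ⟨n', hn', e⟩ := h'
  have h1 : X.S.ok.xG d (c' + c) ∈ HR X.S (R ^^^ 2 ^ d) := by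
    rw [← X.S.ok.xG_mul]
    have : X.S.ok.xG d c' * X.S.ok.xG d c = X.S.ok.xG d c' * (X.S.ok.xG d c * n) * n⁻¹ := by group
    rw [this, e, show X.S.ok.xG d c' * (X.S.ok.xG d c' * n') = n' by rw [← mul_assoc, xG_self X.S, one_mul]]
    exact mul_mem hn' (inv_mem hn)
  exact (CharTwo.add_eq_zero.1 (HR_inj X.S hT (hc.inv.posR d hd) _ _ _ (Nat.lt_succ_self _) (pos_erase hT hc hd)
    (fun a ha => cl_erase hT hc hd hdN (Or.inr ((testBit_erase hd).1 ha).1))
    (Bool.eq_false_iff.2 fun h => ((testBit_erase hd).1 h).2 rfl) h1)).symm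

theorem Cf_mul {d : ℕ} (hd : R.testBit d = true) (hdN : N.testBit d = false) {g h : GL D.Idx K} {c e : K}
    (hg : Cf X R d g c) (hh : Cf X R d h e) : Cf X R d (g * h) (c + e) := by
  obtain ⟨n, hn, rfl⟩ := hg
  obtain ⟨n', hn', rfl⟩ := hh
  refine ⟨_, mul_mem (conj_HR X.S hT (hc.inv.posR d hd) (pos_erase hT hc hd) (cl_erase hT hc hd hdN (Or.inr hd))
    e hn) hn', ?_⟩
  rw [← X.S.ok.xG_mul]
  group

theorem Cf_of_mem {d : ℕ} (hd : R.testBit d = true) {g : GL D.Idx K} (hg : g ∈ HR X.S (R ^^^ 2 ^ d)) :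
    Cf X R d g 0 := ⟨g, hg, by rw [X.S.xG_zero, one_mul]⟩

theorem HR_N_le {d : ℕ} (hd : R.testBit d = true) (hdN : N.testBit d = false) :
    HR (K := K) X.S N ≤ HR X.S (R ^^^ 2 ^ d) := (Subgroup.closure_le _).2 fun g ⟨r, hr, u, e⟩ =>
  e ▸ xG_mem_HR X.S ((testBit_erase hd).2 ⟨hc.sub r hr, fun h => by rw [h, hdN] at hr; simp at hr⟩) u

theorem Cf_N {d : ℕ} (hd : R.testBit d = true) (hdN : N.testBit d = false) {g : GL D.Idx K} (hg : g ∈ HR X.S N) :
    Cf X R d g 0 := Cf_of_mem X hT hc hd (HR_N_le X hT hc hd hdN hg)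

theorem Cf_x {d b : ℕ} (hd : R.testBit d = true) (hb : R.testBit b = true) (u : K) :
    Cf X R d (X.S.ok.xG b u) (if b = d then u else 0) := by
  by_cases h : b = d
  · subst h; exact ⟨1, one_mem _, by simp⟩
  · rw [if_neg h]; exact Cf_of_mem X hT hc hd (xG_mem_HR X.S ((testBit_erase hd).2 ⟨hb, h⟩) u)

include hW in
theorem Cf_sig {d : ℕ} (hd : R.testBit d = true) {g : GL D.Idx K} {c : K} (h : Cf X R d g c) :
    Cf X R (rh D W d) (X.sig g) (X.f c) := by
  obtain ⟨n, hn, rfl⟩ := h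
  have hs := hc.stR
  simp only [stab, List.all_eq_true, Bool.or_eq_true, Bool.not_eq_true'] at hs
  have hd' : R.testBit (rh D W d) = true :=
    (hs d (mem_posL (hc.inv.posR d hd))).resolve_left (by simp [hd])
  refine ⟨X.sig n, ?_, by rw [map_mul, sig_x X hW (hc.inv.posR d hd)]⟩
  have hle : HR (K := K) X.S (R ^^^ 2 ^ d) ≤ (HR X.S (R ^^^ 2 ^ rh D W d)).comap X.sig := by
    refine (Subgroup.closure_le _).2 ?_
    rintro y ⟨r, hr, u, rfl⟩
    show X.sig _ ∈ HR X.S _
    obtain ⟨hr1, hr2⟩ := (testBit_erase hd).1 hr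
    rw [sig_x X hW (hc.inv.posR r hr1)]
    refine xG_mem_HR X.S ((testBit_erase hd').2
      ⟨(hs r (mem_posL (hc.inv.posR r hr1))).resolve_left (by simp [hr1]), fun h => hr2 ?_⟩) _
    rw [← (rh_spec X hW (hc.inv.posR r hr1)).1, h, (rh_spec X hW (hc.inv.posR d hd)).1]
  exact hle hn

theorem N_le : HR (K := K) X.S N ≤ HR X.S R :=
  (Subgroup.closure_le _).2 fun g ⟨r, hr, u, e⟩ => e ▸ xG_mem_HR X.S (hc.sub r hr) u

theorem cen {e : ℕ} (he : Pos (D := D) e) (hcl : ∀ x ∈ ent D Tb e, R.testBit x.1 = true → N.testBit x.2.1 = true)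
    (s : K) {g : GL D.Idx K} (hg : g ∈ HR X.S R) :
    ∃ n ∈ HR X.S N, (X.S.ok.xG e s)⁻¹ * g * X.S.ok.xG e s = g * n := by
  have hpN : ∀ r, N.testBit r = true → Pos (D := D) r := fun r hr => hc.inv.posR r (hc.sub r hr)
  have hnorm : ∀ y ∈ HR (K := K) X.S R, ∀ n ∈ HR X.S N, y⁻¹ * n * y ∈ HR X.S N ∧ y * n * y⁻¹ ∈ HR X.S N := by
    intro y hy
    induction hy using Subgroup.closure_induction with
    | mem z hz =>
      obtain ⟨r, hr, u, rfl⟩ := hz
      intro n hn
      have h1 := fun w => conj_HR X.S hT (hc.inv.posR r hr) hpN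
        (fun x hx hx1 => hc.cl r (Or.inr hr) x hx (hc.sub _ hx1)) w hn
      refine ⟨h1 u, ?_⟩
      have := h1 (-u)
      rwa [← X.S.ok.xG_inv, inv_inv] at this
    | one => intro n hn; simp [hn]
    | mul a b _ _ iha ihb =>
      intro n hn
      refine ⟨?_, ?_⟩
      · have := (ihb _ (iha n hn).1).1
        simpa [mul_assoc] using this
      · have := (iha _ (ihb n hn).2).2
        simpa [mul_assoc] using this
    | inv a _ iha => intro n hn; rw [inv_inv]; exact ⟨(iha n hn).2, (iha n hn).1⟩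
  induction hg using Subgroup.closure_induction with
  | mem y hy =>
    obtain ⟨r, hr, u, rfl⟩ := hy
    refine ⟨_, list_prod_mem fun z hz => ?_, cn X.S hT he (hc.inv.posR r hr) s u⟩
    simp only [List.mem_map, List.mem_filter, beq_iff_eq] at hz
    obtain ⟨x, ⟨hx, rfl⟩, rfl⟩ := hz
    exact xG_mem_HR X.S (hcl x hx hr) _
  | one => exact ⟨1, one_mem _, by group⟩
  | mul a b ha hb iha ihb =>
    obtain ⟨n1, hn1, e1⟩ := iha
    obtain ⟨n2, hn2, e2⟩ := ihb
    refine ⟨b⁻¹ * n1 * b * n2, mul_mem (hnorm b hb n1 hn1).1 hn2, ?_⟩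
    calc (X.S.ok.xG e s)⁻¹ * (a * b) * X.S.ok.xG e s
        = ((X.S.ok.xG e s)⁻¹ * a * X.S.ok.xG e s) * ((X.S.ok.xG e s)⁻¹ * b * X.S.ok.xG e s) := by group
      _ = _ := by rw [e1, e2]; group
  | inv a ha iha =>
    obtain ⟨n1, hn1, e1⟩ := iha
    refine ⟨a * n1⁻¹ * a⁻¹, (hnorm a ha _ (inv_mem hn1)).2, ?_⟩
    calc (X.S.ok.xG e s)⁻¹ * a⁻¹ * X.S.ok.xG e s = ((X.S.ok.xG e s)⁻¹ * a * X.S.ok.xG e s)⁻¹ := by group
      _ = _ := by rw [e1]; group

theorem cenP (t : ℕ → K) : ∀ Q : List ℕ, (∀ a ∈ Q, a ∈ S) → ∀ g ∈ HR (K := K) X.S R,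
    ∃ n ∈ HR X.S N, (Pv X.S Q t)⁻¹ * g * Pv X.S Q t = g * n := by
  intro Q
  induction Q with
  | nil => intro _ g _; exact ⟨1, one_mem _, by simp [Pv]⟩
  | cons a Q ih =>
    intro hQ g hg
    have haS := hQ a List.mem_cons_self
    have hQ' : ∀ q ∈ Q, q ∈ S := fun q hq => hQ q (List.mem_cons_of_mem _ hq)
    obtain ⟨n1, hn1, e1⟩ := cen X hT hc (hc.inv.posS a haS) (hc.cl a (Or.inl haS)) (t a) hg
    have hgn : g * n1 ∈ HR X.S R :=
      mul_mem hg (N_le X hT hc hn1)
    obtain ⟨n2, hn2, e2⟩ := ih hQ' (g * n1) hgn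
    refine ⟨n1 * n2, mul_mem hn1 hn2, ?_⟩
    rw [← mul_assoc, ← e2, ← e1]
    simp only [Pv, List.map_cons, List.prod_cons]
    group

theorem Cf_prod {d : ℕ} (hd : R.testBit d = true) (hdN : N.testBit d = false) :
    ∀ L : List (ℕ × K), (∀ p ∈ L, R.testBit p.1 = true) → (L.map fun p => X.S.ok.xG p.1 p.2).prod ∈ HR X.S R ∧
      Cf X R d (L.map fun p => X.S.ok.xG p.1 p.2).prod (L.map fun p => if p.1 = d then p.2 else 0).sum := by
  intro L
  induction L with
  | nil => intro _; exact ⟨by simp [one_mem], 1, one_mem _, by simp [X.S.xG_zero]⟩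
  | cons p L ih =>
    intro hL
    obtain ⟨h1, h2⟩ := ih fun q hq => hL q (List.mem_cons_of_mem _ hq)
    have hp := hL p List.mem_cons_self
    simp only [List.map_cons, List.prod_cons, List.sum_cons]
    exact ⟨mul_mem (xG_mem_HR X.S hp _) h1, Cf_mul X hT hc hd hdN (Cf_x X hT hc hd hp _) h2⟩

/-- Conjugation of the product by a root element. -/
theorem hit {e : ℕ} (he : okHit D Tb S R N e = true) (t : ℕ → K) (s : K) :
    ∃ g0 ∈ HR X.S R, (X.S.ok.xG e s)⁻¹ * Pv X.S S t * X.S.ok.xG e s = Pv X.S S t * g0 ∧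
      ∀ d, R.testBit d = true → N.testBit d = false →
        Cf X R d g0 ((hits D Tb S e d).map fun x => s ^ x.2.2.1 * t x.1 ^ x.2.2.2).sum := by
  simp only [okHit, Bool.and_eq_true, decide_eq_true_eq, List.all_eq_true, Bool.or_eq_true, Bool.not_eq_true',
    List.contains_eq_mem, decide_eq_false_iff_not] at he
  obtain ⟨hpe, hall⟩ := he
  let F : ℕ → ℕ × ℕ × ℕ × ℕ → K := fun a x => s ^ x.2.2.1 * t a ^ x.2.2.2
  have key : ∀ Q : List ℕ, (∀ a ∈ Q, a ∈ S) → ∃ g0 ∈ HR X.S R,
      (X.S.ok.xG e s)⁻¹ * Pv X.S Q t * X.S.ok.xG e s = Pv X.S Q t * g0 ∧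
        ∀ d, R.testBit d = true → N.testBit d = false → Cf X R d g0
          (Q.map fun a => (((ent D Tb e).filter fun x => x.1 == a).map fun x =>
            if x.2.1 = d then F a x else 0).sum).sum := by
    intro Q
    induction Q with
    | nil => exact fun _ => ⟨1, one_mem _, by simp [Pv], fun d _ _ => ⟨1, one_mem _, by simp [X.S.xG_zero]⟩⟩
    | cons a Q ih =>
      intro hQ
      have haS := hQ a List.mem_cons_self
      have hQ' : ∀ q ∈ Q, q ∈ S := fun q hq => hQ q (List.mem_cons_of_mem _ hq)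
      obtain ⟨g1, hg1, e1, c1⟩ := ih hQ'
      set L := ((ent D Tb e).filter fun x => x.1 == a).map fun x => (x.2.1, s ^ x.2.2.1 * t a ^ x.2.2.2) with hL
      have hLR : ∀ p ∈ L, R.testBit p.1 = true := fun p hp => by
        simp only [hL, List.mem_map, List.mem_filter, beq_iff_eq] at hp
        obtain ⟨x, ⟨hx, hxa⟩, rfl⟩ := hp
        exact (hall x hx).2.resolve_left (fun h => h (hxa ▸ haS))
      have e2 : (X.S.ok.xG e s)⁻¹ * X.S.ok.xG a (t a) * X.S.ok.xG e s =
          X.S.ok.xG a (t a) * (L.map fun p => X.S.ok.xG p.1 p.2).prod := by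
        rw [cn X.S hT hpe (hc.inv.posS a haS) s (t a), hL, List.map_map]
        rfl
      have hTR : (L.map fun p => X.S.ok.xG p.1 p.2).prod ∈ HR X.S R :=
        list_prod_mem fun z hz => by
          obtain ⟨p, hp, rfl⟩ := List.mem_map.1 hz
          exact xG_mem_HR X.S (hLR p hp) _
      obtain ⟨n, hn, e3⟩ := cenP X hT hc t Q hQ' _ hTR
      refine ⟨_ * n * g1, mul_mem (mul_mem hTR (N_le X hT hc hn)) hg1, ?_, fun d hd hdN => ?_⟩
      · calc (X.S.ok.xG e s)⁻¹ * Pv X.S (a :: Q) t * X.S.ok.xG e s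
            = ((X.S.ok.xG e s)⁻¹ * X.S.ok.xG a (t a) * X.S.ok.xG e s) *
              ((X.S.ok.xG e s)⁻¹ * Pv X.S Q t * X.S.ok.xG e s) := by
              simp only [Pv, List.map_cons, List.prod_cons]; group
          _ = X.S.ok.xG a (t a) * Pv X.S Q t * ((Pv X.S Q t)⁻¹ * (L.map fun p => X.S.ok.xG p.1 p.2).prod * Pv X.S Q t) *
              g1 := by rw [e2, e1]; group
          _ = _ := by
            rw [e3]
            simp only [Pv, List.map_cons, List.prod_cons]
            group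
      · have h1 := Cf_mul X hT hc hd hdN (Cf_mul X hT hc hd hdN (Cf_prod X hT hc hd hdN L hLR).2
          (Cf_N X hT hc hd hdN hn)) (c1 d hd hdN)
        rw [add_zero] at h1
        rw [List.map_cons, List.sum_cons]
        simp only [hL, List.map_map, Function.comp_def, F] at h1 ⊢
        exact h1
  obtain ⟨g0, hg0, e0, c0⟩ := key S fun _ h => h
  refine ⟨g0, hg0, e0, fun d hd hdN => ?_⟩
  have := c0 d hd hdN
  rwa [dsum F d _ S hc.inv.nodup] at this

/-- Conjugation of the whole element. -/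
theorem hit_all {e : ℕ} (he : okHit D Tb S R N e = true) (t : ℕ → K) (s : K) {g : GL D.Idx K}
    (hg : g ∈ HR X.S R) :
    ∃ g' ∈ HR X.S R, (X.S.ok.xG e s)⁻¹ * (Pv X.S S t * g) * X.S.ok.xG e s = Pv X.S S t * g' ∧
      ∀ d, R.testBit d = true → N.testBit d = false → ∀ c, Cf X R d g c →
        Cf X R d g' (((hits D Tb S e d).map fun x => s ^ x.2.2.1 * t x.1 ^ x.2.2.2).sum + c) := by
  obtain ⟨g0, hg0, e0, c0⟩ := hit X hT hc he t s
  simp only [okHit, Bool.and_eq_true, decide_eq_true_eq, List.all_eq_true, Bool.or_eq_true, Bool.not_eq_true'] at he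
  obtain ⟨n, hn, e1⟩ := cen X hT hc he.1 (fun x hx hx1 => (he.2 x hx).1.resolve_left (by simp [hx1])) s hg
  refine ⟨g0 * (g * n), mul_mem hg0 (mul_mem hg (N_le X hT hc hn)), ?_, fun d hd hdN c hcf => ?_⟩
  · rw [← e1, ← mul_assoc (Pv X.S S t), ← e0]
    group
  · have := Cf_mul X hT hc hd hdN (c0 d hd hdN) (Cf_mul X hT hc hd hdN hcf (Cf_N X hT hc hd hdN hn))
    rwa [add_zero] at this

end Coef

variable (Tb) (fin) in
/-- The element is conjugate to an accepted fixed product. -/
def Concl3 (X : Tw D D' C C' W H K) (u : GL D.Idx K) : Prop :=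
  ∃ S code, fin S code = true ∧ stS D W S = true ∧ S.Nodup ∧ (∀ a ∈ S, hlf D ≤ a ∧ a < D.nroots) ∧
    (∀ a ∈ S, ∀ x ∈ ent D Tb a, x.1 ∉ S) ∧ ∃ t : ℕ → K, (∀ a ∈ S, t a ≠ 0) ∧ Eqv X S t ∧ Cj1 X u (Pv X.S S t)

variable (Tb) (fin) in
/-- All fixed involutions of the state are conjugate to accepted products. -/
def Good3 (X : Tw D D' C C' W H K) (x : List ℕ × ℕ) : Prop :=
  Inv (D := D) Tb x.1 x.2 → stab D W x.2 = true → stS D W x.1 = true → ∀ t : ℕ → K, (∀ a ∈ x.1, t a ≠ 0) →
    Eqv X x.1 t → ∀ v ∈ HR X.S x.2, X.sig v = v →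
      Pv X.S x.1 t * v * (Pv X.S x.1 t * v) = 1 → Concl3 Tb fin X (Pv X.S x.1 t * v)

section Steps

variable {S : List ℕ} {R N : ℕ} {t : ℕ → K}

include hT hW in
/-- Closing a killing step. -/
theorem finish_kill (hI : Inv (D := D) Tb S R) (hIN : Inv (D := D) Tb S N) (hstS : stS D W S = true)
    (hN : stab D W N = true) (hG : Good3 Tb fin X (S, N)) (ht : ∀ a ∈ S, t a ≠ 0) (he : Eqv X S t)
    {g g' E : GL D.Idx K} (hE : E ∈ D.posUnipotent K) (hEs : X.sig E = E) (hg : X.sig g = g)
    (h2 : Pv X.S S t * g * (Pv X.S S t * g) = 1) (e : E⁻¹ * (Pv X.S S t * g) * E = Pv X.S S t * g')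
    (hg' : X.sig g' = g' → g' ∈ HR X.S N) : Concl3 Tb fin X (Pv X.S S t * g) := by
  have hP := sig_Pv X hT hW hstS hI.nodup hI.posS hI.comm he
  have hcj : Cj1 X (Pv X.S S t * g) (Pv X.S S t * g') :=
    ⟨E⁻¹, inv_mem (sig_fixed_mem X hE hEs), by rw [inv_inv, e]⟩
  have hfix : X.sig g' = g' := by
    have h := hcj.fixed X (by rw [map_mul, hP, hg])
    rw [map_mul, hP] at h
    exact mul_left_cancel h
  obtain ⟨S', code, f1, f2, f3, f4, f5, t', f6, f7, f8⟩ :=
    hG hIN hN hstS t ht he g' (hg' hfix) hfix (hcj.sq X h2)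
  exact ⟨S', code, f1, f2, f3, f4, f5, t', f6, f7, hcj.trans X f8⟩

include hT in
theorem mem_N_two (hc : Ctx (D := D) (Tb := Tb) (W := W) S R N) {d d' : ℕ} (hd : R.testBit d = true)
    (hd' : R.testBit d' = true) (hne : d' ≠ d) (hb : ∀ r, N.testBit r = true ↔ R.testBit r = true ∧ r ∉ [d, d'])
    {g : GL D.Idx K} (h0 : Cf X R d g 0) (h0' : Cf X R d' g 0) : g ∈ HR X.S N := by
  have hdN : N.testBit d' = false := Bool.eq_false_iff.2 fun h => ((hb d').1 h).2 (by simp)
  obtain ⟨n, hn, rfl⟩ := h0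
  rw [X.S.xG_zero, one_mul] at h0' ⊢
  have hd1 : (R ^^^ 2 ^ d).testBit d' = true := (testBit_erase hd).2 ⟨hd', hne⟩
  obtain ⟨a, w, hw, rfl⟩ := split X.S hT hd1 (hc.inv.posR d' hd') (R' := N)
    (fun r => by
      rw [hb, testBit_erase hd, List.mem_cons, List.mem_singleton]
      tauto)
    (fun r hr => hc.inv.posR r (hc.sub r hr))
    (fun x hx hx1 => hc.cl d' (Or.inr hd') x hx (hc.sub _ hx1)) hn
  have : a = 0 := by
    have h1 : Cf X R d' (X.S.ok.xG d' a * w) (a + 0) := by
      refine Cf_mul X hT hc hd' hdN ?_ (Cf_N X hT hc hd' hdN hw)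
      exact ⟨1, one_mem _, by simp⟩
    rw [add_zero] at h1
    exact Cf_unique X hT hc hd' hdN h1 h0'
  rw [this, X.S.xG_zero, one_mul]
  exact hw

theorem mem_N_one {d : ℕ} (hd : R.testBit d = true) (hb : ∀ r, N.testBit r = true ↔ R.testBit r = true ∧ r ∉ [d])
    {g : GL D.Idx K} (h0 : Cf X R d g 0) : g ∈ HR X.S N := by
  obtain ⟨n, hn, rfl⟩ := h0
  rw [X.S.xG_zero, one_mul]
  have : R ^^^ 2 ^ d = N := Nat.eq_of_testBit_eq fun r => by
    rw [Bool.eq_iff_iff, testBit_erase hd, hb, List.mem_singleton]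
  rwa [this] at hn

include hT hW in
theorem pair_fixed {e : ℕ} (hpe : Pos (D := D) e) (hno : ∀ x ∈ ent D Tb e, x.1 ≠ rh D W e) (s : K) :
    X.S.ok.xG e s * X.S.ok.xG (rh D W e) (X.f s) ∈ D.posUnipotent K ∧
      X.sig (X.S.ok.xG e s * X.S.ok.xG (rh D W e) (X.f s)) = X.S.ok.xG e s * X.S.ok.xG (rh D W e) (X.f s) := by
  obtain ⟨h1, h2, -⟩ := rh_spec X hW hpe
  refine ⟨mul_mem (xG_mem_U X hpe s) (xG_mem_U X h2 _), ?_⟩
  rw [map_mul, sig_x X hW hpe, sig_x X hW h2, h1, ff X hW]
  have e1 := cn X.S hT hpe h2 s (X.f s)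
  rw [List.filter_eq_nil_iff.2 (fun x hx => by simpa using hno x hx), List.map_nil, List.prod_nil, mul_one,
    mul_assoc, inv_mul_eq_iff_eq_mul] at e1
  exact e1

variable (hc : Ctx (D := D) (Tb := Tb) (W := W) S R N) (hIN : Inv (D := D) Tb S N) (hstS : stS D W S = true)
  (ht : ∀ a ∈ S, t a ≠ 0) (he : Eqv X S t)
include hT hW hc hIN hstS ht he

theorem k11_step {d e : ℕ} (hd : R.testBit d = true)
    (hb : ∀ r, N.testBit r = true ↔ R.testBit r = true ∧ r ∉ [d]) (h : okK11 D Tb W S R N d e = true)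
    (hG : Good3 Tb fin X (S, N)) {g : GL D.Idx K} (hg : g ∈ HR X.S R) (hgs : X.sig g = g)
    (h2 : Pv X.S S t * g * (Pv X.S S t * g) = 1) : Concl3 Tb fin X (Pv X.S S t * g) := by
  simp only [okK11, Bool.and_eq_true, beq_iff_eq, List.all_eq_true] at h
  obtain ⟨⟨⟨⟨hrd, hre⟩, hh⟩, hone⟩, hfixx⟩ := h
  have hdN : N.testBit d = false := Bool.eq_false_iff.2 fun h => ((hb d).1 h).2 (by simp)
  have hpe : Pos (D := D) e := by
    simp only [okHit, Bool.and_eq_true, decide_eq_true_eq] at hh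
    exact hh.1
  obtain ⟨c, hcf⟩ := Cf_exists X hT hc hd hdN hg
  have hfc : X.f c = c := by
    have h1 := Cf_sig X hT hW hc hd hcf
    rw [hrd, hgs] at h1
    exact Cf_unique X hT hc hd hdN h1 hcf
  rcases hx : hits D Tb S e d with - | ⟨x, _ | ⟨y, L⟩⟩ <;> simp only [hx, one12] at hone hfixx
  · simp at hone
  swap
  · simp at hone
  simp only [Bool.or_eq_true, beq_iff_eq] at hone
  have hxS : x.1 ∈ S := by
    have : x ∈ hits D Tb S e d := by rw [hx]; simp
    simp only [hits, List.mem_filter, Bool.and_eq_true, List.contains_eq_mem, decide_eq_true_eq] at this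
    exact this.2.1
  have htx0 := pow_ne_zero x.2.2.2 (ht _ hxS)
  have hftx : X.f (t x.1) = t x.1 := by
    have h1 := he _ hxS
    rw [hfixx x (by simp)] at h1
    exact h1.symm
  obtain ⟨s, hs, hfs⟩ : ∃ s : K, s ^ x.2.2.1 * t x.1 ^ x.2.2.2 = c ∧ X.f s = s := by
    rcases hone with h1 | h1
    · exact ⟨c / t x.1 ^ x.2.2.2, by rw [h1, pow_one, div_mul_cancel₀ _ htx0],
        by rw [map_div₀, map_pow, hftx, hfc]⟩
    · obtain ⟨y, hy⟩ := FiniteField.isSquare_of_char_two (ringChar.eq K 2) (c / t x.1 ^ x.2.2.2)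
      refine ⟨y, by rw [h1, sq, ← hy, div_mul_cancel₀ _ htx0], ?_⟩
      have h1 : X.f y * X.f y = y * y := by rw [← map_mul, ← hy, map_div₀, map_pow, hftx, hfc]
      exact CharTwo.sq_injective (by simpa [sq] using h1)
  obtain ⟨g', hg', e', hcf'⟩ := hit_all X hT hc hh t s hg
  refine finish_kill X hT hW hc.inv hIN hstS hc.stN hG ht he (E := X.S.ok.xG e s) (xG_mem_U X hpe s)
    (by rw [sig_x X hW hpe, hre, hfs]) hgs h2 e' fun _ => ?_
  have h1 := hcf' d hd hdN c hcf
  rw [hx] at h1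
  simp only [List.map_cons, List.map_nil, List.sum_cons, List.sum_nil, add_zero, hs, CharTwo.add_self_eq_zero] at h1
  exact mem_N_one X hd hb h1

theorem k22_step {d e : ℕ} (hd : R.testBit d = true) (hd' : R.testBit (rh D W d) = true)
    (hb : ∀ r, N.testBit r = true ↔ R.testBit r = true ∧ r ∉ [d, rh D W d]) (h : okK22 D Tb W S R N d e = true)
    (hG : Good3 Tb fin X (S, N)) {g : GL D.Idx K} (hg : g ∈ HR X.S R) (hgs : X.sig g = g)
    (h2 : Pv X.S S t * g * (Pv X.S S t * g) = 1) : Concl3 Tb fin X (Pv X.S S t * g) := by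
  simp only [okK22, Bool.and_eq_true, bne_iff_ne, List.all_eq_true, List.isEmpty_iff] at h
  obtain ⟨⟨⟨⟨⟨⟨hrd, -⟩, hh⟩, hh'⟩, hno⟩, hone⟩, hemp⟩ := h
  have hdN : N.testBit d = false := Bool.eq_false_iff.2 fun h => ((hb d).1 h).2 (by simp)
  have hpe : Pos (D := D) e := by
    simp only [okHit, Bool.and_eq_true, decide_eq_true_eq] at hh
    exact hh.1
  obtain ⟨c, hcf⟩ := Cf_exists X hT hc hd hdN hg
  rcases hx : hits D Tb S e d with - | ⟨x, _ | ⟨y, L⟩⟩ <;> simp only [hx, one12] at hone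
  · simp at hone
  swap
  · simp at hone
  simp only [Bool.or_eq_true, beq_iff_eq] at hone
  have hxS : x.1 ∈ S := by
    have : x ∈ hits D Tb S e d := by rw [hx]; simp
    simp only [hits, List.mem_filter, Bool.and_eq_true, List.contains_eq_mem, decide_eq_true_eq] at this
    exact this.2.1
  have htx0 := pow_ne_zero x.2.2.2 (ht _ hxS)
  obtain ⟨s, hs⟩ : ∃ s : K, s ^ x.2.2.1 * t x.1 ^ x.2.2.2 = c := by
    rcases hone with h1 | h1
    · exact ⟨c / t x.1 ^ x.2.2.2, by rw [h1, pow_one, div_mul_cancel₀ _ htx0]⟩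
    · obtain ⟨y, hy⟩ := FiniteField.isSquare_of_char_two (ringChar.eq K 2) (c / t x.1 ^ x.2.2.2)
      exact ⟨y, by rw [h1, sq, ← hy, div_mul_cancel₀ _ htx0]⟩
  obtain ⟨g1, hg1, e1, hcf1⟩ := hit_all X hT hc hh t s hg
  obtain ⟨g2, hg2, e2, hcf2⟩ := hit_all X hT hc hh' t (X.f s) hg1
  obtain ⟨hEU, hEs⟩ := pair_fixed X hT hW hpe hno s
  refine finish_kill X hT hW hc.inv hIN hstS hc.stN hG ht he hEU hEs hgs h2 (g' := g2)
    (by rw [← e2, ← e1]; group) fun hfix => ?_
  have h1 := hcf2 d hd hdN _ (hcf1 d hd hdN c hcf)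
  rw [hemp, hx] at h1
  simp only [List.map_cons, List.map_nil, List.sum_cons, List.sum_nil, add_zero, zero_add, hs,
    CharTwo.add_self_eq_zero] at h1
  have h3 := Cf_sig X hT hW hc hd h1
  rw [hfix, map_zero] at h3
  exact mem_N_two X hT hc hd hd' hrd hb h1 h3

theorem k12_step {d e : ℕ} (hd : R.testBit d = true)
    (hb : ∀ r, N.testBit r = true ↔ R.testBit r = true ∧ r ∉ [d]) (h : okK12 D Tb W S R N d e = true)
    (hG : Good3 Tb fin X (S, N)) {g : GL D.Idx K} (hg : g ∈ HR X.S R) (hgs : X.sig g = g)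
    (h2 : Pv X.S S t * g * (Pv X.S S t * g) = 1) : Concl3 Tb fin X (Pv X.S S t * g) := by
  simp only [okK12, Bool.and_eq_true, bne_iff_ne, beq_iff_eq, List.all_eq_true] at h
  obtain ⟨⟨⟨⟨⟨hrd, -⟩, hh⟩, hh'⟩, hno⟩, hone⟩ := h
  have hdN : N.testBit d = false := Bool.eq_false_iff.2 fun h => ((hb d).1 h).2 (by simp)
  have hpe : Pos (D := D) e := by
    simp only [okHit, Bool.and_eq_true, decide_eq_true_eq] at hh
    exact hh.1
  obtain ⟨c, hcf⟩ := Cf_exists X hT hc hd hdN hg
  have hfc : X.f c = c := by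
    have h1 := Cf_sig X hT hW hc hd hcf
    rw [hrd, hgs] at h1
    exact Cf_unique X hT hc hd hdN h1 hcf
  split at hone
  case h_2 => simp at hone
  rename_i x x' hx hx'
  simp only [Bool.and_eq_true, beq_iff_eq] at hone
  obtain ⟨⟨⟨hi, hi'⟩, hj⟩, hx1⟩ := hone
  have hxS : x.1 ∈ S := by
    have : x ∈ hits D Tb S e d := by rw [hx]; simp
    simp only [hits, List.mem_filter, Bool.and_eq_true, List.contains_eq_mem, decide_eq_true_eq] at this
    exact this.2.1
  have htx0 := pow_ne_zero x.2.2.2 (ht _ hxS)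
  obtain ⟨z, hz⟩ := exists_tr X hW
  set s := c * z / t x.1 ^ x.2.2.2
  have hs : s * t x.1 ^ x.2.2.2 = c * z := div_mul_cancel₀ _ htx0
  obtain ⟨g1, hg1, e1, hcf1⟩ := hit_all X hT hc hh t s hg
  obtain ⟨g2, hg2, e2, hcf2⟩ := hit_all X hT hc hh' t (X.f s) hg1
  obtain ⟨hEU, hEs⟩ := pair_fixed X hT hW hpe hno s
  refine finish_kill X hT hW hc.inv hIN hstS hc.stN hG ht he hEU hEs hgs h2 (g' := g2)
    (by rw [← e2, ← e1]; group) fun _ => ?_
  have h1 := hcf2 d hd hdN _ (hcf1 d hd hdN c hcf)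
  rw [hx', hx] at h1
  simp only [List.map_cons, List.map_nil, List.sum_cons, List.sum_nil, add_zero] at h1
  have e3 : X.f s ^ x'.2.2.1 * t x'.1 ^ x'.2.2.2 + (s ^ x.2.2.1 * t x.1 ^ x.2.2.2 + c) = 0 := by
    rw [hi, hi', hj, hx1, he _ hxS, pow_one, pow_one, ← map_pow, ← map_mul, hs, map_mul, hfc, ← add_assoc,
      ← mul_add, add_comm (X.f z), hz, mul_one, CharTwo.add_self_eq_zero]
  rw [e3] at h1
  exact mem_N_one X hd hb h1

theorem line_step {d e m : ℕ} (hd : R.testBit d = true) (hd' : R.testBit (rh D W d) = true)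
    (hb : ∀ r, N.testBit r = true ↔ R.testBit r = true ∧ r ∉ [d, rh D W d])
    (h : okLine D Tb W S R N d e m = true)
    (hG : Good3 Tb fin X (S, N)) {g : GL D.Idx K} (hg : g ∈ HR X.S R) (hgs : X.sig g = g)
    (h2 : Pv X.S S t * g * (Pv X.S S t * g) = 1) : Concl3 Tb fin X (Pv X.S S t * g) := by
  simp only [okLine, Bool.and_eq_true, bne_iff_ne, beq_iff_eq, List.all_eq_true, Bool.not_eq_true',
    Bool.and_eq_false_iff, Bool.or_eq_false_iff, List.contains_eq_mem, decide_eq_false_iff_not] at h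
  obtain ⟨⟨⟨⟨⟨⟨hrd, hre⟩, hh⟩, hdd⟩, hmN⟩, hprs⟩, hmatch⟩ := h
  set d' := rh D W d with hd'def
  have hdN : N.testBit d = false := Bool.eq_false_iff.2 fun h => ((hb d).1 h).2 (by simp)
  have hdN' : N.testBit d' = false := Bool.eq_false_iff.2 fun h => ((hb d').1 h).2 (by simp)
  have hpe : Pos (D := D) e := by
    simp only [okHit, Bool.and_eq_true, decide_eq_true_eq] at hh
    exact hh.1
  split at hmatch
  case h_2 => simp at hmatch
  rename_i x1 x2 y1 y2 hx1 hx2 hy1 hy2
  simp only [Bool.and_eq_true, beq_iff_eq, decide_eq_true_eq] at hmatch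
  obtain ⟨⟨⟨ha1, ha2⟩, hrho⟩, hij1, hij2, hij3, hij4⟩ := hmatch
  simp only [Prod.ext_iff] at hij1 hij2 hij3 hij4
  obtain ⟨c, hcf⟩ := Cf_exists X hT hc hd hdN hg
  have hcf' : Cf X R d' g (X.f c) := by
    have h1 := Cf_sig X hT hW hc hd hcf
    rwa [hgs] at h1
  -- the decomposition of the element
  have hd1 : (R ^^^ 2 ^ d).testBit d' = true := (testBit_erase hd).2 ⟨hd', hrd⟩
  have hmR : R.testBit m = true := hc.sub m hmN
  obtain ⟨g1, hg1, hge⟩ := hcf
  obtain ⟨c', g2, hg2, rfl⟩ := split X.S hT hd1 (hc.inv.posR d' hd') (R' := N)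
    (fun r => by rw [hb, testBit_erase hd, List.mem_cons, List.mem_singleton]; tauto)
    (fun r hr => hc.inv.posR r (hc.sub r hr))
    (fun x hx hx1 => hc.cl d' (Or.inr hd') x hx (hc.sub _ hx1)) hg1
  set N2 := N ^^^ 2 ^ m
  have hbN2 : ∀ r, N2.testBit r = true ↔ N.testBit r = true ∧ r ≠ m := fun r => testBit_erase hmN
  have hpN2 : ∀ r, N2.testBit r = true → Pos (D := D) r := fun r hr =>
    hc.inv.posR r (hc.sub r ((hbN2 r).1 hr).1)
  have hcl2 : ∀ a, (a ∈ S ∨ R.testBit a = true) → ∀ x ∈ ent D Tb a, N2.testBit x.1 = true →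
      N2.testBit x.2.1 = true := by
    intro a ha x hx hx1
    refine (hbN2 _).2 ⟨hc.cl a ha x hx (hc.sub _ ((hbN2 _).1 hx1).1), fun e => ?_⟩
    have hmem := (ent_spec hT (ha.elim (hc.inv.posS a) (hc.inv.posR a)) hx).2.2.2.2.2
    rw [e] at hmem
    rcases hprs _ hmem with h | ⟨h1, h2⟩
    · simp [hx1] at h
    · rcases ha with ha | ha
      · exact h1 ha
      · simp [ha] at h2
  obtain ⟨em, w, hw, hg2e⟩ := split X.S hT hmN (hc.inv.posR m hmR) hbN2 hpN2 (hcl2 m (Or.inr hmR)) hg2
  -- the quotient by the remaining roots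
  set Nh : Subgroup (GL D.Idx K) := HR X.S N2
  set Nz := Subgroup.normalizer (Nh : Set (GL D.Idx K))
  have hxz : ∀ a, (a ∈ S ∨ R.testBit a = true) → ∀ u, X.S.ok.xG a u ∈ Nz := by
    intro a ha u
    have hpa : Pos (D := D) a := ha.elim (hc.inv.posS a) (hc.inv.posR a)
    have hinv : (X.S.ok.xG a u)⁻¹ = X.S.ok.xG a u := by rw [X.S.ok.xG_inv, CharTwo.neg_eq]
    refine Subgroup.mem_normalizer_iff.2 fun h => ⟨fun hh => ?_, fun hh => ?_⟩
    · have h1 := conj_HR X.S hT hpa hpN2 (hcl2 a ha) u hh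
      rw [hinv] at h1 ⊢
      exact h1
    · have h1 := conj_HR X.S hT hpa hpN2 (hcl2 a ha) u hh
      simpa [mul_assoc] using h1
  have hRz : HR X.S R ≤ Nz := (Subgroup.closure_le _).2 fun z ⟨r, hr, u, e⟩ => e ▸ hxz r (Or.inr hr) u
  have hPz : ∀ Q : List ℕ, (∀ a ∈ Q, a ∈ S) → Pv X.S Q t ∈ Nz := fun Q hQ => list_prod_mem fun z hz => by
    obtain ⟨a, ha, rfl⟩ := List.mem_map.1 hz
    exact hxz a (Or.inl (hQ a ha)) _
  haveI : (Nh.subgroupOf Nz).Normal := Subgroup.normal_in_normalizer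
  let π := QuotientGroup.mk' (Nh.subgroupOf Nz)
  have π1 : ∀ {y : GL D.Idx K} (hy : y ∈ Nz), y ∈ Nh → π ⟨y, hy⟩ = 1 := fun hy h =>
    (QuotientGroup.eq_one_iff _).2 h
  let p : {a // a ∈ S ∨ R.testBit a = true} → K → ↥Nz ⧸ Nh.subgroupOf Nz := fun a u =>
    π ⟨X.S.ok.xG a.1 u, hxz a.1 a.2 u⟩
  let md : {a // a ∈ S ∨ R.testBit a = true} := ⟨d, Or.inr hd⟩
  let md' : {a // a ∈ S ∨ R.testBit a = true} := ⟨d', Or.inr hd'⟩
  let mm : {a // a ∈ S ∨ R.testBit a = true} := ⟨m, Or.inr hmR⟩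
  have p_mul : ∀ a u u', p a u * p a u' = p a (u + u') := fun a u u' => by
    simp only [p, ← map_mul]; exact congrArg π (Subtype.ext (X.S.ok.xG_mul a.1 u u'))
  have p_zero : ∀ a, p a 0 = 1 := fun a => π1 _ (by rw [X.S.xG_zero]; exact one_mem _)
  have conj_terms : ∀ (a b : {a // a ∈ S ∨ R.testBit a = true}) (s u : K), R.testBit b.1 = true →
      (p a s)⁻¹ * p b u * p a s = p b u * p mm ((((ent D Tb a.1).filter fun x => x.1 == b.1)).map fun x =>
        if x.2.1 = m then s ^ x.2.2.1 * u ^ x.2.2.2 else 0).sum := by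
    intro a b s u hbR
    have hpa : Pos (D := D) a.1 := a.2.elim (hc.inv.posS _) (hc.inv.posR _)
    obtain ⟨w1, hw1, e1⟩ := terms_prod X.S hT (hc.inv.posR m hmR) hpN2 (hcl2 m (Or.inr hmR))
      (((ent D Tb a.1).filter fun x => x.1 == b.1).map fun x => (x.2.1, s ^ x.2.2.1 * u ^ x.2.2.2))
      (fun q hq => by
        simp only [List.mem_map, List.mem_filter, beq_iff_eq] at hq
        obtain ⟨x, ⟨hx, hxb⟩, rfl⟩ := hq
        by_cases hxm : x.2.1 = m
        · exact Or.inl hxm
        · exact Or.inr ((hbN2 _).2 ⟨hc.cl a.1 a.2 x hx (hxb ▸ hbR), hxm⟩))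
    simp only [List.map_map, Function.comp_def] at e1
    simp only [p, ← map_inv, ← map_mul]
    refine QuotientGroup.eq.2 ?_
    rw [Subgroup.mem_subgroupOf]
    simp only [Subgroup.coe_mul, Subgroup.coe_inv]
    rw [cn X.S hT hpa (hc.inv.posR _ hbR) s u]
    simp only [e1]
    have : ∀ A B : GL D.Idx K, (A * (B * w1))⁻¹ * (A * B) = w1⁻¹ := fun A B => by group
    rw [this]
    exact inv_mem hw1
  have m_comm : ∀ a u u', Commute (p mm u) (p a u') := by
    intro a u u'
    have e1 := conj_terms a mm u' u hmR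
    rw [List.sum_eq_zero (fun z hz => by
      obtain ⟨x, hx, rfl⟩ := List.mem_map.1 hz
      simp only [List.mem_filter, beq_iff_eq] at hx
      have := (ent_spec hT (a.2.elim (hc.inv.posS _) (hc.inv.posR _)) hx.1).2.2.2.2.1
      rw [if_neg (by have := hx.2; simp only [mm] at this; omega)]), p_zero, mul_one, mul_assoc,
      inv_mul_eq_iff_eq_mul] at e1
    exact e1
  let val : ℕ → ℕ → K → K := fun a b u => (((ent D Tb a).filter fun x => x.1 == b).map fun x =>
    if x.2.1 = m then t a ^ x.2.2.1 * u ^ x.2.2.2 else 0).sum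
  have passQ : ∀ (b : {a // a ∈ S ∨ R.testBit a = true}), R.testBit b.1 = true → ∀ u, ∀ (Q : List ℕ)
      (hQ : ∀ a ∈ Q, a ∈ S), (π ⟨_, hPz Q hQ⟩)⁻¹ * p b u * π ⟨_, hPz Q hQ⟩ =
        p b u * p mm (Q.map fun a => val a b.1 u).sum := by
    intro b hbR u Q
    induction Q with
    | nil =>
      intro hQ
      rw [π1 (hPz [] hQ) (by simp [Pv, one_mem])]
      simp [p_zero]
    | cons a Q ih =>
      intro hQ
      have hQ' : ∀ q ∈ Q, q ∈ S := fun q hq => hQ q (List.mem_cons_of_mem _ hq)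
      have ea : π ⟨_, hPz (a :: Q) hQ⟩ = p ⟨a, Or.inl (hQ a (by simp))⟩ (t a) * π ⟨_, hPz Q hQ'⟩ := by
        rw [← map_mul]; exact congrArg π (Subtype.ext (by simp [Pv]))
      rw [ea, mul_inv_rev, show ∀ A B C : ↥Nz ⧸ Nh.subgroupOf Nz, A⁻¹ * B⁻¹ * C * (B * A) = A⁻¹ * (B⁻¹ * C * B) * A
        from fun A B C => by group, conj_terms _ b _ _ hbR, show ∀ A B C : ↥Nz ⧸ Nh.subgroupOf Nz,
        A⁻¹ * (B * C) * A = (A⁻¹ * B * A) * (A⁻¹ * C * A) from fun A B C => by group, ih hQ']
      have hcm : Commute (p mm (val a b.1 u)) (π ⟨_, hPz Q hQ'⟩) := by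
        have hle : ∀ Q' : List ℕ, ∀ hQ' : (∀ q ∈ Q', q ∈ S), Commute (p mm (val a b.1 u)) (π ⟨_, hPz Q' hQ'⟩) := by
          intro Q'
          induction Q' with
          | nil => intro hQ'; rw [π1 (hPz [] hQ') (by simp [Pv, one_mem])]; exact Commute.one_right _
          | cons q Q' ihq =>
            intro hQ'
            have eq : π ⟨_, hPz (q :: Q') hQ'⟩ = p ⟨q, Or.inl (hQ' q (by simp))⟩ (t q) *
                π ⟨_, hPz Q' fun z hz => hQ' z (List.mem_cons_of_mem _ hz)⟩ := by
              rw [← map_mul]; exact congrArg π (Subtype.ext (by simp [Pv]))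
            rw [eq]; exact (m_comm _ _ _).mul_right (ihq fun z hz => hQ' z (List.mem_cons_of_mem _ hz))
        exact hle Q hQ'
      rw [show (π ⟨_, hPz Q hQ'⟩)⁻¹ * p mm (val a b.1 u) * π ⟨_, hPz Q hQ'⟩ = p mm (val a b.1 u) by
        rw [mul_assoc, hcm.eq, ← mul_assoc, inv_mul_cancel, one_mul]]
      rw [List.map_cons, List.sum_cons, mul_assoc, p_mul, add_comm]
  have hPS := hPz S fun _ h => h
  set P := π ⟨_, hPS⟩
  have hgz : g ∈ Nz := hRz hg
  have hgq : π ⟨g, hgz⟩ = p md c * p md' c' * p mm em := by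
    simp only [p, ← map_mul]
    refine QuotientGroup.eq.2 ?_
    rw [Subgroup.mem_subgroupOf]
    simp only [Subgroup.coe_mul, Subgroup.coe_inv, hge, hg2e, md, md', mm]
    convert inv_mem hw using 1
    group
  have hc'eq : c' = X.f c := by
    have h1 : Cf X R d' g (0 + (c' + 0)) := by
      rw [hge]
      refine Cf_mul X hT hc hd' hdN' ?_ (Cf_mul X hT hc hd' hdN' ⟨1, one_mem _, by simp⟩ (Cf_N X hT hc hd' hdN' hg2))
      exact Cf_of_mem X hT hc hd' (xG_mem_HR X.S ((testBit_erase hd').2 ⟨hd, fun h => hrd h.symm⟩) c)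
    rw [zero_add, add_zero] at h1
    exact Cf_unique X hT hc hd' hdN' h1 hcf'
  have hPP : P * P = 1 := by
    rw [← map_mul]
    exact π1 _ (by simp only [Subgroup.coe_mul]; rw [Pv_sq X.S hT S hc.inv.posS hc.inv.comm t S fun _ h => h]; exact one_mem _)
  have hdd' : Commute (p md c) (p md' c') := by
    have e1 := conj_terms md md' c c' hd'
    rw [List.filter_eq_nil_iff.2 (fun x hx => by simpa [md, md'] using hdd x hx), List.map_nil, List.sum_nil,
      p_zero, mul_one, mul_assoc, inv_mul_eq_iff_eq_mul] at e1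
    exact e1.symm
  have hsq : (P * π ⟨g, hgz⟩) * (P * π ⟨g, hgz⟩) = 1 := by
    rw [← map_mul, ← map_mul]
    exact π1 _ (by simp only [Subgroup.coe_mul]; rw [h2]; exact one_mem _)
  set σ := (S.map fun a => val a d c).sum + (S.map fun a => val a d' c').sum
  have hmain : p mm σ = 1 := by
    have e1 : P⁻¹ * π ⟨g, hgz⟩ * P = p md c * p md' c' * p mm em * p mm σ := by
      have hcm : Commute (p mm em) P := by
        have e2 := passQ mm hmR em S fun _ h => h
        rw [List.sum_eq_zero (fun z hz => by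
          obtain ⟨a, ha, rfl⟩ := List.mem_map.1 hz
          refine List.sum_eq_zero fun z hz => ?_
          obtain ⟨x, hx, rfl⟩ := List.mem_map.1 hz
          simp only [List.mem_filter, beq_iff_eq] at hx
          have := (ent_spec hT (hc.inv.posS a ha) hx.1).2.2.2.2.1
          exact if_neg (by have := hx.2; simp only [mm] at this; omega)), p_zero, mul_one, mul_assoc,
          inv_mul_eq_iff_eq_mul] at e2
        exact e2
      rw [hgq, show ∀ A B C E : ↥Nz ⧸ Nh.subgroupOf Nz, E⁻¹ * (A * B * C) * E =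
          (E⁻¹ * A * E) * (E⁻¹ * B * E) * (E⁻¹ * C * E) from fun A B C E => by group,
        passQ md hd c S (fun _ h => h), passQ md' hd' c' S (fun _ h => h),
        show P⁻¹ * p mm em * P = p mm em by rw [mul_assoc, hcm.eq, ← mul_assoc, inv_mul_cancel, one_mul]]
      have a1 := (m_comm md' (S.map fun a => val a d c).sum c').eq
      simp only [σ, ← p_mul, mul_assoc]
      congr 1
      rw [← mul_assoc, a1, mul_assoc]
      congr 1
      rw [p_mul, p_mul, p_mul, p_mul]
      congr 1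
      ring
    have e2 : (P * π ⟨g, hgz⟩) * (P * π ⟨g, hgz⟩) = P * P * (P⁻¹ * π ⟨g, hgz⟩ * P) * π ⟨g, hgz⟩ := by group
    rw [hsq, hPP, one_mul, e1, hgq] at e2
    have a1 : Commute (p mm σ) (p md c * p md' c' * p mm em) :=
      ((m_comm md σ c).mul_right (m_comm md' σ c')).mul_right (m_comm mm σ em)
    have a2 : (p md c * p md' c' * p mm em) * (p md c * p md' c' * p mm em) = 1 := by
      have b1 : Commute (p md c * p md' c') (p mm em) := ((m_comm md em c).mul_right (m_comm md' em c')).symm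
      rw [b1.symm.mul_mul_mul_comm, hdd'.symm.mul_mul_mul_comm, p_mul, p_mul, p_mul, CharTwo.add_self_eq_zero,
        CharTwo.add_self_eq_zero, CharTwo.add_self_eq_zero, p_zero, p_zero, p_zero, mul_one, mul_one]
    rw [mul_assoc, a1.eq, ← mul_assoc, a2, one_mul] at e2
    exact e2.symm
  have hσ : σ = 0 := by
    have h1 := (QuotientGroup.eq_one_iff _).1 hmain
    rw [Subgroup.mem_subgroupOf] at h1
    exact HR_inj X.S hT (hc.inv.posR m hmR) σ (N2 + 1) N2 (Nat.lt_succ_self _) hpN2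
      (fun a ha => hcl2 a (Or.inr (hc.sub a ((hbN2 a).1 ha).1)))
      (Bool.eq_false_iff.2 fun h => ((hbN2 m).1 h).2 rfl) h1
  have hval : ∀ b u, ∀ Q : List ℕ, (Q.map fun a => val a b u).sum = ((Q.flatMap fun a =>
      ((ent D Tb a).filter fun x => (x.1 == b) && (x.2.1 == m)).map fun x => (a, x)).map fun q =>
        t q.1 ^ q.2.2.2.1 * u ^ q.2.2.2.2).sum := by
    intro b u Q
    have one : ∀ a, val a b u = (((ent D Tb a).filter fun x => (x.1 == b) && (x.2.1 == m)).map fun x =>
        t a ^ x.2.2.1 * u ^ x.2.2.2).sum := by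
      intro a
      simp only [val]
      induction ent D Tb a with
      | nil => simp
      | cons y L ihL =>
        by_cases h1 : y.1 = b <;> by_cases h2 : y.2.1 = m <;> simp [List.filter_cons, h1, h2] at ihL ⊢ <;> exact ihL
    simp only [one]
    induction Q with
    | nil => simp
    | cons a Q ihS => simp [List.flatMap_cons, List.map_map, Function.comp_def, List.sum_append, ← ihS]
  simp only [σ, hval, hy1, hy2, List.map_cons, List.map_nil, List.sum_cons, List.sum_nil, add_zero] at hσ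
  rw [hij3.1, hij3.2, hij4.1, hij4.2, pow_one, pow_one, pow_one, pow_one, ha1, ha2, hc'eq] at hσ
  have hx1S : x1.1 ∈ S := by
    have : x1 ∈ hits D Tb S e d := by rw [hx1]; simp
    simp only [hits, List.mem_filter, Bool.and_eq_true, List.contains_eq_mem, decide_eq_true_eq] at this
    exact this.2.1
  have hx2S : x2.1 ∈ S := by
    have : x2 ∈ hits D Tb S e d' := by rw [hx2]; simp
    simp only [hits, List.mem_filter, Bool.and_eq_true, List.contains_eq_mem, decide_eq_true_eq] at this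
    exact this.2.1
  rw [ha1, ha2] at hrho
  have et : t x1.1 = X.f (t x2.1) := by rw [← hrho]; exact he _ hx2S
  have et' : X.f (t x1.1) = t x2.1 := by rw [et, ff X hW]
  have hrel : t x2.1 * c = t x1.1 * X.f c := CharTwo.add_eq_zero.1 hσ
  set s := c / t x1.1
  have hs : s * t x1.1 = c := div_mul_cancel₀ _ (ht _ hx1S)
  have hs' : s * t x2.1 = X.f c := by
    rw [div_mul_eq_mul_div, div_eq_iff (ht _ hx1S), mul_comm c, hrel, mul_comm]
  have hfs : X.f s = s := by
    rw [map_div₀, et', div_eq_iff (ht _ hx2S)]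
    exact hs'.symm
  obtain ⟨g', hg', e', hcfn⟩ := hit_all X hT hc hh t s hg
  refine finish_kill X hT hW hc.inv hIN hstS hc.stN hG ht he (E := X.S.ok.xG e s) (xG_mem_U X hpe s)
    (by rw [sig_x X hW hpe, hre, hfs]) hgs h2 e' fun _ => ?_
  have k1 := hcfn d hd hdN c ⟨_, hg1, hge⟩
  have k2 := hcfn d' hd' hdN' (X.f c) hcf'
  rw [hx1] at k1
  rw [hx2] at k2
  simp only [List.map_cons, List.map_nil, List.sum_cons, List.sum_nil, add_zero, hij1.1, hij1.2, hij2.1, hij2.2,
    pow_one, hs, hs', CharTwo.add_self_eq_zero] at k1 k2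
  exact mem_N_two X hT hc hd hd' hrd hb k1 k2

end Steps

include hT hW in
theorem sound3 : ∀ (L : List ℕ) (st : List (List ℕ × ℕ)), run3 D Tb W fin st L = some [] →
    ∀ x ∈ st, Good3 Tb fin X x := by
  intro L
  induction L with
  | nil => intro st h x hx; simp [run3] at h; simp [h] at hx
  | cons c L ih =>
    rintro (_ | ⟨⟨S, R⟩, st⟩) h x hx
    · simp at hx
    rw [run3] at h
    obtain ⟨p, hp, h'⟩ := Option.bind_eq_some_iff.1 h
    have hG := ih _ h'
    rcases List.mem_cons.1 hx with rfl | hx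
    swap
    · exact hG x (List.mem_append_right _ hx)
    intro hI hstR hstS t ht he v hv hvs h2
    simp only at hI hstR hstS ht he hv h2 ⊢
    rw [step3] at hp
    dsimp only at hp
    by_cases hR : R = 0
    · subst hR
      simp only [beq_self_eq_true, if_true] at hp
      split_ifs at hp with hf
      have hv1 : v = 1 := by
        have : HR (K := K) X.S 0 ≤ ⊥ := (Subgroup.closure_le _).2 fun g ⟨r, hr, _⟩ => by simp at hr
        exact Subgroup.mem_bot.1 (this hv)
      exact ⟨S, c, hf, hstS, hI.nodup, hI.posS, hI.comm, t, ht, he, by rw [hv1, mul_one]; exact Cj1.refl X _⟩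
    rw [if_neg (by simpa using hR)] at hp
    set d := c / 8 % 256
    set d' := rh D W d with hd'def
    simp only [Bool.and_eq_true, beq_iff_eq, bne_iff_ne] at hp
    split_ifs at hp with k0 c0 k1 c1 k2 c2 k3 c3 k4 c4 k5 c5 k6 c6 c7
    all_goals
      obtain rfl := Option.some.inj hp
    · obtain ⟨⟨hrem, hf⟩, hst⟩ := c0
      obtain ⟨-, -, hI', -⟩ := rem_spec hT hI hrem
      exact hG (S, _) (by simp) hI' hst hstS t ht he v (force2_step X.S hT hI hrem hf ht hv h2) hvs h2
    · obtain ⟨⟨⟨⟨hrem, hf⟩, hrem'⟩, hf'⟩, hst⟩ := c1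
      obtain ⟨-, -, hI', -⟩ := rem_spec hT hI hrem
      obtain ⟨-, -, hI'', -⟩ := rem_spec hT hI' hrem'
      exact hG (S, _) (by simp) hI'' hst hstS t ht he v
        (force2_step X.S hT hI' hrem' hf' ht (force2_step X.S hT hI hrem hf ht hv h2) h2) hvs h2
    · obtain ⟨hdrop, hk⟩ := c2
      obtain ⟨hc, hU, hb, hIN⟩ := ctx_of_drop hT hI hstR hdrop
      exact k11_step X hT hW hc hIN hstS ht he (hU d (by simp)) hb hk (hG _ (by simp)) hv hvs h2
    · obtain ⟨hdrop, hk⟩ := c3
      obtain ⟨hc, hU, hb, hIN⟩ := ctx_of_drop hT hI hstR hdrop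
      exact k22_step X hT hW hc hIN hstS ht he (hU d (by simp)) (hU d' (by simp)) hb hk (hG _ (by simp)) hv hvs h2
    · obtain ⟨hdrop, hk⟩ := c4
      obtain ⟨hc, hU, hb, hIN⟩ := ctx_of_drop hT hI hstR hdrop
      exact k12_step X hT hW hc hIN hstS ht he (hU d (by simp)) hb hk (hG _ (by simp)) hv hvs h2
    · obtain ⟨hdrop, hk⟩ := c5
      obtain ⟨hc, hU, hb, hIN⟩ := ctx_of_drop hT hI hstR hdrop
      exact line_step X hT hW hc hIN hstS ht he (hU d (by simp)) (hU d' (by simp)) hb hk (hG _ (by simp)) hv hvs h2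
    all_goals
      simp only [stS, List.all_eq_true, List.contains_eq_mem, decide_eq_true_eq] at hstS
      have hstS' : stS D W S = true := by
        simp only [stS, List.all_eq_true, List.contains_eq_mem, decide_eq_true_eq]; exact hstS
      have hP := sig_Pv X hT hW hstS' hI.nodup hI.posS hI.comm he
    · obtain ⟨⟨hdrop, hrd⟩, hbr⟩ := c6
      obtain ⟨hc, hU, hb, hIN⟩ := ctx_of_drop hT hI hstR hdrop
      have hd := hU d (by simp)
      have hdN : (R ^^^ 2 ^ d).testBit d = false := Bool.eq_false_iff.2 fun h => ((hb d).1 h).2 (by simp)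
      obtain ⟨a, hcf⟩ := Cf_exists X hT hc hd hdN hv
      have hfa : X.f a = a := by
        have h1 := Cf_sig X hT hW hc hd hcf
        rw [show rh D W d = d from hrd, hvs] at h1
        exact Cf_unique X hT hc hd hdN h1 hcf
      obtain ⟨v₀, hv₀, rfl⟩ := hcf
      have hx : X.sig (X.S.ok.xG d a) = X.S.ok.xG d a := by
        rw [sig_x X hW (hI.posR d hd), show rh D W d = d from hrd, hfa]
      have hv₀s : X.sig v₀ = v₀ := by
        rw [map_mul, hx] at hvs
        exact mul_left_cancel hvs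
      rcases eq_or_ne a 0 with rfl | ha
      · rw [X.S.xG_zero, one_mul] at h2 ⊢
        exact hG (S, _) (by simp) hIN hc.stN hstS' t ht he v₀ hv₀ hv₀s h2
      simp only [okBranch, Bool.and_eq_true, Bool.not_eq_true', List.all_eq_true, List.contains_eq_mem,
        decide_eq_false_iff_not, bne_iff_ne] at hbr
      obtain ⟨⟨hdS, hdc'⟩, hSd⟩ := hbr
      have hI'' : Inv (D := D) Tb (d :: S) (R ^^^ 2 ^ d) := by
        refine ⟨List.forall_mem_cons.2 ⟨hI.posR d hd, hI.posS⟩, hIN.posR, List.nodup_cons.2 ⟨hdS, hI.nodup⟩, ?_, ?_⟩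
        · intro b hb' x hx hx'
          rcases List.mem_cons.1 hb' with rfl | hb' <;> rcases List.mem_cons.1 hx' with hxd | hxS
          · exact (ent_spec hT (hI.posR _ hd) hx).2.2.1 hxd
          · exact hdc' x hx hxS
          · exact hSd b hb' x hx hxd
          · exact hI.comm b hb' x hx hxS
        · intro b hb' x hx hx'
          refine hc.cl b ?_ x hx (hc.sub _ hx')
          rcases hb' with hb' | hb'
          · rcases List.mem_cons.1 hb' with rfl | hb'
            exacts [Or.inr hd, Or.inl hb']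
          · exact Or.inr (hc.sub _ hb')
      set t' := Function.update t d a
      have hne : ∀ r ∈ S, r ≠ d := fun r hr e => hdS (e ▸ hr)
      have hS' : Pv X.S S t' = Pv X.S S t := by
        simp only [Pv]
        refine congrArg List.prod (List.map_congr_left fun r hr => ?_)
        simp only [t']
        rw [Function.update_of_ne (hne r hr)]
      have hcomm : Commute (X.S.ok.xG d a) (Pv X.S S t) := Commute.list_prod_right _ _ fun y hy => by
        obtain ⟨b, hb', rfl⟩ := List.mem_map.1 hy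
        exact set_commute X.S hT hI''.posS hI''.comm List.mem_cons_self (List.mem_cons_of_mem _ hb') _ _
      have hPv : Pv X.S (d :: S) t' * v₀ = Pv X.S S t * (X.S.ok.xG d a * v₀) := by
        simp only [Pv, List.map_cons, List.prod_cons, t', Function.update_self] at hS' hcomm ⊢
        rw [hS', ← mul_assoc, hcomm.eq]
      rw [← hPv] at h2 ⊢
      refine hG (d :: S, _) (by simp) hI'' hc.stN ?_ t' ?_ ?_ v₀ hv₀ hv₀s h2
      · simp only [stS, List.all_eq_true, List.contains_eq_mem, decide_eq_true_eq]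
        intro b hb'
        rcases List.mem_cons.1 hb' with rfl | hb'
        · rw [show rh D W d = d from hrd]; exact List.mem_cons_self
        · exact List.mem_cons_of_mem _ (hstS b hb')
      · intro b hb'
        rcases List.mem_cons.1 hb' with rfl | hb'
        · simpa [t'] using ha
        · simp only [t']; rw [Function.update_of_ne (hne b hb')]; exact ht b hb'
      · intro b hb'
        rcases List.mem_cons.1 hb' with rfl | hb'
        · rw [show rh D W d = d from hrd]; simp [t', hfa]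
        · simp only [t']
          rw [Function.update_of_ne (hne b hb'), Function.update_of_ne (hne _ (hstS b hb'))]
          exact he b hb'
    · obtain ⟨⟨⟨hdrop, hrd⟩, hbr⟩, hbr'⟩ := c7
      obtain ⟨hc, hU, hb, hIN⟩ := ctx_of_drop hT hI hstR hdrop
      have hd := hU d (by simp)
      have hd' := hU d' (by simp)
      set N := (R ^^^ 2 ^ d) ^^^ 2 ^ d'
      have hdN' : N.testBit d' = false := Bool.eq_false_iff.2 fun h => ((hb d').1 h).2 (by simp)
      have hdN : N.testBit d = false := Bool.eq_false_iff.2 fun h => ((hb d).1 h).2 (by simp)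
      obtain ⟨a, hcf⟩ := Cf_exists X hT hc hd hdN hv
      have hcf' : Cf X R d' v (X.f a) := by
        have h1 := Cf_sig X hT hW hc hd hcf
        rwa [hvs] at h1
      obtain ⟨v1, hv1, rfl⟩ := hcf
      have hd1 : (R ^^^ 2 ^ d).testBit d' = true := (testBit_erase hd).2 ⟨hd', hrd⟩
      obtain ⟨a', v₀, hv₀, rfl⟩ := split X.S hT hd1 (hI.posR d' hd') (R' := N) (fun r => testBit_erase hd1)
        (fun r hr => hI.posR r (hc.sub r hr)) (fun x hx hx1 => hc.cl d' (Or.inr hd') x hx (hc.sub _ hx1)) hv1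
      have ha' : a' = X.f a := by
        have h1 : Cf X R d' (X.S.ok.xG d a * (X.S.ok.xG d' a' * v₀)) (0 + (a' + 0)) :=
          Cf_mul X hT hc hd' hdN'
            (Cf_of_mem X hT hc hd' (xG_mem_HR X.S ((testBit_erase hd').2 ⟨hd, fun h => hrd h.symm⟩) a))
            (Cf_mul X hT hc hd' hdN' ⟨1, one_mem _, by simp⟩ (Cf_N X hT hc hd' hdN' hv₀))
        rw [zero_add, add_zero] at h1
        exact Cf_unique X hT hc hd' hdN' h1 hcf'
      simp only [okBranch, Bool.and_eq_true, Bool.not_eq_true', List.all_eq_true, List.contains_eq_mem,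
        decide_eq_false_iff_not, bne_iff_ne] at hbr hbr'
      obtain ⟨⟨hdS, hdc'⟩, hSd⟩ := hbr
      obtain ⟨⟨hdS', hdc''⟩, hSd'⟩ := hbr'
      have hne : ∀ r ∈ S, r ≠ d ∧ r ≠ d' := fun r hr =>
        ⟨fun e => hdS (e ▸ hr), fun e => hdS' (e ▸ List.mem_cons_of_mem _ hr)⟩
      have hI'' : Inv (D := D) Tb (d' :: d :: S) N := by
        refine ⟨List.forall_mem_cons.2 ⟨hI.posR d' hd', List.forall_mem_cons.2 ⟨hI.posR d hd, hI.posS⟩⟩, hIN.posR,
          List.nodup_cons.2 ⟨hdS', List.nodup_cons.2 ⟨hdS, hI.nodup⟩⟩, ?_, ?_⟩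
        · intro b hb' x hx hx'
          rcases List.mem_cons.1 hb' with rfl | hb'
          · rcases List.mem_cons.1 hx' with hxd | hxS
            · exact (ent_spec hT (hI.posR _ hd') hx).2.2.1 hxd
            · exact hdc'' x hx hxS
          · rcases List.mem_cons.1 hx' with hxd | hxS
            · exact hSd' b hb' x hx hxd
            · rcases List.mem_cons.1 hb' with rfl | hb' <;> rcases List.mem_cons.1 hxS with hxd | hxS
              · exact (ent_spec hT (hI.posR _ hd) hx).2.2.1 hxd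
              · exact hdc' x hx hxS
              · exact hSd b hb' x hx hxd
              · exact hI.comm b hb' x hx hxS
        · intro b hb' x hx hx'
          refine hc.cl b ?_ x hx (hc.sub _ hx')
          rcases hb' with hb' | hb'
          · rcases List.mem_cons.1 hb' with rfl | hb'
            · exact Or.inr hd'
            · rcases List.mem_cons.1 hb' with rfl | hb'
              exacts [Or.inr hd, Or.inl hb']
          · exact Or.inr (hc.sub _ hb')
      have hx : X.sig (X.S.ok.xG d a * X.S.ok.xG d' a') = X.S.ok.xG d a * X.S.ok.xG d' a' := by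
        rw [map_mul, sig_x X hW (hI.posR d hd), sig_x X hW (hI.posR d' hd'),
          (rh_spec X hW (hI.posR d hd)).1, ← hd'def, ha', ff X hW]
        exact set_commute X.S hT hI''.posS hI''.comm List.mem_cons_self (by simp) _ _
      have hv₀s : X.sig v₀ = v₀ := by
        rw [← mul_assoc, map_mul, hx] at hvs
        exact mul_left_cancel hvs
      rcases eq_or_ne a 0 with rfl | ha
      · rw [ha', map_zero, X.S.xG_zero, X.S.xG_zero, one_mul, one_mul] at h2 ⊢
        exact hG (S, _) (by simp [N]) hIN hc.stN hstS' t ht he v₀ hv₀ hv₀s h2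
      set t' := Function.update (Function.update t d a) d' a'
      have ht'd : t' d = a := by simp [t', Function.update_of_ne (Ne.symm hrd)]
      have ht'd' : t' d' = a' := by simp [t']
      have ht'S : ∀ r ∈ S, t' r = t r := fun r hr => by
        simp only [t']; rw [Function.update_of_ne (hne r hr).2, Function.update_of_ne (hne r hr).1]
      have hS' : Pv X.S S t' = Pv X.S S t := by
        simp only [Pv]
        exact congrArg List.prod (List.map_congr_left fun r hr => by rw [ht'S r hr])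
      have hcd : ∀ b ∈ d' :: d :: S, ∀ u, Commute (X.S.ok.xG b u) (Pv X.S S t) := fun b hb' u =>
        Commute.list_prod_right _ _ fun y hy => by
          obtain ⟨r, hr, rfl⟩ := List.mem_map.1 hy
          exact set_commute X.S hT hI''.posS hI''.comm hb' (by simp [hr]) _ _
      have hPv : Pv X.S (d' :: d :: S) t' * v₀ =
          Pv X.S S t * (X.S.ok.xG d a * (X.S.ok.xG d' a' * v₀)) := by
        simp only [Pv, List.map_cons, List.prod_cons] at hS' ⊢
        rw [hS', ht'd, ht'd']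
        have e1 := (hcd d' (by simp) a').eq
        have e2 := (hcd d (by simp) a).eq
        have e3 := (set_commute (K := K) X.S hT hI''.posS hI''.comm (a := d') (b := d) (by simp) (by simp) a' a).eq
        simp only [Pv] at e1 e2
        calc _ = X.S.ok.xG d' a' * X.S.ok.xG d a * (List.map (fun r => X.S.ok.xG r (t r)) S).prod * v₀ := by group
          _ = X.S.ok.xG d a * (X.S.ok.xG d' a' * (List.map (fun r => X.S.ok.xG r (t r)) S).prod) * v₀ := by
            rw [e3]; group
          _ = (X.S.ok.xG d a * (List.map (fun r => X.S.ok.xG r (t r)) S).prod) * X.S.ok.xG d' a' * v₀ := by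
            rw [e1]; group
          _ = _ := by rw [e2]; group
      rw [← hPv] at h2 ⊢
      refine hG (d' :: d :: S, _) (by simp [N]) hI'' hc.stN ?_ t' ?_ ?_ v₀ hv₀ hv₀s h2
      · simp only [stS, List.all_eq_true, List.contains_eq_mem, decide_eq_true_eq]
        intro b hb'
        rcases List.mem_cons.1 hb' with rfl | hb'
        · rw [hd'def, (rh_spec X hW (hI.posR d hd)).1]; simp
        rcases List.mem_cons.1 hb' with rfl | hb'
        · simp [hd'def]
        · simp [hstS b hb']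
      · intro b hb'
        rcases List.mem_cons.1 hb' with rfl | hb'
        · rw [ht'd', ha']; simpa using ha
        rcases List.mem_cons.1 hb' with rfl | hb'
        · rw [ht'd]; exact ha
        · rw [ht'S b hb']; exact ht b hb'
      · intro b hb'
        rcases List.mem_cons.1 hb' with rfl | hb'
        · rw [hd'def, (rh_spec X hW (hI.posR d hd)).1, ← hd'def, ht'd', ht'd, ha', ff X hW]
        rcases List.mem_cons.1 hb' with rfl | hb'
        · rw [← hd'def, ht'd', ht'd, ha']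
        · rw [ht'S b hb', ht'S _ (hstS b hb')]; exact he b hb'

include hT hW in
/-- A fixed involution of the positive unipotent group reduces to a fixed product. -/
theorem reduce3 {L : List ℕ} (hL : okTree3 D Tb W fin L = true) {u : GL D.Idx K}
    (hu : u ∈ D.posUnipotent K) (hs : X.sig u = u) (h2 : u * u = 1) : Concl3 Tb fin X u := by
  simp only [okTree3, decide_eq_true_eq] at hL
  have hI : Inv (D := D) Tb [] (R0 D) := ⟨by simp, R0_testBit, List.nodup_nil, by simp, fun a ha x hx _ => by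
    exact R0_pos (ent_spec hT (ha.elim (by simp) (R0_testBit a)) hx).2.1⟩
  have hst : stab D W (R0 D) = true := by
    simp only [stab, List.all_eq_true, Bool.or_eq_true, Bool.not_eq_true']
    intro r _
    by_cases hr : (R0 D).testBit r = true
    · exact Or.inr (R0_pos (rh_spec X hW (R0_testBit r hr)).2.1)
    · simp only [Bool.not_eq_true] at hr; exact Or.inl hr
  have huR : u ∈ HR X.S (R0 D) := by
    rw [X.S.posUnipotent_eq] at hu
    have hle : X.S.Ugen K (D.nroots / 2) ≤ HR X.S (R0 D) := (Subgroup.closure_le _).2 fun g ⟨r, s, a, b, e⟩ =>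
      e ▸ xG_mem_HR X.S (R0_pos ⟨a, b⟩) s
    exact hle hu
  have := sound3 X hT hW L _ hL ([], R0 D) (by simp) hI hst (by simp [stS]) (fun _ => 1) (by simp)
    (fun a ha => by simp at ha) u huR hs (by simpa [Pv] using h2)
  simpa [Pv] using this

end Sound

end Cfsg.Lib.Chev.InvElim
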